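import Cfsg.Agent.Lib.S3Amalgam.Graph
import Cfsg.Agent.Lib.Elementary

/-!
A group acting edge-transitively on a bipartite graph of valency three, with finite vertex stabilisers,
local action the symmetric group of degree three, and edge stabilisers two-groups: walks, balls,
stabilisers.
-/

set_option autoImplicit false
set_option linter.unusedSectionVars false

namespace CfsgLib.CubicRadius

open MulAction CfsgLib.S3Amalgam

/-- A cubic edge-transitive action with symmetric local groups. -/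
structure Cubic (G : Type*) (Ω : Type*) [Group G] [MulAction G Ω] where
  Adj : Ω → Ω → Prop
  symm : ∀ {x y}, Adj x y → Adj y x
  equiv : ∀ (g : G) {x y}, Adj x y → Adj (g • x) (g • y)
  fin : ∀ x : Ω, Finite ↥(stabilizer G x)
  nbr : ∀ x, ∃ a b c, a ≠ b ∧ a ≠ c ∧ b ≠ c ∧ ∀ y, Adj x y ↔ y = a ∨ y = b ∨ y = c
  trans : ∀ {x y z}, Adj x y → Adj x z → ∃ g : G, g • x = x ∧ g • y = z
  swap : ∀ {x y z}, Adj x y → Adj x z → z ≠ y → ∃ g : G, g • x = x ∧ g • y = y ∧ g • z ≠ z
  edge : ∀ {x y u v}, Adj x y → Adj u v →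
    ∃ g : G, (g • x = u ∧ g • y = v) ∨ (g • x = v ∧ g • y = u)
  gen : ∀ {x y}, Adj x y → stabilizer G x ⊔ stabilizer G y = ⊤
  faith : ∀ g : G, (∀ x : Ω, g • x = x) → g = 1
  side : Ω → Prop
  side_smul : ∀ (g : G) (x : Ω), side (g • x) ↔ side x
  side_adj : ∀ {x y}, Adj x y → (side x ↔ ¬ side y)
  twoT : ∀ {x y}, Adj x y → IsPGroup 2 ↥(T (G := G) x y)

variable {G : Type*} [Group G] {Ω : Type*} [MulAction G Ω] (D : Cubic G Ω)

namespace Cubic

theorem adj_ne {x y : Ω} (h : D.Adj x y) : x ≠ y := by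
  rintro rfl
  have := D.side_adj h
  tauto

theorem adj_smul_of_fix {g : G} {x y : Ω} (hg : g • x = x) (h : D.Adj x y) : D.Adj x (g • y) := by
  have := D.equiv g h
  rwa [hg] at this

theorem third {x y z : Ω} (hy : D.Adj x y) (hz : D.Adj x z) (hne : z ≠ y) :
    ∃ w, D.Adj x w ∧ w ≠ y ∧ w ≠ z ∧ ∀ u, D.Adj x u → u = y ∨ u = z ∨ u = w := by
  obtain ⟨a, b, c, hab, hac, hbc, h⟩ := D.nbr x
  rcases (h y).mp hy with rfl | rfl | rfl <;> rcases (h z).mp hz with rfl | rfl | rfl
  all_goals first | exact absurd rfl hne | skip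
  · exact ⟨c, (h c).mpr (Or.inr (Or.inr rfl)), hac.symm, hbc.symm, fun u hu => by have := (h u).mp hu; tauto⟩
  · exact ⟨b, (h b).mpr (Or.inr (Or.inl rfl)), hab.symm, hbc, fun u hu => by have := (h u).mp hu; tauto⟩
  · exact ⟨c, (h c).mpr (Or.inr (Or.inr rfl)), hbc.symm, hac.symm, fun u hu => by have := (h u).mp hu; tauto⟩
  · exact ⟨a, (h a).mpr (Or.inl rfl), hab, hac, fun u hu => by have := (h u).mp hu; tauto⟩
  · exact ⟨b, (h b).mpr (Or.inr (Or.inl rfl)), hbc, hab.symm, fun u hu => by have := (h u).mp hu; tauto⟩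
  · exact ⟨a, (h a).mpr (Or.inl rfl), hac, hab, fun u hu => by have := (h u).mp hu; tauto⟩

/-- Three distinct neighbours are all the neighbours. -/
theorem nbr_cases {x y z w u : Ω} (hy : D.Adj x y) (hz : D.Adj x z) (hw : D.Adj x w) (h1 : z ≠ y)
    (h2 : w ≠ y) (h3 : w ≠ z) (hu : D.Adj x u) : u = y ∨ u = z ∨ u = w := by
  obtain ⟨w', -, -, -, hall⟩ := D.third hy hz h1
  rcases hall w hw with e | e | e
  · exact absurd e h2
  · exact absurd e h3
  · rcases hall u hu with r | r | r
    · exact Or.inl r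
    · exact Or.inr (Or.inl r)
    · exact Or.inr (Or.inr (r.trans e.symm))

theorem two_others {x y : Ω} (hy : D.Adj x y) :
    ∃ z w, D.Adj x z ∧ D.Adj x w ∧ z ≠ y ∧ w ≠ y ∧ z ≠ w := by
  obtain ⟨a, b, c, hab, hac, hbc, h⟩ := D.nbr x
  have ha : D.Adj x a := (h a).mpr (Or.inl rfl)
  have hb : D.Adj x b := (h b).mpr (Or.inr (Or.inl rfl))
  have hc : D.Adj x c := (h c).mpr (Or.inr (Or.inr rfl))
  rcases (h y).mp hy with rfl | rfl | rfl
  · exact ⟨b, c, hb, hc, hab.symm, hac.symm, hbc⟩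
  · exact ⟨a, c, ha, hc, hab, hbc.symm, hac⟩
  · exact ⟨a, b, ha, hb, hac, hbc, hab⟩

theorem exists_nbr (x : Ω) : ∃ y, D.Adj x y := by
  obtain ⟨a, _, _, _, _, _, h⟩ := D.nbr x
  exact ⟨a, (h a).mpr (Or.inl rfl)⟩

/-- An element fixing a vertex and two of its neighbours fixes the third. -/
theorem fix_third {x y z w : Ω} {g : G} (hy : D.Adj x y) (hz : D.Adj x z) (hw : D.Adj x w)
    (hne : z ≠ y) (gx : g • x = x) (gy : g • y = y) (gz : g • z = z) : g • w = w := by
  by_cases h1 : w = y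
  · rw [h1, gy]
  by_cases h2 : w = z
  · rw [h2, gz]
  rcases D.nbr_cases hy hz hw hne h1 h2 (D.adj_smul_of_fix gx hw) with e | e | e
  · exact absurd ((MulAction.injective g) (e.trans gy.symm)) h1
  · exact absurd ((MulAction.injective g) (e.trans gz.symm)) h2
  · exact e

/-- Elements of a vertex group realise any map of two ordered neighbours. -/
theorem pair_map {γ ε η ε' η' : Ω} (h1 : D.Adj γ ε) (h2 : D.Adj γ η) (hne : ε ≠ η)
    (h3 : D.Adj γ ε') (h4 : D.Adj γ η') (hne' : ε' ≠ η') :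
    ∃ g : G, g • γ = γ ∧ g • ε = ε' ∧ g • η = η' := by
  obtain ⟨g, hg, hge⟩ := D.trans h1 h3
  have hgη : g • η ≠ ε' := fun e => hne.symm ((MulAction.injective g) (e.trans hge.symm))
  by_cases he : g • η = η'
  · exact ⟨g, hg, hge, he⟩
  have h5 := D.adj_smul_of_fix hg h2
  obtain ⟨k, hk, hke, hkη⟩ := D.swap h3 h5 hgη
  refine ⟨k * g, by rw [mul_smul, hg, hk], by rw [mul_smul, hge, hke], ?_⟩
  rw [mul_smul]
  rcases D.nbr_cases h3 h5 h4 hgη hne'.symm (fun e => he e.symm) (D.adj_smul_of_fix hk h5) with e | e | e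
  · exact absurd ((MulAction.injective k) (e.trans hke.symm)) hgη
  · exact absurd e hkη
  · exact e

/-- The kernel of the action on the neighbours. -/
def Q (x : Ω) : Subgroup G where
  carrier := {q | q • x = x ∧ ∀ y, D.Adj x y → q • y = y}
  one_mem' := ⟨one_smul _ x, fun y _ => one_smul _ y⟩
  mul_mem' := by
    rintro a b ⟨ha, ha'⟩ ⟨hb, hb'⟩
    exact ⟨by rw [mul_smul, hb, ha], fun y h => by rw [mul_smul, hb' y h, ha' y h]⟩
  inv_mem' := by
    rintro a ⟨ha, ha'⟩
    exact ⟨inv_smul_eq_iff.mpr ha.symm, fun y h => inv_smul_eq_iff.mpr (ha' y h).symm⟩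

theorem Q_le_T {x y : Ω} (h : D.Adj x y) : D.Q x ≤ T x y := fun _ hq => ⟨hq.1, hq.2 y h⟩

theorem conj_Q {g q : G} {x : Ω} (hq : q ∈ D.Q x) : g * q * g⁻¹ ∈ D.Q (g • x) := by
  refine ⟨conj_fix hq.1, fun y hy => ?_⟩
  have h' : D.Adj x (g⁻¹ • y) := by
    have := D.equiv g⁻¹ hy
    rwa [inv_smul_smul] at this
  have := conj_fix (g := g) (hq.2 _ h')
  rwa [smul_inv_smul] at this

include D in
theorem finite_sub {x : Ω} {H : Subgroup G} (hH : H ≤ stabilizer G x) : Finite ↥H := by
  haveI := D.fin x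
  exact Finite.of_injective (Subgroup.inclusion hH) (Subgroup.inclusion_injective _)

/-- A subgroup containing an edge group and an element moving the neighbour contains the
vertex group. -/
theorem stab_le {x a : Ω} (ha : D.Adj x a) {H : Subgroup G} (hT : T x a ≤ H) {t : G}
    (ht : t ∈ H) (htx : t • x = x) (hta : t • a ≠ a) : stabilizer G x ≤ H := by
  have hta' := D.adj_smul_of_fix htx ha
  obtain ⟨w, hw, hwa, hwt, hall⟩ := D.third ha hta' hta
  obtain ⟨k, hk1, hk2, hk3⟩ := D.pair_map ha hta' hta.symm ha hw hwa.symm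
  intro g hg
  have hex : ∃ h ∈ H, h • x = x ∧ h • a = g • a := by
    rcases hall _ (D.adj_smul_of_fix hg ha) with h1 | h1 | h1
    · exact ⟨1, one_mem _, one_smul _ _, by rw [one_smul, h1]⟩
    · exact ⟨t, ht, htx, h1.symm⟩
    · exact ⟨k * t, mul_mem (hT ⟨hk1, hk2⟩) ht, by rw [mul_smul, htx, hk1],
        by rw [mul_smul, hk3, h1]⟩
  obtain ⟨h, hh, hhx, hha⟩ := hex
  have : h⁻¹ * g ∈ T x a := mem_T.mpr ⟨by rw [mul_smul, show g • x = x from hg, inv_smul_eq_iff, hhx],
    by rw [mul_smul, inv_smul_eq_iff, hha]⟩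
  simpa using mul_mem hh (hT this)

/-- Two distinct edge groups at a vertex generate the vertex group. -/
theorem stab_le_two {x a b : Ω} (ha : D.Adj x a) (hb : D.Adj x b) (hne : b ≠ a) {H : Subgroup G}
    (hTa : T x a ≤ H) (hTb : T x b ≤ H) : stabilizer G x ≤ H := by
  obtain ⟨g, h1, h2, h3⟩ := D.swap hb ha hne.symm
  exact D.stab_le ha hTa (hTb ⟨h1, h2⟩) h1 h3

theorem eq_smul {x y : Ω} (h : D.Adj x y) (u : Ω) : ∃ g : G, g • x = u ∨ g • y = u := by
  obtain ⟨v, hv⟩ := D.exists_nbr u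
  obtain ⟨g, hg | hg⟩ := D.edge h hv
  · exact ⟨g, Or.inl hg.1⟩
  · exact ⟨g, Or.inr hg.2⟩

/-- Vertices on the same side are conjugate, with neighbours prescribed. -/
theorem arc_map {x y u v : Ω} (h : D.Adj x y) (h' : D.Adj u v) (hs : D.side x ↔ D.side u) :
    ∃ g : G, g • x = u ∧ g • y = v := by
  obtain ⟨g, hg | hg⟩ := D.edge h h'
  · exact ⟨g, hg⟩
  · exfalso
    have h1 := D.side_smul g x
    rw [hg.1] at h1
    have h2 := D.side_adj h'
    tauto

theorem eq_bot_of_normalized {x y : Ω} (h : D.Adj x y) {N : Subgroup G} (hN : N ≤ T x y)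
    (hx : ∀ g : G, g • x = x → ∀ n ∈ N, g * n * g⁻¹ ∈ N)
    (hy : ∀ g : G, g • y = y → ∀ n ∈ N, g * n * g⁻¹ ∈ N) : N = ⊥ := by
  have hall : ∀ g : G, ∀ n ∈ N, g * n * g⁻¹ ∈ N := by
    intro g
    have hg : g ∈ stabilizer G x ⊔ stabilizer G y := by rw [D.gen h]; trivial
    rw [← Subgroup.closure_eq (stabilizer G x), ← Subgroup.closure_eq (stabilizer G y),
      ← Subgroup.closure_union] at hg
    induction hg using Subgroup.closure_induction_left with
    | one => intro n hn; simpa using hn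
    | mul_left a ha b _ ih =>
      intro n hn
      have := ih n hn
      rcases ha with ha | ha
      · simpa [mul_assoc] using hx a ha _ this
      · simpa [mul_assoc] using hy a ha _ this
    | inv_mul_cancel a ha b _ ih =>
      intro n hn
      have := ih n hn
      rcases ha with ha | ha
      · simpa [mul_assoc] using hx a⁻¹ (inv_mem ha : a⁻¹ ∈ stabilizer G x) _ this
      · simpa [mul_assoc] using hy a⁻¹ (inv_mem ha : a⁻¹ ∈ stabilizer G y) _ this
  rw [Subgroup.eq_bot_iff_forall]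
  intro n hn
  refine D.faith n fun u => ?_
  obtain ⟨g, hg⟩ := D.eq_smul h u
  have hm := hN (hall g⁻¹ n hn)
  rw [inv_inv] at hm
  rcases hg with rfl | rfl
  · have := conj_fix (g := g) hm.1
    rwa [show g * (g⁻¹ * n * g) * g⁻¹ = n by group] at this
  · have := conj_fix (g := g) hm.2
    rwa [show g * (g⁻¹ * n * g) * g⁻¹ = n by group] at this

theorem eq_one_of_central {x y : Ω} (h : D.Adj x y) {z : G} (hz : z ∈ T x y)
    (hx : ∀ g : G, g • x = x → g * z = z * g) (hy : ∀ g : G, g • y = y → g * z = z * g) :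
    z = 1 := by
  have hb : Subgroup.zpowers z = ⊥ := by
    have key : ∀ g : G, g * z = z * g → ∀ n ∈ Subgroup.zpowers z, g * n * g⁻¹ ∈
        Subgroup.zpowers z := by
      intro g hg n hn
      obtain ⟨i, rfl⟩ := Subgroup.mem_zpowers_iff.mp hn
      rw [((show Commute g z from hg).zpow_right i).eq, mul_inv_cancel_right]
      exact Subgroup.mem_zpowers_iff.mpr ⟨i, rfl⟩
    exact D.eq_bot_of_normalized h (Subgroup.zpowers_le.mpr hz)
      (fun g hg => key g (hx g hg)) (fun g hg => key g (hy g hg))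
  exact Subgroup.zpowers_eq_bot.mp hb

theorem Q_not_le {x y : Ω} (h : D.Adj x y) (hQ : D.Q (G := G) x ≠ ⊥) :
    ∃ q ∈ D.Q (G := G) x, q ∉ D.Q y := by
  by_contra hno
  have hle : D.Q (G := G) x ≤ D.Q y := fun q hq => by_contra fun e => hno ⟨q, hq, e⟩
  obtain ⟨z, w, hz, hw, hzy, hwy, hzw⟩ := D.two_others h
  have hge : D.Q (G := G) y ≤ D.Q x := by
    intro g hg
    by_contra hgx
    obtain ⟨a, b, ha, hb, hax, hbx, hab⟩ := D.two_others (D.symm h)
    obtain ⟨k, hk1, hk2, hk3⟩ := D.swap (D.symm h) ha hax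
    have hgx' : g • x = x := hg.2 x (D.symm h)
    have hgy : g • y = y := hg.1
    by_cases hkQ : k ∈ D.Q x
    · exact hk3 ((hle hkQ).2 a ha)
    have move : ∀ f : G, f • x = x → f • y = y → f ∉ D.Q x → f • z = w ∧ f • w = z := by
      intro f fx fy fQ
      have hfz : f • z ≠ z := fun e => fQ ⟨fx, fun u hu => D.fix_third h hz hu hzy fx fy e⟩
      have hfw : f • w ≠ w := fun e => fQ ⟨fx, fun u hu => D.fix_third h hw hu hwy fx fy e⟩
      constructor
      · rcases D.nbr_cases h hz hw hzy hwy hzw.symm (D.adj_smul_of_fix fx hz) with e | e | e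
        · exact absurd ((MulAction.injective f) (e.trans fy.symm)) hzy
        · exact absurd e hfz
        · exact e
      · rcases D.nbr_cases h hz hw hzy hwy hzw.symm (D.adj_smul_of_fix fx hw) with e | e | e
        · exact absurd ((MulAction.injective f) (e.trans fy.symm)) hwy
        · exact e
        · exact absurd e hfw
    have hmem : g * k ∈ D.Q x := by
      refine ⟨by rw [mul_smul, hk2, hgx'], fun u hu =>
        D.fix_third h hz hu hzy (by rw [mul_smul, hk2, hgx']) (by rw [mul_smul, hk1, hgy]) ?_⟩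
      rw [mul_smul, (move k hk2 hk1 hkQ).1, (move g hgx' hgy hgx).2]
    have hq := (hle hmem).2 a ha
    rw [mul_smul] at hq
    exact hk3 ((MulAction.injective g) (hq.trans (hg.2 a ha).symm))
  refine hQ (D.eq_bot_of_normalized h (D.Q_le_T h) (fun g hg n hn => ?_) fun g hg n hn => ?_)
  · have := D.conj_Q (g := g) hn
    rwa [hg] at this
  · have := D.conj_Q (g := g) (hle hn)
    rw [hg] at this
    exact hge this

/-! ### Distance and balls -/

/-- There is a walk of length at most `n` between the two vertices. -/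
def Near : ℕ → Ω → Ω → Prop
  | 0, a, b => a = b
  | n + 1, a, b => a = b ∨ ∃ c, D.Adj a c ∧ Near n c b

theorem near_refl : ∀ (n : ℕ) (a : Ω), D.Near n a a
  | 0, _ => rfl
  | _ + 1, _ => Or.inl rfl

theorem near_cons {n : ℕ} {a b c : Ω} (h : D.Adj a c) (h' : D.Near n c b) : D.Near (n + 1) a b :=
  Or.inr ⟨c, h, h'⟩

theorem near_succ : ∀ {n : ℕ} {a b : Ω}, D.Near n a b → D.Near (n + 1) a b
  | 0, _, _, h => Or.inl h
  | _ + 1, _, _, h => by
    rcases h with h | ⟨c, h1, h2⟩
    · exact Or.inl h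
    · exact Or.inr ⟨c, h1, near_succ h2⟩

theorem near_mono {n m : ℕ} (hnm : n ≤ m) {a b : Ω} (h : D.Near n a b) : D.Near m a b := by
  induction hnm with
  | refl => exact h
  | step _ ih => exact D.near_succ ih

theorem near_trans : ∀ {n m : ℕ} {a b c : Ω}, D.Near n a b → D.Near m b c → D.Near (n + m) a c
  | 0, _, _, _, _, h, h' => by
    have e : _ = _ := h
    subst e; rw [Nat.zero_add]; exact h'
  | n + 1, m, a, b, c, h, h' => by
    rcases h with h | ⟨u, h1, h2⟩
    · subst h; exact D.near_mono (by omega) h'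
    · rw [Nat.add_right_comm]; exact D.near_cons h1 (near_trans h2 h')

theorem near_adj {a b : Ω} (h : D.Adj a b) : D.Near 1 a b := D.near_cons h (D.near_refl 0 b)

theorem near_symm : ∀ {n : ℕ} {a b : Ω}, D.Near n a b → D.Near n b a
  | 0, _, _, h => Eq.symm h
  | n + 1, a, b, h => by
    rcases h with h | ⟨u, h1, h2⟩
    · exact Or.inl h.symm
    · exact D.near_trans (near_symm h2) (D.near_adj (D.symm h1))

theorem near_smul : ∀ {n : ℕ} (g : G) {a b : Ω}, D.Near n a b → D.Near n (g • a) (g • b)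
  | 0, g, _, _, h => congrArg (g • ·) h
  | _ + 1, g, _, _, h => by
    rcases h with h | ⟨u, h1, h2⟩
    · exact Or.inl (congrArg (g • ·) h)
    · exact Or.inr ⟨g • u, D.equiv g h1, near_smul g h2⟩

/-- Every vertex can be reached. -/
theorem connected (a v : Ω) : ∃ n, D.Near n a v := by
  obtain ⟨b, hab⟩ := D.exists_nbr a
  let H : Subgroup G :=
    { carrier := {g | ∃ n, D.Near n a (g • a)}
      one_mem' := ⟨0, (one_smul G a).symm⟩
      mul_mem' := by
        rintro g h ⟨n, hn⟩ ⟨m, hm⟩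
        exact ⟨n + m, mul_smul g h a ▸ D.near_trans hn (D.near_smul g hm)⟩
      inv_mem' := by
        rintro g ⟨n, hn⟩
        refine ⟨n, ?_⟩
        have := D.near_smul g⁻¹ (D.near_symm hn)
        rwa [inv_smul_smul] at this }
  have hH : ∀ g : G, g ∈ H := by
    have : stabilizer G a ⊔ stabilizer G b ≤ H := sup_le
      (fun g hg => ⟨0, (show g • a = a from hg).symm⟩)
      (fun g hg => ⟨2, D.near_cons hab (D.near_adj (by
        have := D.equiv g (D.symm hab)
        rwa [show g • b = b from hg] at this))⟩)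
    rw [D.gen hab] at this
    exact fun g => this (Subgroup.mem_top g)
  obtain ⟨g, h | h⟩ := D.eq_smul hab v
  · obtain ⟨n, hn⟩ := hH g
    exact ⟨n, h ▸ hn⟩
  · obtain ⟨n, hn⟩ := hH g
    exact ⟨n + 1, h ▸ D.near_trans hn (D.near_adj (D.equiv g hab))⟩

/-- The kernel of the action on a ball. -/
def ball (n : ℕ) (y : Ω) : Subgroup G where
  carrier := {g | ∀ v, D.Near n y v → g • v = v}
  one_mem' := fun v _ => one_smul G v
  mul_mem' := fun ha hb v hv => by rw [mul_smul, hb v hv, ha v hv]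
  inv_mem' := fun ha v hv => inv_smul_eq_iff.mpr (ha v hv).symm

theorem mem_ball {n : ℕ} {y : Ω} {g : G} : g ∈ D.ball n y ↔ ∀ v, D.Near n y v → g • v = v := Iff.rfl

theorem ball_le_stab (n : ℕ) (y : Ω) : D.ball (G := G) n y ≤ stabilizer G y :=
  fun _ hg => hg y (D.near_refl n y)

theorem ball_anti {n m : ℕ} (h : n ≤ m) (y : Ω) : D.ball (G := G) m y ≤ D.ball n y :=
  fun _ hg v hv => hg v (D.near_mono h hv)

theorem conj_ball {g q : G} {n : ℕ} {y : Ω} (hq : q ∈ D.ball n y) :
    g * q * g⁻¹ ∈ D.ball n (g • y) := by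
  intro v hv
  have h' : D.Near n y (g⁻¹ • v) := by
    have := D.near_smul g⁻¹ hv
    rwa [inv_smul_smul] at this
  have := conj_fix (g := g) (hq _ h')
  rwa [smul_inv_smul] at this

/-! ### Walks without backtracking -/

/-- A walk without backtracking of length `L`. -/
def Wk (L : ℕ) (p : ℕ → Ω) : Prop :=
  (∀ i < L, D.Adj (p i) (p (i + 1))) ∧ ∀ i, i + 2 ≤ L → p (i + 2) ≠ p i

theorem wk_adj {L : ℕ} {p : ℕ → Ω} (h : D.Wk L p) {i : ℕ} (hi : i + 1 ≤ L) :
    D.Adj (p i) (p (i + 1)) := h.1 i hi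

theorem wk_ne {L : ℕ} {p : ℕ → Ω} (h : D.Wk L p) {i : ℕ} (hi : i + 2 ≤ L) : p (i + 2) ≠ p i :=
  h.2 i hi

theorem wk_mono {L M : ℕ} {p : ℕ → Ω} (h : D.Wk L p) (hM : M ≤ L) : D.Wk M p :=
  ⟨fun i hi => h.1 i (by omega), fun i hi => h.2 i (by omega)⟩

theorem wk_shift {L M k : ℕ} {p : ℕ → Ω} (h : D.Wk L p) (hk : M + k ≤ L) :
    D.Wk M (fun i => p (i + k)) :=
  ⟨fun i hi => by
      simp only [Nat.add_right_comm i 1 k]
      exact h.1 _ (by omega),
   fun i hi => by
      simp only [Nat.add_right_comm i 2 k]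
      exact h.2 _ (by omega)⟩

theorem wk_smul {L : ℕ} {p : ℕ → Ω} (h : D.Wk L p) (g : G) : D.Wk L (fun i => g • p i) :=
  ⟨fun i hi => D.equiv g (h.1 i hi), fun i hi e => h.2 i hi (MulAction.injective g e)⟩

theorem wk_rev {L : ℕ} {p : ℕ → Ω} (h : D.Wk L p) : D.Wk L (fun i => p (L - i)) := by
  refine ⟨fun i hi => ?_, fun i hi => ?_⟩
  · have := D.symm (h.1 (L - (i + 1)) (by omega))
    rwa [show L - (i + 1) + 1 = L - i by omega] at this
  · have := (h.2 (L - (i + 2)) (by omega)).symm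
    rwa [show L - (i + 2) + 2 = L - i by omega] at this

theorem near_wk {L : ℕ} {p : ℕ → Ω} (h : D.Wk L p) : ∀ {i j : ℕ}, i ≤ j → j ≤ L →
    D.Near (j - i) (p i) (p j) := by
  intro i j hij
  induction hij with
  | refl => intro _; exact D.near_refl _ _
  | @step m hm ih =>
    intro hj
    have hm' : i ≤ m := hm
    have := D.near_trans (ih (by omega)) (D.near_adj (h.1 m (by omega)))
    rwa [show m - i + 1 = m.succ - i by omega] at this

/-- A walk of a given length from a vertex through a neighbour. -/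
theorem exists_wk {a b : Ω} (h : D.Adj a b) : ∀ L, ∃ p : ℕ → Ω, p 0 = a ∧ p 1 = b ∧ D.Wk L p := by
  intro L
  induction L with
  | zero =>
    exact ⟨fun i => if i = 0 then a else b, rfl, rfl, fun i hi => absurd hi (by omega),
      fun i hi => absurd hi (by omega)⟩
  | succ L ih =>
    obtain ⟨p, h0, h1, hp⟩ := ih
    rcases Nat.eq_zero_or_pos L with hL | hL
    · subst hL
      refine ⟨p, h0, h1, fun i hi => ?_, fun i hi => absurd hi (by omega)⟩
      obtain rfl : i = 0 := by omega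
      rw [h0, h1]; exact h
    · have ha : D.Adj (p L) (p (L - 1)) := by
        have := D.symm (hp.1 (L - 1) (by omega))
        rwa [show L - 1 + 1 = L by omega] at this
      obtain ⟨z, -, hz, -, hzne, -, -⟩ := D.two_others ha
      refine ⟨fun i => if i ≤ L then p i else z, by simp [h0], by simp [show 1 ≤ L from hL, h1],
        fun i hi => ?_, fun i hi => ?_⟩
      · rcases Nat.lt_or_ge i L with e | e
        · simp only [if_pos (show i ≤ L by omega), if_pos (show i + 1 ≤ L by omega)]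
          exact hp.1 i e
        · obtain rfl : i = L := by omega
          simp only [if_pos le_rfl, if_neg (show ¬ i + 1 ≤ i by omega)]
          exact hz
      · rcases Nat.lt_or_ge (i + 1) L with e | e
        · simp only [if_pos (show i ≤ L by omega), if_pos (show i + 2 ≤ L by omega)]
          exact hp.2 i e
        · simp only [if_pos (show i ≤ L by omega), if_neg (show ¬ i + 2 ≤ L by omega)]
          rwa [show i = L - 1 by omega]

/-- A walk of length at most `n` can be replaced by one without backtracking. -/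
theorem exists_wk_of_near : ∀ {n : ℕ} {a b : Ω}, D.Near n a b →
    ∃ m ≤ n, ∃ p : ℕ → Ω, D.Wk m p ∧ p 0 = a ∧ p m = b
  | 0, a, _, h => ⟨0, le_rfl, fun _ => a, ⟨fun i hi => absurd hi (by omega),
      fun i hi => absurd hi (by omega)⟩, rfl, h⟩
  | n + 1, a, b, h => by
    rcases h with h | ⟨c, h1, h2⟩
    · exact ⟨0, Nat.zero_le _, fun _ => a, ⟨fun i hi => absurd hi (by omega),
        fun i hi => absurd hi (by omega)⟩, rfl, h⟩
    obtain ⟨m, hm, p, hp, h0, hpm⟩ := exists_wk_of_near h2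
    by_cases hback : 1 ≤ m ∧ p 1 = a
    · exact ⟨m - 1, by omega, fun i => p (i + 1), D.wk_shift hp (by omega), hback.2, by
        show p (m - 1 + 1) = b
        rwa [show m - 1 + 1 = m by omega]⟩
    · refine ⟨m + 1, by omega, fun i => if i = 0 then a else p (i - 1), ⟨fun i hi => ?_, fun i hi => ?_⟩,
        by simp, by simp [hpm]⟩
      · rcases Nat.eq_zero_or_pos i with rfl | hi'
        · simp only [if_pos rfl, Nat.zero_add, if_neg (show (1 : ℕ) ≠ 0 by omega), Nat.sub_self]
          rw [h0]; exact h1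
        · simp only [if_neg (show i ≠ 0 by omega), if_neg (show i + 1 ≠ 0 by omega),
            Nat.add_sub_cancel]
          have := hp.1 (i - 1) (by omega)
          rwa [show i - 1 + 1 = i by omega] at this
      · rcases Nat.eq_zero_or_pos i with rfl | hi'
        · simp only [if_pos rfl, Nat.zero_add, if_neg (show (2 : ℕ) ≠ 0 by omega)]
          exact fun e => hback ⟨by omega, e⟩
        · simp only [if_neg (show i ≠ 0 by omega), if_neg (show i + 2 ≠ 0 by omega)]
          have := hp.2 (i - 1) (by omega)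
          rwa [show i - 1 + 2 = i + 2 - 1 by omega] at this

theorem wk_side {L : ℕ} {p : ℕ → Ω} (h : D.Wk L p) :
    ∀ i ≤ L, (D.side (p i) ↔ (D.side (p 0) ↔ Even i)) := by
  intro i
  induction i with
  | zero => intro _; simp
  | succ i ih =>
    intro hi
    have h1 := ih (by omega)
    have h2 := D.side_adj (h.1 i (by omega))
    have h3 : Even (i + 1) ↔ ¬ Even i := Nat.even_add_one
    tauto

/-! ### Counting -/

/-- Fixing one more neighbour of a fixed vertex costs at most a factor two. -/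
theorem card_step {a b w : Ω} {H : Subgroup G} (hab : D.Adj a b) (haw : D.Adj a w)
    (ha : H ≤ stabilizer G a) (hb : H ≤ stabilizer G b) :
    Nat.card ↥H ≤ 2 * Nat.card ↥(H ⊓ stabilizer G w) := by
  classical
  haveI := D.finite_sub ha
  haveI : Finite ↥(H ⊓ stabilizer G w) := D.finite_sub (inf_le_left.trans ha)
  by_cases hall : ∀ h ∈ H, h • w = w
  · rw [show H ⊓ stabilizer G w = H from inf_eq_left.mpr fun h hh => hall h hh]; omega
  simp only [not_forall] at hall
  obtain ⟨k, hk, hkw⟩ := hall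
  have hwb : w ≠ b := fun e => hkw (e ▸ hb hk)
  have key : ∀ h ∈ H, h • w = w ∨ h • w = k • w := by
    intro h hh
    rcases D.nbr_cases hab haw (D.adj_smul_of_fix (ha hk) haw) hwb
      (fun e => hwb ((MulAction.injective k) (e.trans (hb hk : k • b = b).symm))) hkw
      (D.adj_smul_of_fix (ha hh) haw) with e | e | e
    · exact absurd ((MulAction.injective h) (e.trans (hb hh : h • b = b).symm)) hwb
    · exact Or.inl e
    · exact Or.inr e
  let f : ↥(H ⊓ stabilizer G w) × Bool → ↥H := fun p =>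
    ⟨if p.2 then k * p.1.1 else p.1.1, by
      split
      · exact mul_mem hk p.1.2.1
      · exact p.1.2.1⟩
  have hsurj : Function.Surjective f := by
    rintro ⟨h, hh⟩
    rcases key h hh with e | e
    · exact ⟨(⟨h, hh, e⟩, false), rfl⟩
    · exact ⟨(⟨k⁻¹ * h, (H.mul_mem (H.inv_mem hk) hh),
        show (k⁻¹ * h) • w = w by rw [mul_smul, e, inv_smul_smul]⟩, true), by simp [f]⟩
  calc Nat.card ↥H ≤ Nat.card (↥(H ⊓ stabilizer G w) × Bool) := Nat.card_le_card_of_surjective f hsurj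
    _ = 2 * Nat.card ↥(H ⊓ stabilizer G w) := by simp [Nat.card_prod, mul_comm]

/-- A nontrivial subgroup of a vertex group normalised by an edge group contains an involution
centralised by the edge group. -/
theorem exists_central {x y : Ω} (h : D.Adj x y) {A : Subgroup G} (hA : A ≤ T x y)
    (hne : A ≠ ⊥) (hn : ∀ t ∈ T (G := G) x y, ∀ a ∈ A, t * a * t⁻¹ ∈ A) :
    ∃ a ∈ A, a ≠ 1 ∧ a * a = 1 ∧ ∀ t ∈ T (G := G) x y, t * a = a * t := by
  haveI : Finite ↥(T (G := G) x y) := D.finite_sub (inf_le_left : T x y ≤ stabilizer G x)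
  set P := T (G := G) x y with hP
  set A' : Subgroup ↥P := A.subgroupOf P with hA'
  haveI : A'.Normal := ⟨fun a ha g => by
    rw [hA', Subgroup.mem_subgroupOf] at ha ⊢
    simpa using hn g g.2 a ha⟩
  have hA'ne : A' ≠ ⊥ := by
    intro e
    obtain ⟨a, ha, ha1⟩ := (Subgroup.bot_or_exists_ne_one A).resolve_left hne
    have : (⟨a, hA ha⟩ : ↥P) ∈ A' := Subgroup.mem_subgroupOf.mpr ha
    rw [e, Subgroup.mem_bot] at this
    exact ha1 (congrArg Subtype.val this)
  haveI : Fact (Nat.Prime 2) := ⟨Nat.prime_two⟩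
  have hpg : IsPGroup 2 ↥P := D.twoT h
  haveI : Group.IsNilpotent ↥P := hpg.isNilpotent
  set Z : Subgroup ↥P := A' ⊓ Subgroup.center ↥P with hZ
  have hZne : Z ≠ ⊥ := CfsgLib.inf_center_ne_bot_of_nilpotent hA'ne
  haveI : Nontrivial ↥Z := Z.nontrivial_iff_ne_bot.mpr hZne
  have hZpg : IsPGroup 2 ↥Z := hpg.to_subgroup Z
  obtain ⟨n, hn0, hn⟩ := hZpg.nontrivial_iff_card.mp inferInstance
  obtain ⟨c, hc⟩ := exists_prime_orderOf_dvd_card' (G := ↥Z) 2 (hn ▸ dvd_pow_self 2 (ne_of_gt hn0))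
  refine ⟨((c : ↥P) : G), Subgroup.mem_subgroupOf.mp c.2.1, fun e => ?_, ?_, fun t ht => ?_⟩
  · have h1 : c = 1 := Subtype.ext (Subtype.ext e)
    rw [h1, orderOf_one] at hc
    omega
  · have h1 := pow_orderOf_eq_one c
    rw [hc, pow_two] at h1
    exact congrArg (fun u : ↥Z => ((u : ↥P) : G)) h1
  · exact congrArg Subtype.val (Subgroup.mem_center_iff.mp c.2.2 ⟨t, ht⟩)

end Cubic

end CfsgLib.CubicRadius
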