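import Cfsg.Agent.Lib.CubicRadius.Basic
import Cfsg.Agent.Lib.S3Amalgam.Build
import Cfsg.Agent.Lib.AmalgamBasic

/-!
The cubic action attached to two finite groups with symmetric residues of degree three.
-/

set_option autoImplicit false

namespace CfsgLib.CubicRadius

open Cfsg MulAction CfsgLib.S3Amalgam

variable {G : Type*} [Group G]

/-- What is used about one of the two groups. -/
structure Half (P T : Subgroup G) : Prop where
  le : T ≤ P
  fin : Finite ↥P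
  two : IsPGroup 2 ↥T
  three : ∃ p q : G, p ∈ P ∧ q ∈ P ∧ p ∉ T ∧ q ∉ T ∧ p⁻¹ * q ∉ T ∧
    ∀ x ∈ P, x ∈ T ∨ p⁻¹ * x ∈ T ∨ q⁻¹ * x ∈ T
  selfn : ∀ p ∈ P, p ∉ T → ∃ t ∈ T, p⁻¹ * t * p ∉ T

theorem Half.subgroupOf {P T H : Subgroup G} (h : Parab P T) (hfin : Finite ↥P) (htwo : IsPGroup 2 ↥T)
    (hH : P ≤ H) : Half (P.subgroupOf H) (T.subgroupOf H) := by
  have hTH : T ≤ H := h.le.trans hH
  refine ⟨fun x hx => h.le hx, Finite.of_equiv _ (Subgroup.subgroupOfEquivOfLe hH).symm.toEquiv,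
    htwo.of_equiv (Subgroup.subgroupOfEquivOfLe hTH).symm, ?_, fun p hp hpT => ?_⟩
  · obtain ⟨p, q, hp, hq, h1, h2, h3, h4⟩ := h.three
    exact ⟨⟨p, hH hp⟩, ⟨q, hH hq⟩, hp, hq, h1, h2, h3, fun x hx => h4 x hx⟩
  · obtain ⟨t, ht, ht'⟩ := h.selfn (p : G) hp hpT
    exact ⟨⟨t, hTH ht⟩, ht, ht'⟩

variable {Ω : Type*} [MulAction G Ω]

/-- The local properties at a vertex. -/
structure Loc3 (a b x : Ω) : Prop where
  fin : Finite ↥(stabilizer G x)
  nbr : ∃ p q r, p ≠ q ∧ p ≠ r ∧ q ≠ r ∧ ∀ y, EdgeAdj (G := G) a b x y ↔ y = p ∨ y = q ∨ y = r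
  trans : ∀ {y z}, EdgeAdj (G := G) a b x y → EdgeAdj (G := G) a b x z →
    ∃ g : G, g • x = x ∧ g • y = z
  swap : ∀ {y z}, EdgeAdj (G := G) a b x y → EdgeAdj (G := G) a b x z → z ≠ y →
    ∃ g : G, g • x = x ∧ g • y = y ∧ g • z ≠ z

theorem Loc3.smul' {a b x : Ω} (k : G) (h : Loc3 (G := G) a b x) : Loc3 (G := G) a b (k • x) := by
  have pull : ∀ {y}, EdgeAdj (G := G) a b (k • x) y → EdgeAdj (G := G) a b x (k⁻¹ • y) :=
    fun {y} hy => by simpa using hy.smul' k⁻¹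
  have fixb : ∀ {g : G} {u : Ω}, g • k • u = k • u → (k⁻¹ * g * k) • u = u := fun {g u} hg => by
    rw [mul_smul, mul_smul, hg, inv_smul_smul]
  have fixf : ∀ {g : G} {u : Ω}, g • u = u → (k * g * k⁻¹) • k • u = k • u := fun {g u} hg => by
    rw [mul_smul, mul_smul, inv_smul_smul, hg]
  refine ⟨?_, ?_, fun {y z} hy hz => ?_, fun {y z} hy hz hne => ?_⟩
  · haveI := h.fin
    refine Finite.of_injective (β := ↥(stabilizer G x)) (fun g => ⟨k⁻¹ * g.1 * k, fixb g.2⟩)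
      fun g g' e => ?_
    have e' := congrArg Subtype.val e
    exact Subtype.ext (mul_left_cancel (mul_right_cancel e'))
  · obtain ⟨p, q, r, h1, h2, h3, h4⟩ := h.nbr
    refine ⟨k • p, k • q, k • r, fun e => h1 (MulAction.injective k e),
      fun e => h2 (MulAction.injective k e), fun e => h3 (MulAction.injective k e), fun y => ?_⟩
    constructor
    · intro hy
      rcases (h4 _).mp (pull hy) with e | e | e <;> simp [← e]
    · rintro (rfl | rfl | rfl)
      · exact ((h4 p).mpr (Or.inl rfl)).smul' k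
      · exact ((h4 q).mpr (Or.inr (Or.inl rfl))).smul' k
      · exact ((h4 r).mpr (Or.inr (Or.inr rfl))).smul' k
  · obtain ⟨g, hg, hgy⟩ := h.trans (pull hy) (pull hz)
    refine ⟨k * g * k⁻¹, fixf hg, ?_⟩
    rw [mul_smul, mul_smul, hgy, smul_inv_smul]
  · obtain ⟨g, hg, hgy, hgz⟩ := h.swap (pull hy) (pull hz) (fun e => hne (MulAction.injective k⁻¹ e))
    refine ⟨k * g * k⁻¹, fixf hg, by rw [mul_smul, mul_smul, hgy, smul_inv_smul], fun e => hgz ?_⟩
    rw [mul_smul, mul_smul] at e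
    exact (eq_inv_smul_iff.mpr e)

theorem Loc3.flip {a b x : Ω} (h : Loc3 (G := G) b a x) : Loc3 (G := G) a b x := by
  obtain ⟨h1, h2, h3, h4⟩ := h
  rw [← edgeAdj_comm (G := G) a b] at h2
  refine ⟨h1, h2, ?_, ?_⟩ <;> rw [edgeAdj_comm (G := G) a b]
  exacts [h3, h4]

/-- The local properties at one end of the generating edge. -/
theorem loc3_base {a b : Ω} {P T : Subgroup G} (hP : Half P T)
    (ha : ∀ g : G, g • a = a ↔ g ∈ P) (hT : ∀ g : G, g • a = a → (g • b = b ↔ g ∈ T))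
    (hab : ∀ g : G, g • b ≠ a) : Loc3 (G := G) a b a := by
  have hadj : ∀ y, EdgeAdj (G := G) a b a y ↔ ∃ p ∈ P, p • b = y := by
    intro y
    constructor
    · rintro ⟨g, ⟨h1, h2⟩ | ⟨h1, h2⟩⟩
      · exact ⟨g, (ha g).mp h1, h2⟩
      · exact absurd h2 (hab g)
    · rintro ⟨p, hp, rfl⟩
      exact ⟨p, Or.inl ⟨(ha p).mpr hp, rfl⟩⟩
  have heq : ∀ p ∈ P, ∀ q ∈ P, p • b = q • b ↔ p⁻¹ * q ∈ T := by
    intro p hp q hq
    rw [← hT _ ((ha _).mpr (mul_mem (inv_mem hp) hq)), mul_smul, inv_smul_eq_iff, eq_comm]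
  refine ⟨?_, ?_, fun {y z} hy hz => ?_, fun {y z} hy hz hne => ?_⟩
  · haveI := hP.fin
    exact Finite.of_injective (β := ↥P) (fun g => ⟨g.1, (ha _).mp g.2⟩)
      fun g g' e => Subtype.ext (by simpa using e)
  · obtain ⟨p, q, hp, hq, h1, h2, h3, h4⟩ := hP.three
    refine ⟨b, p • b, q • b, fun e => h1 ?_, fun e => h2 ?_, fun e => h3 ((heq p hp q hq).mp e),
      fun y => ⟨fun hy => ?_, ?_⟩⟩
    · exact ((hT p ((ha p).mpr hp)).mp e.symm)
    · exact ((hT q ((ha q).mpr hq)).mp e.symm)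
    · obtain ⟨x, hx, rfl⟩ := (hadj y).mp hy
      rcases h4 x hx with r | r | r
      · exact Or.inl ((hT x ((ha x).mpr hx)).mpr r)
      · exact Or.inr (Or.inl ((heq p hp x hx).mpr r).symm)
      · exact Or.inr (Or.inr ((heq q hq x hx).mpr r).symm)
    · rintro (rfl | rfl | rfl)
      · exact (hadj _).mpr ⟨1, one_mem _, one_smul _ _⟩
      · exact (hadj _).mpr ⟨p, hp, rfl⟩
      · exact (hadj _).mpr ⟨q, hq, rfl⟩
  · obtain ⟨p, hp, rfl⟩ := (hadj y).mp hy
    obtain ⟨q, hq, rfl⟩ := (hadj z).mp hz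
    exact ⟨q * p⁻¹, (ha _).mpr (mul_mem hq (inv_mem hp)), by rw [mul_smul, inv_smul_smul]⟩
  · obtain ⟨p, hp, rfl⟩ := (hadj y).mp hy
    obtain ⟨q, hq, rfl⟩ := (hadj z).mp hz
    have hr : p⁻¹ * q ∉ T := fun e => hne ((heq p hp q hq).mpr e).symm
    obtain ⟨t, ht, ht'⟩ := hP.selfn _ (mul_mem (inv_mem hp) hq) hr
    have htP := hP.le ht
    refine ⟨p * t * p⁻¹, (ha _).mpr (mul_mem (mul_mem hp htP) (inv_mem hp)), ?_, fun e => ht' ?_⟩
    · rw [mul_smul, mul_smul, inv_smul_smul, (hT t ((ha t).mpr htP)).mpr ht]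
    · rw [← mul_smul, eq_comm, heq q hq _ (mul_mem (mul_mem (mul_mem hp htP) (inv_mem hp)) hq)] at e
      simpa [mul_assoc] using e

/-- The cubic action of an edge. -/
def Cubic.ofEdge (a b : Ω) (side : Ω → Prop) (hside : ∀ (g : G) (x : Ω), side (g • x) ↔ side x)
    (hsa : side a) (hsb : ¬ side b) (hall : ∀ u : Ω, ∃ g : G, g • a = u ∨ g • b = u)
    (hgen : stabilizer G a ⊔ stabilizer G b = ⊤) (hfaith : ∀ g : G, (∀ x : Ω, g • x = x) → g = 1)
    (hA : Loc3 (G := G) a b a) (hB : Loc3 (G := G) a b b) (h2 : IsPGroup 2 ↥(S3Amalgam.T (G := G) a b)) :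
    Cubic G Ω :=
  have hloc : ∀ x, Loc3 (G := G) a b x := fun x => by
    obtain ⟨g, rfl | rfl⟩ := hall x
    exacts [hA.smul' g, hB.smul' g]
  { Adj := EdgeAdj (G := G) a b
    symm := fun h => h.symm'
    equiv := fun g _ _ h => h.smul' g
    fin := fun x => (hloc x).fin
    nbr := fun x => (hloc x).nbr
    trans := fun h h' => (hloc _).trans h h'
    swap := fun h h' hne => (hloc _).swap h h' hne
    edge := by
      rintro x y u v ⟨g, hg⟩ ⟨k, hk⟩
      refine ⟨k * g⁻¹, ?_⟩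
      rcases hg with ⟨rfl, rfl⟩ | ⟨rfl, rfl⟩ <;> rcases hk with ⟨h1, h2⟩ | ⟨h1, h2⟩ <;>
        simp [mul_smul, h1, h2]
    gen := by
      intro x y hxy
      have key : ∀ g : G, stabilizer G (g • a) ⊔ stabilizer G (g • b) = ⊤ := by
        intro g
        rw [stabilizer_smul_eq_stabilizer_map_conj, stabilizer_smul_eq_stabilizer_map_conj,
          ← Subgroup.map_sup, hgen]
        exact Subgroup.map_top_of_surjective _ (MulAut.conj g).surjective
      obtain ⟨g, ⟨rfl, rfl⟩ | ⟨rfl, rfl⟩⟩ := hxy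
      · exact key g
      · rw [sup_comm]; exact key g
    faith := hfaith
    side := side
    side_smul := hside
    side_adj := by
      rintro x y ⟨g, ⟨rfl, rfl⟩ | ⟨rfl, rfl⟩⟩ <;> simp [hside, hsa, hsb]
    twoT := by
      intro x y hxy
      have key : ∀ g : G, IsPGroup 2 ↥(S3Amalgam.T (G := G) (g • a) (g • b)) := by
        intro g
        have e : S3Amalgam.T (G := G) (g • a) (g • b)
            = (S3Amalgam.T (G := G) a b).map (MulAut.conj g).toMonoidHom := by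
          unfold S3Amalgam.T
          rw [stabilizer_smul_eq_stabilizer_map_conj, stabilizer_smul_eq_stabilizer_map_conj,
            ← Subgroup.map_inf _ _ _ (MulAut.conj g).injective]
        rw [e]
        exact h2.map _
      obtain ⟨g, ⟨rfl, rfl⟩ | ⟨rfl, rfl⟩⟩ := hxy
      · exact key g
      · rw [T_comm]; exact key g }

end CfsgLib.CubicRadius
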