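import Cfsg.Agent.Lib.CubicRadius.Basic

/-!
The central involutions attached to the vertices of one side, and the radius of the ball they fix.
-/

set_option autoImplicit false
set_option linter.unusedSectionVars false

namespace CfsgLib.CubicRadius

open MulAction CfsgLib.S3Amalgam

variable {G : Type*} [Group G] {Ω : Type*} [MulAction G Ω]

/-- Central involutions of maximal radius on one side of the graph. -/
structure Centred (D : Cubic G Ω) where
  isY : Ω → Prop
  isY_smul : ∀ (g : G) (x : Ω), isY (g • x) ↔ isY x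
  isY_adj : ∀ {x y}, D.Adj x y → (isY x ↔ ¬ isY y)
  z : Ω → G
  R : ℕ
  z_sq : ∀ {y}, isY y → z y * z y = 1
  z_ne : ∀ {y}, isY y → z y ≠ 1
  z_cent : ∀ {y}, isY y → ∀ g : G, g • y = y → g * z y = z y * g
  z_conj : ∀ (g : G) {y}, isY y → z (g • y) = g * z y * g⁻¹
  z_ball : ∀ {y}, isY y → z y ∈ D.ball (G := G) R y
  z_moved : ∀ {y}, isY y → ∃ v, D.Near (R + 1) y v ∧ z y • v ≠ v
  maximal : ∀ {y}, isY y → ∀ g : G, g * g = 1 → (∀ h : G, h • y = y → h * g = g * h) →
    g ∈ D.ball (R + 1) y → g = 1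
  hz : ∀ {y x}, isY y → D.Adj y x → ∀ g ∈ zed (G := G) (T y x), ∀ h : G, h • y = y → h * g = g * h
  cent : ∀ (x : Ω) (g : G), g • x = x →
    (∀ q : G, q • x = x → (∀ y, D.Adj x y → q • y = y) → g * q = q * g) → ∀ y, D.Adj x y → g • y = y

namespace Centred

variable {D : Cubic G Ω} (C : Centred D)

theorem z_fix {y : Ω} (hy : C.isY y) : C.z y • y = y := C.z_ball hy y (D.near_refl _ _)

theorem isY_two {a b c : Ω} (h : D.Adj a b) (h' : D.Adj b c) : C.isY c ↔ C.isY a := by
  have h1 := C.isY_adj h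
  have h2 := C.isY_adj h'
  tauto

theorem isY_wk {L : ℕ} {p : ℕ → Ω} (h : D.Wk L p) (h0 : C.isY (p 0)) :
    ∀ i ≤ L, (C.isY (p i) ↔ Even i) := by
  intro i
  induction i with
  | zero => intro _; simp [h0]
  | succ i ih =>
    intro hi
    have h1 := ih (by omega)
    have h2 := C.isY_adj (h.1 i (by omega))
    have h3 : Even (i + 1) ↔ ¬ Even i := Nat.even_add_one
    tauto

theorem isY_at {L : ℕ} {p : ℕ → Ω} (h : D.Wk L p) (h0 : C.isY (p 0)) {i : ℕ} (hi : i ≤ L)
    (he : i % 2 = 0) : C.isY (p i) :=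
  (C.isY_wk h h0 i hi).mpr (Nat.even_iff.mpr he)

theorem z_mem_zed {y x : Ω} (hy : C.isY y) (h : D.Adj y x) : C.z y ∈ zed (T y x) := by
  have hfy := C.z_fix hy
  have hnb : ∀ u, D.Adj y u → C.z y • u = u := fun u hu =>
    C.cent y (C.z y) hfy (fun q hq _ => (C.z_cent hy q hq).symm) u hu
  exact ⟨⟨hfy, hnb x h⟩, C.z_sq hy, fun g hg => C.z_cent hy g hg.1⟩

theorem z_mem_Q {y x : Ω} (hy : C.isY y) (h : D.Adj y x) : C.z y ∈ D.Q (G := G) x := by
  have hz := C.z_mem_zed hy h
  refine ⟨hz.1.2, C.cent x _ hz.1.2 fun q hq hq' => (hz.2.2 q ⟨hq' y (D.symm h), hq⟩).symm⟩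

include C in
theorem Q_ne_bot (x : Ω) : D.Q (G := G) x ≠ ⊥ := by
  obtain ⟨u, hu⟩ := D.exists_nbr x
  intro e
  by_cases hx : C.isY x
  · have hm : C.z x ∈ D.Q (G := G) x := ⟨C.z_fix hx, fun v hv => (C.z_mem_zed hx hv).1.2⟩
    rw [e, Subgroup.mem_bot] at hm
    exact C.z_ne hx hm
  · have hu' : C.isY u := by have := C.isY_adj hu; tauto
    have hm := C.z_mem_Q hu' (D.symm hu)
    rw [e, Subgroup.mem_bot] at hm
    exact C.z_ne hu' hm

theorem two_le_R {y : Ω} (hy : C.isY y) : 2 ≤ C.R := by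
  by_contra hR
  obtain ⟨v, hv, hne⟩ := C.z_moved hy
  apply hne
  rcases D.near_mono (show C.R + 1 ≤ 2 by omega) hv with e | ⟨c, h1, e | ⟨d, h2, h3⟩⟩
  · rw [← e]; exact C.z_fix hy
  · rw [← e]; exact (C.z_mem_zed hy h1).1.2
  · rw [← (show d = v from h3)]; exact (C.z_mem_Q hy h1).2 d h2

theorem comm {a b : Ω} (ha : C.isY a) (hb : C.isY b) (h : D.Near C.R a b) :
    C.z a * C.z b = C.z b * C.z a :=
  C.z_cent hb _ (C.z_ball ha b h)

theorem comm_two {a b x : Ω} (ha : C.isY a) (hax : D.Adj a x) (hxb : D.Adj x b) :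
    C.z a * C.z b = C.z b * C.z a :=
  C.comm ha ((C.isY_two hax hxb).mpr ha)
    (D.near_mono (C.two_le_R ha) (D.near_trans (D.near_adj hax) (D.near_adj hxb)))

/-- Conjugation by a central involution. -/
theorem z_conj_z {a b : Ω} (ha : C.isY a) (hb : C.isY b) :
    C.z a * C.z b * C.z a = C.z (C.z a • b) := by
  rw [C.z_conj (C.z a) hb, inv_eq_self (C.z_sq ha)]

theorem z_prod {x a b c : Ω} (ha : D.Adj x a) (hb : D.Adj x b) (hc : D.Adj x c) (hab : b ≠ a)
    (hac : c ≠ a) (hbc : c ≠ b) (hY : C.isY a) : C.z a * C.z b * C.z c = 1 := by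
  have hYb : C.isY b := (C.isY_two (D.symm ha) hb).mpr hY
  have hYc : C.isY c := (C.isY_two (D.symm ha) hc).mpr hY
  have mem : ∀ u v, D.Adj x u → D.Adj x v → C.isY u → C.z u ∈ T x v := fun u v hu hv hu' =>
    D.Q_le_T hv (C.z_mem_Q hu' (D.symm hu))
  have cab : Commute (C.z a) (C.z b) := C.comm_two hY (D.symm ha) hb
  have cac : Commute (C.z a) (C.z c) := C.comm_two hY (D.symm ha) hc
  have cbc : Commute (C.z b) (C.z c) := C.comm_two hYb (D.symm hb) hc
  set π := C.z a * C.z b * C.z c with hπ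
  have hsq : π * π = 1 := by
    have h1 : Commute (C.z c) (C.z a * C.z b) := cac.symm.mul_right cbc.symm
    calc π * π = C.z a * C.z b * (C.z c * (C.z a * C.z b)) * C.z c := by simp only [hπ, mul_assoc]
      _ = C.z a * C.z b * (C.z a * C.z b * C.z c) * C.z c := by rw [h1.eq]
      _ = C.z a * (C.z b * C.z a) * C.z b * (C.z c * C.z c) := by simp only [mul_assoc]
      _ = C.z a * C.z a * (C.z b * C.z b) * (C.z c * C.z c) := by
          rw [← cab.eq]; simp only [mul_assoc]
      _ = 1 := by rw [C.z_sq hY, C.z_sq hYb, C.z_sq hYc]; simp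
  have hcent : ∀ g : G, g • x = x → g * π = π * g := by
    intro g hg
    have sym : ∀ u v w : Ω, C.z u * C.z v * C.z w = π →
        D.Adj x u → D.Adj x v → D.Adj x w → C.isY u → C.isY v → C.isY w →
        g • a = u → g • b = v → g • c = w → g * π = π * g := by
      intro u v w huvw _ _ _ _ _ _ e1 e2 e3
      have : g * π * g⁻¹ = π := by
        calc g * π * g⁻¹ = (g * C.z a * g⁻¹) * (g * C.z b * g⁻¹) * (g * C.z c * g⁻¹) := by
              rw [hπ]; group
          _ = π := by rw [← C.z_conj g hY, ← C.z_conj g hYb, ← C.z_conj g hYc, e1, e2, e3, huvw]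
      calc g * π = g * π * g⁻¹ * g := by group
        _ = π * g := by rw [this]
    have hga := D.adj_smul_of_fix hg ha
    have hgb := D.adj_smul_of_fix hg hb
    have hgc := D.adj_smul_of_fix hg hc
    have n1 : g • b ≠ g • a := fun e => hab (MulAction.injective g e)
    have n2 : g • c ≠ g • a := fun e => hac (MulAction.injective g e)
    have n3 : g • c ≠ g • b := fun e => hbc (MulAction.injective g e)
    rcases D.nbr_cases ha hb hc hab hac hbc hga with e1 | e1 | e1 <;>
      rcases D.nbr_cases ha hb hc hab hac hbc hgb with e2 | e2 | e2 <;>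
      rcases D.nbr_cases ha hb hc hab hac hbc hgc with e3 | e3 | e3 <;>
      first
        | exact absurd (e2.trans e1.symm) n1
        | exact absurd (e3.trans e1.symm) n2
        | exact absurd (e3.trans e2.symm) n3
        | exact sym a b c rfl ha hb hc hY hYb hYc e1 e2 e3
        | exact sym a c b (by rw [hπ, mul_assoc, ← cbc.eq, ← mul_assoc]) ha hc hb hY hYc hYb e1 e2 e3
        | exact sym b a c (by rw [hπ, cab.eq]) hb ha hc hYb hY hYc e1 e2 e3
        | exact sym b c a (by rw [hπ, mul_assoc (C.z b), ← cac.eq, ← mul_assoc, ← cab.eq]) hb hc ha hYb hYc hY e1 e2 e3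
        | exact sym c a b (by rw [hπ, ← cac.eq, mul_assoc, ← cbc.eq, ← mul_assoc]) hc ha hb hYc hY hYb e1 e2 e3
        | exact sym c b a (by rw [hπ, ← cbc.eq, mul_assoc (C.z b), ← cac.eq, ← mul_assoc, ← cab.eq]) hc hb ha hYc hYb hY e1 e2 e3
  have hT : π ∈ T x a := mul_mem (mul_mem (mem a a ha ha hY) (mem b a hb ha hYb)) (mem c a hc ha hYc)
  refine D.eq_one_of_central ha hT hcent fun g hg => C.hz hY (D.symm ha) π
    ⟨by rw [T_comm]; exact hT, hsq, fun h hh => hcent h hh.2⟩ g hg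

/-- The product of two central involutions at a common neighbour is the third. -/
theorem tri {x a b c : Ω} (ha : D.Adj x a) (hb : D.Adj x b) (hc : D.Adj x c) (hab : b ≠ a)
    (hac : c ≠ a) (hbc : c ≠ b) (hY : C.isY a) : C.z a * C.z b = C.z c := by
  have h := C.z_prod ha hb hc hab hac hbc hY
  rw [eq_inv_of_mul_eq_one_left h, inv_eq_self (C.z_sq ((C.isY_two (D.symm ha) hc).mpr hY))]

theorem ne_of_common {x a b : Ω} (ha : D.Adj x a) (hb : D.Adj x b) (hab : b ≠ a) (hY : C.isY a) :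
    C.z a ≠ C.z b := by
  intro e
  obtain ⟨c, hc, hca, hcb, -⟩ := D.third ha hb hab
  have h := C.tri ha hb hc hab hca hcb hY
  rw [← e, C.z_sq hY] at h
  exact C.z_ne ((C.isY_two (D.symm ha) hc).mpr hY) h.symm

/-- The module of a vertex not on the centred side. -/
def V (x : Ω) : Subgroup G := Subgroup.closure {g | ∃ a, D.Adj x a ∧ C.isY a ∧ g = C.z a}

theorem z_mem_V {x a : Ω} (h : D.Adj x a) (ha : C.isY a) : C.z a ∈ C.V x :=
  Subgroup.subset_closure ⟨a, h, ha, rfl⟩

theorem V_eq {x a c : Ω} (ha : D.Adj x a) (hc : D.Adj x c) (hne : c ≠ a) (hY : C.isY a) :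
    C.V x = Subgroup.closure {C.z a, C.z c} := by
  have hYc : C.isY c := (C.isY_two (D.symm ha) hc).mpr hY
  apply le_antisymm
  · refine (Subgroup.closure_le _).mpr ?_
    rintro _ ⟨u, hu, -, rfl⟩
    obtain ⟨w, hw, hwa, hwc, hall⟩ := D.third ha hc hne
    rcases hall u hu with rfl | rfl | rfl
    · exact Subgroup.subset_closure (Or.inl rfl)
    · exact Subgroup.subset_closure (Or.inr rfl)
    · rw [← C.tri ha hc hu hne hwa hwc hY]
      exact mul_mem (Subgroup.subset_closure (Or.inl rfl)) (Subgroup.subset_closure (Or.inr rfl))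
  · refine (Subgroup.closure_le _).mpr ?_
    rintro _ (rfl | rfl)
    · exact C.z_mem_V ha hY
    · exact C.z_mem_V hc hYc

theorem conj_closure {g : G} {S : Set G} {N : Subgroup G} (h : ∀ s ∈ S, g * s * g⁻¹ ∈ N) :
    ∀ n ∈ Subgroup.closure S, g * n * g⁻¹ ∈ N := by
  intro n hn
  have : Subgroup.closure S ≤ N.comap (MulAut.conj g).toMonoidHom := (Subgroup.closure_le _).mpr h
  exact this hn

theorem conj_V {x : Ω} (g : G) : ∀ n ∈ C.V x, g * n * g⁻¹ ∈ C.V (g • x) :=
  conj_closure fun _ ⟨a, ha, hY, e⟩ => by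
    rw [e, ← C.z_conj g hY]
    exact C.z_mem_V (D.equiv g ha) ((C.isY_smul g a).mpr hY)

/-- Vertices at distance four through a centred vertex have different involutions. -/
theorem ne_four {a x c x' b : Ω} (h1 : D.Adj x a) (h2 : D.Adj x c) (h3 : D.Adj x' c) (h4 : D.Adj x' b)
    (hca : c ≠ a) (hxx : x' ≠ x) (hbc : b ≠ c) (hY : C.isY a) : C.z a ≠ C.z b := by
  intro e
  have hYc : C.isY c := (C.isY_two (D.symm h1) h2).mpr hY
  have hV : C.V x = C.V x' := by
    rw [C.V_eq h1 h2 hca hY, C.V_eq h3 h4 hbc hYc, ← e, Set.pair_comm]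
  have hle : C.V x ≤ T x c := (Subgroup.closure_le _).mpr (by
    rintro _ ⟨u, hu, hu', rfl⟩
    exact D.Q_le_T h2 (C.z_mem_Q hu' (D.symm hu)))
  have hbot : C.V x = ⊥ := by
    refine D.eq_bot_of_normalized h2 hle (fun g hg n hn => ?_) fun g hg n hn => ?_
    · have := C.conj_V g n hn
      rwa [hg] at this
    · let N : Subgroup G := Subgroup.normalizer ((C.V x : Subgroup G) : Set G)
      have key : ∀ h : G, h • x = x → ∀ m ∈ C.V x, h * m * h⁻¹ ∈ C.V x := fun h hh m hm => by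
        have := C.conj_V h m hm
        rwa [hh] at this
      have key' : ∀ h : G, h • x' = x' → ∀ m ∈ C.V x, h * m * h⁻¹ ∈ C.V x := fun h hh m hm => by
        rw [hV] at hm ⊢
        have := C.conj_V h m hm
        rwa [hh] at this
      have inN : ∀ h : G, (∀ m ∈ C.V x, h * m * h⁻¹ ∈ C.V x) →
          (∀ m ∈ C.V x, h⁻¹ * m * h ∈ C.V x) → h ∈ N := fun h ha hb =>
        Subgroup.mem_normalizer_iff.mpr fun m => ⟨ha m, fun hm => by
          have := hb _ hm
          simpa [mul_assoc] using this⟩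
      have h1' : T c x ≤ N := fun h hh => inN h (key h hh.2) fun m hm => by
        have := key h⁻¹ (inv_smul_eq_iff.mpr hh.2.symm) m hm
        rwa [inv_inv] at this
      have h2' : T c x' ≤ N := fun h hh => inN h (key' h hh.2) fun m hm => by
        have := key' h⁻¹ (inv_smul_eq_iff.mpr hh.2.symm) m hm
        rwa [inv_inv] at this
      exact (Subgroup.mem_normalizer_iff.mp (D.stab_le_two (D.symm h2) (D.symm h3) hxx h1' h2'
        (show g ∈ stabilizer G c from hg)) n).mp hn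
  have hm := C.z_mem_V h1 hY
  rw [hbot, Subgroup.mem_bot] at hm
  exact C.z_ne hY hm

/-! ### Transitivity on walks -/

/-- Transitivity on walks of length `j` starting on the centred side. -/
def Tr (j : ℕ) : Prop :=
  ∀ p q : ℕ → Ω, D.Wk j p → D.Wk j q → C.isY (p 0) → C.isY (q 0) →
    ∃ g : G, ∀ i ≤ j, g • p i = q i

theorem arc_map {x y u v : Ω} (h : D.Adj x y) (h' : D.Adj u v) (hx : C.isY x) (hu : C.isY u) :
    ∃ g : G, g • x = u ∧ g • y = v := by
  obtain ⟨g, hg | hg⟩ := D.edge h h'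
  · exact ⟨g, hg⟩
  · exfalso
    have h1 := C.isY_smul g x
    rw [hg.1] at h1
    have h2 := C.isY_adj h'
    tauto

theorem tr_one : C.Tr 1 := by
  intro p q hp hq h0 h0'
  obtain ⟨g, h1, h2⟩ := C.arc_map (hp.1 0 (by omega)) (hq.1 0 (by omega)) h0 h0'
  exact ⟨g, fun i hi => by rcases i with _ | _ | i <;> first | exact h1 | exact h2 | omega⟩

/-- An element of a walk stabiliser moving the next vertex extends transitivity. -/
theorem climb {j : ℕ} (hj : 1 ≤ j) (h : C.Tr j) {P : ℕ → Ω} {e : G} (hP : D.Wk (j + 1) P)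
    (hP0 : C.isY (P 0)) (hfix : ∀ i ≤ j, e • P i = P i) (hmov : e • P (j + 1) ≠ P (j + 1)) :
    C.Tr (j + 1) := by
  have hstd : ∀ p : ℕ → Ω, D.Wk (j + 1) p → C.isY (p 0) → ∃ g : G, ∀ i ≤ j + 1, g • p i = P i := by
    intro p hp hp0
    obtain ⟨g, hg⟩ := h p P (D.wk_mono hp (by omega)) (D.wk_mono hP (by omega)) hp0 hP0
    have h1 : D.Adj (P j) (g • p (j + 1)) := hg j le_rfl ▸ D.equiv g (hp.1 j (by omega))
    have hb : D.Adj (P j) (P (j - 1)) := by
      have := D.symm (hP.1 (j - 1) (by omega))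
      rwa [show j - 1 + 1 = j by omega] at this
    have hne : g • p (j + 1) ≠ P (j - 1) := by
      rw [← hg (j - 1) (by omega)]
      intro e'
      have := hp.2 (j - 1) (by omega)
      rw [show j - 1 + 2 = j + 1 by omega] at this
      exact this (MulAction.injective g e')
    have hne' : P (j + 1) ≠ P (j - 1) := by
      have := hP.2 (j - 1) (by omega)
      rwa [show j - 1 + 2 = j + 1 by omega] at this
    by_cases hcase : g • p (j + 1) = P (j + 1)
    · exact ⟨g, fun i hi => by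
        rcases Nat.lt_or_ge i (j + 1) with e' | e'
        · exact hg i (by omega)
        · rw [show i = j + 1 by omega]; exact hcase⟩
    · have he : e • g • p (j + 1) = P (j + 1) := by
        have hadj := D.adj_smul_of_fix (hfix j le_rfl) h1
        rcases D.nbr_cases hb (hP.1 j (by omega)) h1 hne' hne hcase hadj with r | r | r
        · exact absurd ((MulAction.injective e) (r.trans (hfix (j - 1) (by omega)).symm)) hne
        · exact r
        · exact absurd (D.fix_third hb h1 (hP.1 j (by omega)) hne (hfix j le_rfl)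
            (hfix (j - 1) (by omega)) r) hmov
      exact ⟨e * g, fun i hi => by
        rw [mul_smul]
        rcases Nat.lt_or_ge i (j + 1) with e' | e'
        · rw [hg i (by omega)]; exact hfix i (by omega)
        · rw [show i = j + 1 by omega]; exact he⟩
  intro p q hp hq h0 h0'
  obtain ⟨g, hg⟩ := hstd p hp h0
  obtain ⟨g', hg'⟩ := hstd q hq h0'
  exact ⟨g'⁻¹ * g, fun i hi => by rw [mul_smul, hg i hi, ← hg' i hi, inv_smul_smul]⟩

include C in
theorem swap_two {a b c d : Ω} (hab : D.Adj b a) (hbc : D.Adj b c) (hcd : D.Adj c d) (hdb : d ≠ b) :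
    ∃ g : G, g • a = a ∧ g • b = b ∧ g • c = c ∧ (∀ u, D.Adj b u → g • u = u) ∧ g • d ≠ d := by
  obtain ⟨q, hq, hqc⟩ := D.Q_not_le hbc (C.Q_ne_bot b)
  refine ⟨q, hq.2 a hab, hq.1, hq.2 c hbc, hq.2, fun e => hqc ⟨hq.2 c hbc, fun u hu => ?_⟩⟩
  exact D.fix_third (D.symm hbc) hcd hu hdb (hq.2 c hbc) hq.1 e

theorem tr_three {y : Ω} (hy : C.isY y) : C.Tr 3 := by
  obtain ⟨u, hu⟩ := D.exists_nbr y
  obtain ⟨P, hP0, -, hP⟩ := D.exists_wk hu 3
  have h0 : C.isY (P 0) := hP0 ▸ hy
  obtain ⟨g, g1, g2, g3⟩ := D.swap (D.symm (hP.1 0 (by omega))) (hP.1 1 (by omega)) (hP.2 0 (by omega))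
  have t2 : C.Tr 2 := C.climb le_rfl C.tr_one (D.wk_mono hP (by omega)) h0 (e := g) (fun i hi => by
    rcases i with _ | _ | i <;> first | exact g2 | exact g1 | omega) g3
  obtain ⟨q, q0, q1, q2, -, q3⟩ := C.swap_two (D.symm (hP.1 0 (by omega))) (hP.1 1 (by omega))
    (hP.1 2 (by omega)) (hP.2 1 (by omega))
  exact C.climb (by omega) t2 hP h0 (e := q) (fun i hi => by
    rcases i with _ | _ | _ | i <;> first | exact q0 | exact q1 | exact q2 | omega) q3

/-! ### Moved vertices -/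

/-- The involution of the first vertex moves a neighbour of the last. -/
def Mv (p : ℕ → Ω) : Prop := ∃ u, D.Adj (p C.R) u ∧ C.z (p 0) • u ≠ u

theorem z_fix_wk {L i j : ℕ} {p : ℕ → Ω} (h : D.Wk L p) (hi : C.isY (p i)) (hj : j ≤ L) (hiL : i ≤ L)
    (h1 : i ≤ j + C.R) (h2 : j ≤ i + C.R) : C.z (p i) • p j = p j := by
  refine C.z_ball hi _ ?_
  rcases le_total i j with e | e
  · exact D.near_mono (by omega) (D.near_wk h e hj)
  · exact D.near_mono (by omega) (D.near_symm (D.near_wk h e hiL))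

theorem mv_moves {p : ℕ → Ω} (hp : D.Wk C.R p) (h0 : C.isY (p 0)) (hm : C.Mv p) {u : Ω}
    (hu : D.Adj (p C.R) u) (hne : u ≠ p (C.R - 1)) : C.z (p 0) • u ≠ u := by
  intro e
  obtain ⟨v, hv, hvne⟩ := hm
  have hR := C.two_le_R h0
  have hb : D.Adj (p C.R) (p (C.R - 1)) := by
    have := D.symm (hp.1 (C.R - 1) (by omega))
    rwa [show C.R - 1 + 1 = C.R by omega] at this
  exact hvne (D.fix_third hb hu hv hne
    (C.z_fix_wk hp h0 le_rfl (Nat.zero_le _) (by omega) (by omega))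
    (C.z_fix_wk hp h0 (by omega) (Nat.zero_le _) (by omega) (by omega)) e)

theorem exists_moved {y : Ω} (hy : C.isY y) :
    ∃ p : ℕ → Ω, D.Wk (C.R + 1) p ∧ p 0 = y ∧ C.z y • p (C.R + 1) ≠ p (C.R + 1) := by
  obtain ⟨v, hv, hne⟩ := C.z_moved hy
  obtain ⟨m, hm, p, hp, h0, hpm⟩ := D.exists_wk_of_near hv
  have : m = C.R + 1 := by
    by_contra hm'
    refine hne ?_
    rw [← hpm, ← h0]
    exact C.z_fix_wk hp (h0 ▸ hy) le_rfl (Nat.zero_le _) (by omega) (by omega)
  subst this
  exact ⟨p, hp, h0, hpm.symm ▸ hne⟩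

theorem mv_conj {p q : ℕ → Ω} (hp : C.Mv p) (hY : C.isY (p 0)) {g : G} (h0 : g • p 0 = q 0)
    (hR : g • p C.R = q C.R) : C.Mv q := by
  obtain ⟨u, hu, hne⟩ := hp
  refine ⟨g • u, hR ▸ D.equiv g hu, fun e => hne ?_⟩
  rw [← h0, C.z_conj g hY, mul_smul, mul_smul, inv_smul_smul, smul_left_cancel_iff] at e
  exact e

/-- A nontrivial subgroup normalised by an edge group cannot fix all balls of radius beyond `R`
around the conjugates of an involution. -/
theorem no_central {y x : Ω} (hy : C.isY y) (h : D.Adj y x) {A : Subgroup G} (hA : A ≤ T y x)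
    (hn : ∀ t ∈ T (G := G) y x, ∀ a ∈ A, t * a * t⁻¹ ∈ A)
    (hball : ∀ a ∈ A, (∀ g : G, g • y = y → g * a * g⁻¹ = a) → a ∈ D.ball (C.R + 1) y) : A = ⊥ := by
  by_contra hne
  obtain ⟨a, ha, ha1, ha2, hac⟩ := D.exists_central h hA hne hn
  have hc : ∀ g : G, g • y = y → g * a = a * g :=
    C.hz hy h a ⟨hA ha, ha2, fun t ht => hac t ht⟩
  exact ha1 (C.maximal hy a ha2 hc (hball a ha fun g hg => by rw [hc g hg, mul_inv_cancel_right]))

end Centred

end CfsgLib.CubicRadius
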