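import Cfsg.Agent.Lib.CubicRadius.Triples

/-!
The commutator of two involutions two beyond the radius.
-/

set_option autoImplicit false
set_option linter.unusedSectionVars false

namespace CfsgLib.CubicRadius

open MulAction CfsgLib.S3Amalgam

variable {G : Type*} [Group G] {Ω : Type*} [MulAction G Ω] {D : Cubic G Ω}

namespace Centred

variable (C : Centred D)

/-- All products of three branch involutions avoid the centre. -/
def Perm : Prop := ∀ c, C.isY c → ∀ l, C.Pi c l → l ≠ 1 ∧ l ≠ C.z c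

variable (heven : C.R % 2 = 0) (h6 : 6 ≤ C.R)

include heven h6

/-- The commutator, read at the third vertex and at the vertex at the radius. -/
theorem w_pi {q : ℕ → Ω} (hq : D.Wk (C.R + 2) q) (h0 : C.isY (q 0)) :
    C.Pi (q 2) (C.z (q 0) * C.z (C.z (q (C.R + 2)) • q 0) * C.z (q 4)) ∧
      C.Pi (q C.R) (C.z (C.z (q 0) • q (C.R + 2)) * C.z (q (C.R + 2)) * C.z (q (C.R - 2))) := by
  have hYe : C.isY (q (C.R + 2)) := C.isY_at hq h0 le_rfl (by omega)
  have hmov := C.moves heven h6 hq (by omega) h0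
  have hmov' := C.moves heven h6 (D.wk_rev hq) (by omega)
    (show C.isY (q (C.R + 2 - 0)) by rw [Nat.sub_zero]; exact hYe)
  simp only [Nat.sub_zero, show C.R + 2 - (C.R + 1) = 1 by omega] at hmov'
  have fixu : ∀ {i}, 2 ≤ i → i ≤ C.R + 2 → C.z (q (C.R + 2)) • q i = q i := fun {i} hi hi' =>
    C.z_fix_wk hq hYe hi' le_rfl (by omega) (by omega)
  have fix0 : ∀ {i}, i ≤ C.R → C.z (q 0) • q i = q i := fun {i} hi =>
    C.z_fix_wk hq h0 (by omega) (Nat.zero_le _) (by omega) (by omega)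
  have adj : ∀ {i}, i + 1 ≤ C.R + 2 → D.Adj (q (i + 1)) (q i) := fun {i} hi => D.wk_adj' hq hi
  constructor
  · set u := C.z (q (C.R + 2))
    refine ⟨q 1, u • q 1, q 3, q 0, u • q 0, q 4, ⟨adj (i := 1) (by omega), adj (i := 0) (by omega),
        (D.wk_ne hq (i := 0) (by omega)).symm⟩,
      ⟨D.adj_smul_of_fix (fixu le_rfl (by omega)) (adj (i := 1) (by omega)),
        D.equiv u (adj (i := 0) (by omega)), fun e => ?_⟩,
      ⟨hq.1 2 (by omega), hq.1 3 (by omega), D.wk_ne hq (i := 2) (by omega)⟩,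
      hmov'.symm, (D.wk_ne hq (i := 1) (by omega)).symm, fun e => ?_, rfl⟩
    · exact D.wk_ne hq (i := 0) (by omega)
        (MulAction.injective u (e.trans (fixu le_rfl (by omega)).symm)).symm
    · exact D.wk_ne hq (i := 1) (by omega)
        (MulAction.injective u (e.trans (fixu (by omega) (by omega)).symm)).symm
  · set x := C.z (q 0)
    have hb : D.Adj (q C.R) (q (C.R - 1)) := D.wk_back (D.wk_mono hq (by omega)) (by omega)
    have hne : q (C.R + 1) ≠ q (C.R - 1) := by
      have := D.wk_ne hq (i := C.R - 1) (by omega)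
      rwa [show C.R - 1 + 2 = C.R + 1 by omega] at this
    have hb2 : D.Adj (q (C.R - 1)) (q (C.R - 2)) := by
      have := adj (i := C.R - 2) (by omega)
      rwa [show C.R - 2 + 1 = C.R - 1 by omega] at this
    have hne2 : q (C.R - 2) ≠ q C.R := by
      have := (D.wk_ne hq (i := C.R - 2) (by omega)).symm
      rwa [show C.R - 2 + 2 = C.R by omega] at this
    refine ⟨x • q (C.R + 1), q (C.R + 1), q (C.R - 1), x • q (C.R + 2), q (C.R + 2), q (C.R - 2),
      ⟨D.adj_smul_of_fix (fix0 le_rfl) (hq.1 C.R (by omega)), D.equiv x (hq.1 (C.R + 1) (by omega)),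
        fun e => ?_⟩,
      ⟨hq.1 C.R (by omega), hq.1 (C.R + 1) (by omega), D.wk_ne hq (i := C.R) le_rfl⟩,
      ⟨hb, hb2, hne2⟩, hmov, fun e => ?_, hne, rfl⟩
    · exact D.wk_ne hq (i := C.R) le_rfl (MulAction.injective x (e.trans (fix0 le_rfl).symm))
    · exact hne (MulAction.injective x (e.trans (fix0 (by omega)).symm))

/-- The two readings agree. -/
theorem w_eq {q : ℕ → Ω} (hq : D.Wk (C.R + 2) q) (h0 : C.isY (q 0)) :
    C.z (C.z (q 0) • q (C.R + 2)) * C.z (q (C.R + 2))
      = C.z (q 0) * C.z (C.z (q (C.R + 2)) • q 0) := by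
  have hYe : C.isY (q (C.R + 2)) := C.isY_at hq h0 le_rfl (by omega)
  rw [← C.z_conj_z h0 hYe, ← C.z_conj_z hYe h0]
  simp only [mul_assoc]

/-- An element commuting with the involutions of both ends of the second reading. -/
theorem w_comm {q : ℕ → Ω} (hq : D.Wk (C.R + 4) q) (h0 : C.isY (q 0)) :
    C.z (q (C.R + 4)) * (C.z (q 0) * C.z (C.z (q (C.R + 2)) • q 0))
      = C.z (q 0) * C.z (C.z (q (C.R + 2)) • q 0) * C.z (q (C.R + 4)) := by
  have hY : ∀ {i}, i ≤ C.R + 4 → i % 2 = 0 → C.isY (q i) := fun {i} hi he => C.isY_at hq h0 hi he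
  have hYe : C.isY (q (C.R + 2)) := hY (by omega) (by omega)
  have hYy : C.isY (q (C.R + 4)) := hY le_rfl (by omega)
  rw [← C.w_eq heven h6 (D.wk_mono hq (by omega)) h0]
  have hfix : C.z (q 0) • q C.R = q C.R :=
    C.z_fix_wk hq h0 (by omega) (Nat.zero_le _) (by omega) (by omega)
  have near : D.Near (2 + (C.R + 4 - C.R)) (C.z (q 0) • q (C.R + 2)) (q (C.R + 4)) := by
    refine D.near_trans ?_ (D.near_wk hq (by omega) le_rfl)
    have := D.near_smul (C.z (q 0)) (D.near_wk hq (i := C.R) (j := C.R + 2) (by omega) (by omega))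
    rw [hfix, show C.R + 2 - C.R = 2 by omega] at this
    exact D.near_symm this
  have e1 : Commute (C.z (C.z (q 0) • q (C.R + 2))) (C.z (q (C.R + 4))) :=
    C.comm ((C.isY_smul _ _).mpr hYe) hYy (D.near_mono (by omega) near)
  have e2 : Commute (C.z (q (C.R + 2))) (C.z (q (C.R + 4))) :=
    C.comm_wk hq hYe hYy (by omega) le_rfl (by omega) (by omega)
  exact (e1.mul_left e2).symm.eq

/-- In the natural case the commutator is the involution of the fifth vertex. -/
theorem natural_eq (hnat : ∀ c, C.isY c → ∀ l, C.Pi c l → l = 1 ∨ l = C.z c) {q : ℕ → Ω}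
    (hq : D.Wk (C.R + 2) q) (h0 : C.isY (q 0)) :
    C.z (q 0) * C.z (C.z (q (C.R + 2)) • q 0) = C.z (q 4) := by
  obtain ⟨Q, hQ, hQq⟩ := D.exists_ext hq (by omega) 2
  have hQ0 : C.isY (Q 0) := hQq 0 (Nat.zero_le _) ▸ h0
  have hY : ∀ {i}, i ≤ C.R + 2 + 2 → i % 2 = 0 → C.isY (Q i) := fun {i} hi he => C.isY_at hQ hQ0 hi he
  have hcw := C.w_comm heven h6 hQ hQ0
  rw [← hQq 0 (Nat.zero_le _), ← hQq 4 (by omega), ← hQq (C.R + 2) le_rfl]
  set w := C.z (Q 0) * C.z (C.z (Q (C.R + 2)) • Q 0) with hw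
  have h44 : C.z (Q 4) * C.z (Q 4) = 1 := C.z_sq (hY (by omega) rfl)
  rcases hnat (Q 2) (hY (by omega) rfl) _ (C.w_pi heven h6 (D.wk_mono hQ (by omega)) hQ0).1 with e | e
  · rw [hw, eq_inv_of_mul_eq_one_left e, inv_eq_self h44]
  · exfalso
    have hc4 : Commute (C.z (Q (C.R + 4))) (C.z (Q 4)) :=
      C.comm_wk hQ (hY (by omega) (by omega)) (hY (by omega) rfl) (by omega) (by omega) (by omega) (by omega)
    have hc2 : Commute (C.z (Q (C.R + 4))) (C.z (Q 2)) := by
      rw [← e]; exact (show Commute (C.z (Q (C.R + 4))) w from hcw).mul_right hc4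
    have hs : D.Wk (C.R + 2) (fun i => Q (i + 2)) := D.wk_shift hQ le_rfl
    exact C.not_comm heven h6 hs le_rfl (hY (by omega) rfl) hc2.symm.eq

/-- The natural case is impossible. -/
theorem not_natural {y : Ω} (hy : C.isY y)
    (hnat : ∀ c, C.isY c → ∀ l, C.Pi c l → l = 1 ∨ l = C.z c) : False := by
  have comm_eq : ∀ q : ℕ → Ω, D.Wk (C.R + 2) q → C.isY (q 0) →
      C.z (q 0) * C.z (q (C.R + 2)) * C.z (q 0) * C.z (q (C.R + 2)) = C.z (q 4) := by
    intro q hq h0
    rw [← C.natural_eq heven h6 hnat hq h0,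
      ← C.z_conj_z (C.isY_at hq h0 le_rfl (by omega)) h0]
    simp only [mul_assoc]
  obtain ⟨n, hn⟩ := D.exists_nbr y
  obtain ⟨p, hp0, -, hp⟩ := D.exists_wk hn (C.R + 6)
  have h0 : C.isY (p 0) := hp0.symm ▸ hy
  have hY : ∀ {i}, i ≤ C.R + 6 → i % 2 = 0 → C.isY (p i) := fun {i} hi he => C.isY_at hp h0 hi he
  rcases Nat.lt_or_ge C.R 8 with h8 | h8
  · have hR : C.R = 6 := by omega
    set x := C.z (p 0) with hx
    set u := C.z (p 10) with hu
    have hY10 : C.isY (p 10) := hY (by omega) rfl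
    have fixx : x • p 6 = p 6 := C.z_fix_wk hp h0 (by omega) (Nat.zero_le _) (by omega) (by omega)
    have fixu : u • p 4 = p 4 := C.z_fix_wk hp hY10 (by omega) (by omega) (by omega) (by omega)
    have hm1 : x • p 7 ≠ p 7 := by
      have := C.moves heven h6 hp (by omega) h0
      rwa [hR] at this
    have hm2 : u • p 3 ≠ p 3 := by
      have := C.moves heven h6 (D.wk_rev (D.wk_mono hp (M := 10) (by omega))) (by omega)
        (show C.isY (p (10 - 0)) from hY10)
      simpa [hR] using this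
    have w1 : D.Wk (4 + 4) (fun i => if i < 4 then p (10 - i) else x • p (i - 4 + 6)) :=
      D.wk_join (D.wk_mono (D.wk_rev (D.wk_mono hp (M := 10) (by omega))) (by omega))
        (D.wk_smul (D.wk_shift hp (M := 4) (k := 6) (by omega)) x) fixx.symm (fun _ _ => hm1.symm)
    have w2 : D.Wk (4 + 4) (fun i => if i < 4 then p i else u • p (4 - (i - 4))) :=
      D.wk_join (D.wk_mono hp (by omega))
        (D.wk_smul (D.wk_rev (D.wk_mono hp (M := 4) (by omega))) u) fixu.symm (fun _ _ => hm2.symm)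
    have e1 := comm_eq (fun i => if i < 4 then p (10 - i) else x • p (i - 4 + 6)) (by rw [hR]; exact w1) hY10
    have e2 := comm_eq (fun i => if i < 4 then p i else u • p (4 - (i - 4))) (by rw [hR]; exact w2) h0
    simp only [hR, Nat.reduceAdd, Nat.reduceSub, Nat.reduceLT, if_true, if_false, ← hu, ← hx, fixx,
      fixu] at e1 e2
    rw [← C.z_conj_z h0 hY10, ← hu, ← hx] at e1
    rw [← C.z_conj_z hY10 h0, ← hu, ← hx] at e2
    have hxx : x * x = 1 := C.z_sq h0
    have huu : u * u = 1 := C.z_sq hY10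
    refine C.ne_of_common (D.wk_adj' hp (i := 4) (by omega)) (hp.1 5 (by omega))
      (D.wk_ne hp (i := 4) (by omega)) (hY (by omega) rfl) ?_
    calc C.z (p 4) = x * (u * x * u) * x * (u * x * u) := e2.symm
      _ = (u * (x * u * x) * u * (x * u * x))⁻¹ := by
          simp only [mul_inv_rev, inv_eq_self hxx, inv_eq_self huu, mul_assoc]
      _ = C.z (p 6) := by rw [e1, inv_eq_self (C.z_sq (hY (by omega) rfl))]
  · have hq : D.Wk (C.R + 2) p := D.wk_mono hp (by omega)
    have e1 := comm_eq p hq h0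
    have e2 := comm_eq _ (D.wk_rev hq)
      (show C.isY (p (C.R + 2 - 0)) from hY (by omega) (by omega))
    simp only [Nat.sub_zero, Nat.sub_self, show C.R + 2 - 4 = C.R - 2 by omega] at e2
    have h4R : C.z (p 4) = C.z (p (C.R - 2)) := by
      rw [← e1, ← inv_eq_self (C.z_sq (hY (i := C.R - 2) (by omega) (by omega))), ← e2]
      simp only [mul_inv_rev, inv_eq_self (C.z_sq h0),
        inv_eq_self (C.z_sq (hY (i := C.R + 2) (by omega) (by omega))), mul_assoc]
    have hc : C.z (p (C.R - 2)) * C.z (p (C.R + 6)) = C.z (p (C.R + 6)) * C.z (p (C.R - 2)) :=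
      C.comm_wk hp (hY (by omega) (by omega)) (hY le_rfl (by omega)) (by omega) le_rfl (by omega) (by omega)
    rw [← h4R] at hc
    refine C.not_comm heven h6 (D.wk_shift hp (M := C.R + 2) (k := 4) (by omega)) le_rfl
      (hY (by omega) rfl) ?_
    show C.z (p 4) * C.z (p (C.R + 2 + 4)) = C.z (p (C.R + 2 + 4)) * C.z (p 4)
    rwa [show C.R + 2 + 4 = C.R + 6 by omega]

/-- So the products avoid the centre. -/
theorem perm {y : Ω} (hy : C.isY y) : C.Perm := by
  by_contra hno
  simp only [Perm, not_forall] at hno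
  obtain ⟨c, hc, l, hl, hbad⟩ := hno
  refine C.not_natural heven h6 hy fun c' hc' l' hl' => ?_
  obtain ⟨n, hn⟩ := D.exists_nbr c
  obtain ⟨n', hn'⟩ := D.exists_nbr c'
  obtain ⟨g, g0, -⟩ := C.arc_map hn hn' hc hc'
  have h1 := C.pi_conj hc hl g
  rw [g0] at h1
  have hcase : g * l * g⁻¹ = 1 ∨ g * l * g⁻¹ = C.z c' := by
    by_cases e : l = 1
    · left; rw [e]; group
    · right
      rw [← g0, C.z_conj g hc, show l = C.z c from by_contra fun e' => hbad ⟨e, e'⟩]
  rcases C.pi_two (by omega) hc' h1 hl' with e | e <;> rcases hcase with r | r <;> rw [e, r]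
  · exact Or.inl rfl
  · exact Or.inr rfl
  · exact Or.inr (one_mul _)
  · exact Or.inl (C.z_sq hc')

end Centred

end CfsgLib.CubicRadius
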