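import Cfsg.Agent.Lib.CubicRadius.Centred
import Cfsg.Agent.Lib.S3Amalgam.Local

/-!
The cases that are not centred: a vertex group centralising its kernel outside it, or noncentral
involutions on both sides.
-/

set_option autoImplicit false
set_option linter.unusedSectionVars false

namespace CfsgLib.CubicRadius

open MulAction CfsgLib.S3Amalgam

variable {G : Type*} [Group G] {Ω : Type*} [MulAction G Ω] (D : Cubic G Ω)

namespace Cubic

include D in
theorem card_conj {H K : Subgroup G} [Finite ↥K] (g : G) (h : ∀ a ∈ H, g * a * g⁻¹ ∈ K) :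
    Nat.card ↥H ≤ Nat.card ↥K := by
  refine Nat.card_le_card_of_injective (fun a => (⟨g * a.1 * g⁻¹, h a.1 a.2⟩ : ↥K)) fun a b e => ?_
  exact Subtype.ext (mul_left_cancel (mul_right_cancel (congrArg Subtype.val e)))

include D in
theorem finite_T (x y : Ω) : Finite ↥(T (G := G) x y) := D.finite_sub inf_le_left

/-- All edge groups have the same order. -/
theorem card_T_le {x y u v : Ω} (h : D.Adj x y) (h' : D.Adj u v) :
    Nat.card ↥(T (G := G) x y) ≤ Nat.card ↥(T (G := G) u v) := by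
  haveI := D.finite_T u v
  obtain ⟨g, ⟨h1, h2⟩ | ⟨h1, h2⟩⟩ := D.edge h h'
  · refine D.card_conj g fun a ha => ⟨?_, ?_⟩
    · exact h1 ▸ conj_fix ha.1
    · exact h2 ▸ conj_fix ha.2
  · refine D.card_conj g fun a ha => ⟨?_, ?_⟩
    · exact h2 ▸ conj_fix ha.2
    · exact h1 ▸ conj_fix ha.1

include D in
/-- A subgroup inside the trivial group has order one. -/
theorem card_le_one {H : Subgroup G} (h : ∀ g ∈ H, g = 1) : Nat.card ↥H ≤ 1 := by
  rw [(Subgroup.eq_bot_iff_forall H).mpr h, Subgroup.card_bot]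

/-- Everything at distance at most one is fixed. -/
theorem mem_ball_one {g : G} {y : Ω} (h0 : g • y = y) (h : ∀ u, D.Adj y u → g • u = u) :
    g ∈ D.ball 1 y := by
  intro v hv
  rcases hv with e | ⟨c, h1, e⟩
  · exact e ▸ h0
  · exact (show c = v from e) ▸ h c h1

/-- A ball is fixed once the smaller balls around the neighbours are. -/
theorem mem_ball_succ {g : G} {y : Ω} {n : ℕ} (h0 : g • y = y)
    (h : ∀ u, D.Adj y u → g ∈ D.ball n u) : g ∈ D.ball (n + 1) y := by
  intro v hv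
  rcases hv with e | ⟨c, h1, h2⟩
  · exact e ▸ h0
  · exact h c h1 v h2

/-- A vertex group centralising its kernel outside it bounds the edge groups. -/
theorem bound_of_uncent {x : Ω} {g : G} (hg : g • x = x)
    (hc : ∀ q : G, q • x = x → (∀ y, D.Adj x y → q • y = y) → g * q = q * g)
    {y : Ω} (hy : D.Adj x y) (hne : g • y ≠ y) : Nat.card ↥(T (G := G) x y) ≤ 2 ^ 4 := by
  have hbot : D.ball (G := G) 2 y = ⊥ := by
    have hQ : D.ball (G := G) 2 y ≤ D.Q x := fun a ha =>
      ⟨ha x (D.near_succ (D.near_adj (D.symm hy))), fun u hu =>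
        ha u (D.near_cons (D.symm hy) (D.near_adj hu))⟩
    have hyy : ∀ k : G, k • y = y → ∀ n ∈ D.ball (G := G) 2 y, k * n * k⁻¹ ∈ D.ball (G := G) 2 y :=
      fun k hk n hn => by
        have := D.conj_ball (g := k) hn
        rwa [hk] at this
    refine D.eq_bot_of_normalized hy (hQ.trans (D.Q_le_T hy)) ?_ hyy
    let N : Subgroup G := Subgroup.normalizer ((D.ball (G := G) 2 y : Subgroup G) : Set G)
    have inN : ∀ k : G, (∀ n ∈ D.ball (G := G) 2 y, k * n * k⁻¹ ∈ D.ball (G := G) 2 y) →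
        (∀ n ∈ D.ball (G := G) 2 y, k⁻¹ * n * k ∈ D.ball (G := G) 2 y) → k ∈ N := fun k ha hb =>
      Subgroup.mem_normalizer_iff.mpr fun m => ⟨ha m, fun hm => by
        have := hb _ hm
        simpa [mul_assoc] using this⟩
    have hT : T x y ≤ N := fun k hk => inN k (hyy k hk.2) fun n hn => by
      have := hyy k⁻¹ (inv_smul_eq_iff.mpr hk.2.symm) n hn
      rwa [inv_inv] at this
    have hgN : g ∈ N := inN g
      (fun n hn => by rw [hc n (hQ hn).1 (hQ hn).2, mul_inv_cancel_right]; exact hn)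
      (fun n hn => by rw [mul_assoc, ← hc n (hQ hn).1 (hQ hn).2, inv_mul_cancel_left]; exact hn)
    exact fun k hk n hn =>
      (Subgroup.mem_normalizer_iff.mp (D.stab_le hy hT hgN hg hne hk) n).mp hn
  obtain ⟨y2, -, hy2, -, hy2y, -, -⟩ := D.two_others hy
  obtain ⟨a, b, ha, hb, hax, hbx, hab⟩ := D.two_others (D.symm hy)
  obtain ⟨a', -, ha', -, ha'y, -, -⟩ := D.two_others (D.symm ha)
  obtain ⟨b', -, hb', -, hb'y, -, -⟩ := D.two_others (D.symm hb)
  set H1 := T (G := G) x y ⊓ stabilizer G y2 with hH1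
  set H2 := H1 ⊓ stabilizer G a with hH2
  set H3 := H2 ⊓ stabilizer G a' with hH3
  set H4 := H3 ⊓ stabilizer G b' with hH4
  have s1 := D.card_step (H := T (G := G) x y) hy hy2 inf_le_left inf_le_right
  have l1 : H1 ≤ T x y := inf_le_left
  have s2 := D.card_step (H := H1) (D.symm hy) ha (l1.trans inf_le_right) (l1.trans inf_le_left)
  have l2 : H2 ≤ T x y := inf_le_left.trans l1
  have s3 := D.card_step (H := H2) (D.symm ha) ha' inf_le_right (l2.trans inf_le_right)
  have l3 : H3 ≤ H2 := inf_le_left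
  have hb3 : H3 ≤ stabilizer G b := fun k hk =>
    D.fix_third (D.symm hy) ha hb hax (l2 (l3 hk)).2 (l2 (l3 hk)).1 (l3 hk).2
  have s4 := D.card_step (H := H3) (D.symm hb) hb' hb3 (l3.trans (l2.trans inf_le_right))
  have h4 : Nat.card ↥H4 ≤ 1 := D.card_le_one fun k hk => by
    obtain ⟨⟨⟨⟨hkT, k2⟩, ka⟩, ka'⟩, kb'⟩ := hk
    have hm : k ∈ D.ball (G := G) 2 y := D.mem_ball_succ hkT.2 fun u hu => by
      rcases D.nbr_cases (D.symm hy) ha hb hax hbx hab.symm hu with e | e | e <;> subst e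
      · exact D.mem_ball_one hkT.1 fun v hv => D.fix_third hy hy2 hv hy2y hkT.1 hkT.2 k2
      · exact D.mem_ball_one ka fun v hv => D.fix_third (D.symm ha) ha' hv ha'y ka hkT.2 ka'
      · exact D.mem_ball_one (hb3 ⟨⟨⟨hkT, k2⟩, ka⟩, ka'⟩) fun v hv =>
          D.fix_third (D.symm hb) hb' hv hb'y (hb3 ⟨⟨⟨hkT, k2⟩, ka⟩, ka'⟩) hkT.2 kb'
    rw [hbot, Subgroup.mem_bot] at hm
    exact hm
  simp only [← hH1, ← hH2, ← hH3, ← hH4] at s1 s2 s3 s4
  norm_num
  omega

/-- Constrained local groups with noncentral involutions on both sides. -/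
theorem bound_of_noncentral
    (hcent : ∀ (x : Ω) (g : G), g • x = x →
      (∀ q : G, q • x = x → (∀ y, D.Adj x y → q • y = y) → g * q = q * g) →
        ∀ y, D.Adj x y → g • y = y)
    (hnc : ∀ {x y}, D.Adj x y → ∃ z : G, z • x = x ∧ z • y = y ∧ z * z = 1 ∧
      (∀ h : G, h • x = x → h • y = y → h * z = z * h) ∧ ∃ g : G, g • x = x ∧ g * z ≠ z * g)
    {x y : Ω} (hy : D.Adj x y) : Nat.card ↥(T (G := G) x y) ≤ 2 ^ 4 := by
  let A : Am G Ω :=
    { Adj := D.Adj, symm := D.symm, equiv := D.equiv, fin := D.fin, nbr := D.nbr, trans := D.trans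
      swap := D.swap, edge := D.edge, gen := D.gen, faith := D.faith, cent := hcent, nc := hnc }
  obtain ⟨-, -, hcard, -, -⟩ := A.vertex_shape (show A.Adj x y from hy)
  obtain ⟨y2, -, hy2, -, hy2y, -, -⟩ := D.two_others hy
  have s1 := D.card_step (H := T (G := G) x y) hy hy2 inf_le_left inf_le_right
  haveI : Finite ↥(A.Q (G := G) x) := D.finite_sub (H := A.Q (G := G) x) fun q hq => hq.1
  have hle : T (G := G) x y ⊓ stabilizer G y2 ≤ A.Q (G := G) x := fun k hk =>
    ⟨hk.1.1, fun v hv => D.fix_third hy hy2 hv hy2y hk.1.1 hk.1.2 hk.2⟩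
  have := Subgroup.card_le_of_le hle
  rcases hcard with e | ⟨e, -⟩ <;> norm_num <;> omega

end Cubic

end CfsgLib.CubicRadius
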