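import Cfsg.Agent.Lib.CubicRadius.Commutator
import Cfsg.Agent.Lib.CubicRadius.Unconstrained

/-!
An even radius is at most four.
-/

set_option autoImplicit false
set_option linter.unusedSectionVars false

namespace CfsgLib.CubicRadius

open MulAction CfsgLib.S3Amalgam

variable {G : Type*} [Group G] {Ω : Type*} [MulAction G Ω] {D : Cubic G Ω}

/-- An edge as a walk. -/
theorem wk_one {a b : Ω} (h : D.Adj a b) : D.Wk 1 (fun i => if i = 0 then a else b) :=
  ⟨fun i hi => by obtain rfl : i = 0 := (by omega); simpa using h, fun i hi => absurd hi (by omega)⟩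

/-- A walk of length four through a vertex. -/
theorem wk_four {c n n' a b : Ω} (ha : Two D c n a) (hb : Two D c n' b) (hne : n' ≠ n) :
    ∃ p : ℕ → Ω, D.Wk 4 p ∧ p 0 = a ∧ p 1 = n ∧ p 2 = c ∧ p 3 = n' ∧ p 4 = b := by
  have h1 := D.wk_two (D.symm ha.h2) (D.symm ha.h1) (Ne.symm ha.ne)
  have h2 := D.wk_two hb.h1 hb.h2 hb.ne
  exact ⟨_, D.wk_join h1 h2 (by simp) (fun _ _ => by simpa using hne.symm), by simp, by simp, by simp,
    by simp, by simp⟩

namespace Centred

variable (C : Centred D)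

/-- Two vertices share a product. -/
def Meet (a b : Ω) : Prop := ∃ l, C.Pi a l ∧ C.Pi b l

theorem meet_symm {a b : Ω} (h : C.Meet a b) : C.Meet b a := by
  obtain ⟨l, h1, h2⟩ := h
  exact ⟨l, h2, h1⟩

theorem meet_conj {a b : Ω} (ha : C.isY a) (hb : C.isY b) (h : C.Meet a b) (g : G) :
    C.Meet (g • a) (g • b) := by
  obtain ⟨l, h1, h2⟩ := h
  exact ⟨_, C.pi_conj ha h1 g, C.pi_conj hb h2 g⟩

/-- Vertices in different branches at a common centre always share a product. -/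
def Complete : Prop :=
  ∀ c n n' a b, C.isY c → Two D c n a → Two D c n' b → n' ≠ n → C.Meet a b

theorem two_ne {c n n' a b : Ω} (hc : C.isY c) (ha : Two D c n a) (hb : Two D c n' b) (hne : n' ≠ n) :
    C.z a ≠ C.z b :=
  C.ne_four ha.h2 (D.symm ha.h1) (D.symm hb.h1) hb.h2 (Ne.symm ha.ne) hne hb.ne (C.two_isY hc ha)

variable (heven : C.R % 2 = 0) (h6 : 6 ≤ C.R)

include heven h6

theorem exists_meet {c n n' a : Ω} (hc : C.isY c) (ha : Two D c n a) (hn' : D.Adj c n') (hne : n' ≠ n) :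
    ∃ b, Two D c n' b ∧ C.Meet a b := by
  obtain ⟨u, hu⟩ := D.exists_nbr c
  obtain ⟨P, hP0, -, hP⟩ := D.exists_wk hu (C.R + 4)
  have h0 : C.isY (P 0) := hP0.symm ▸ hc
  have hY : ∀ {i}, i ≤ C.R + 4 → i % 2 = 0 → C.isY (P i) := fun {i} hi he => C.isY_at hP h0 hi he
  have hYy : C.isY (P (C.R + 4)) := hY le_rfl (by omega)
  set y := C.z (P (C.R + 4)) with hy
  have hm : y • P 3 ≠ P 3 := by
    have := C.moves heven h6 (D.wk_rev hP) (by omega)
      (show C.isY (P (C.R + 4 - 0)) by rw [Nat.sub_zero]; exact hYy)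
    simpa only [Nat.sub_zero, show C.R + 4 - (C.R + 1) = 3 by omega] using this
  have fixy : ∀ {i}, 4 ≤ i → i ≤ C.R + 4 → y • P i = P i := fun {i} hi hi' =>
    C.z_fix_wk hP hYy hi' le_rfl (by omega) (by omega)
  set l := C.z (P 0) * C.z (C.z (P (C.R + 2)) • P 0) * C.z (P 4) with hl
  have hl2 : C.Pi (P 2) l := (C.w_pi heven h6 (D.wk_mono hP (by omega)) h0).1
  have hyl : y * l = l * y := by
    have h4 : Commute y (C.z (P 4)) :=
      C.comm_wk hP hYy (hY (by omega) rfl) le_rfl (by omega) (by omega) (by omega)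
    exact ((show Commute y _ from C.w_comm heven h6 hP h0).mul_right h4).eq
  have hmeet : C.Meet (P 2) (y • P 2) := ⟨l, hl2, C.pi_comm (hY (by omega) rfl) hl2 hyl⟩
  have h43 : D.Adj (P 4) (P 3) := D.wk_adj' hP (i := 3) (by omega)
  have h32 : D.Adj (P 3) (P 2) := D.wk_adj' hP (i := 2) (by omega)
  have w1 : D.Wk (2 + 1) (fun i => if i < 2 then P (i + 2) else (fun j => if j = 0 then P 4 else y • P 3) (i - 2)) :=
    D.wk_join (D.wk_shift hP (M := 2) (k := 2) (by omega))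
      (wk_one (D.adj_smul_of_fix (fixy le_rfl (by omega)) h43)) rfl (fun _ _ => by simpa using hm.symm)
  have w2 := D.wk_two (D.symm ha.h2) (D.symm ha.h1) (Ne.symm ha.ne)
  have w3 : D.Wk (2 + 1) (fun i => if i < 2 then (fun j => if j = 0 then a else if j = 1 then n else c) i
      else (fun j => if j = 0 then c else n') (i - 2)) :=
    D.wk_join w2 (wk_one hn') rfl (fun _ _ => by simpa using hne.symm)
  obtain ⟨g, hg⟩ := C.tr_three hc _ _ w1 w3 (hY (by omega) rfl)
    (by simpa using C.two_isY hc ha)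
  have g2 : g • P 2 = a := by simpa using hg 0 (by omega)
  have g4 : g • P 4 = c := by simpa using hg 2 (by omega)
  have g5 : g • (y • P 3) = n' := by simpa using hg 3 le_rfl
  refine ⟨g • y • P 2, ⟨hn', g5 ▸ D.equiv g (D.equiv y h32), ?_⟩, ?_⟩
  · rw [← g4]
    intro e
    exact D.wk_ne hP (i := 2) (by omega) (MulAction.injective y
      ((MulAction.injective g e).trans (fixy le_rfl (by omega)).symm)).symm
  · have := C.meet_conj (hY (by omega) rfl) ((C.isY_smul y _).mpr (hY (by omega) rfl)) hmeet g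
    rwa [g2] at this

/-- Three pairwise meeting vertices in distinct branches share one product. -/
theorem common {c n₁ n₂ n₃ a b e : Ω} (hc : C.isY c) (ha : Two D c n₁ a) (hb : Two D c n₂ b)
    (he : Two D c n₃ e) (h12 : n₂ ≠ n₁) (h13 : n₃ ≠ n₁) (h23 : n₃ ≠ n₂) {l : G} (hla : C.Pi a l)
    (hlb : C.Pi b l) (hae : C.Meet a e) (hbe : C.Meet b e) : C.Pi e l := by
  have hYa := C.two_isY hc ha
  have hYb := C.two_isY hc hb
  have hYe := C.two_isY hc he
  have h4 : 4 ≤ C.R := by omega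
  obtain ⟨m, hma, hme⟩ := hae
  obtain ⟨k, hkb, hke⟩ := hbe
  by_contra hno
  have n1 : m ≠ l := fun e => hno (e ▸ hme)
  have n2 : k ≠ l := fun e => hno (e ▸ hke)
  have n3 : k ≠ m := fun e =>
    n1 (C.pi_inter h4 hYa hYb (C.two_ne hc ha hb h12) hla hlb hma (e ▸ hkb))
  have za := C.pi_mul h4 hYa hla hma n1
  have zb := C.pi_mul h4 hYb hlb hkb n2
  have ze := C.pi_mul h4 hYe hme hke n3
  have hba : C.z b * C.z a = C.z e := by
    conv_lhs => rw [← inv_eq_self (C.z_sq hYb), zb, za]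
    rw [mul_inv_rev, inv_eq_self (C.pi_sq h4 hYb hkb), inv_eq_self (C.pi_sq h4 hYb hlb)]
    calc k * l * (l * m) = k * (l * l) * m := by group
      _ = (m * k)⁻¹ := by
        rw [C.pi_sq h4 hYb hlb, mul_one, mul_inv_rev, inv_eq_self (C.pi_sq h4 hYb hkb),
          inv_eq_self (C.pi_sq h4 hYa hma)]
      _ = C.z e := by rw [← ze, inv_eq_self (C.z_sq hYe)]
  refine (C.perm heven h6 hc c hc _ ⟨n₁, n₂, n₃, a, b, e, ha, hb, he, h12.symm, h13.symm, h23.symm, rfl⟩).1 ?_
  rw [C.two_comm h4 hc ha hb, hba, C.z_sq hYe]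

/-- A product at the third vertex fixes every neighbour of the last. -/
theorem fixcomp {p : ℕ → Ω} (hp : D.Wk C.R p) (h0 : C.isY (p 0)) {l : G} (hl : C.Pi (p 2) l) {u : Ω}
    (hu : D.Adj (p C.R) u) : l • u = u := by
  have h4 : 4 ≤ C.R := by omega
  have hY2 : C.isY (p 2) := C.isY_at hp h0 (by omega) rfl
  have hY4 : C.isY (p 4) := C.isY_at hp h0 (by omega) rfl
  obtain ⟨n, hn, hn1, hn3, -⟩ := D.third (D.wk_adj' hp (i := 1) (by omega)) (hp.1 2 (by omega))
    (D.wk_ne hp (i := 1) (by omega))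
  obtain ⟨e, he⟩ := two_exists hn
  have hYe := C.two_isY hY2 he
  have w1 := D.wk_two (D.symm he.h2) (D.symm hn) (Ne.symm he.ne)
  have wq := D.wk_join w1 (D.wk_shift hp (M := C.R - 2) (k := 2) (by omega)) (by simp)
    (fun _ _ => by simpa using hn3)
  rw [show 2 + (C.R - 2) = C.R by omega] at wq
  set q : ℕ → Ω := fun i => if i < 2 then (fun j => if j = 0 then e else if j = 1 then n else p 2) i
    else p (i - 2 + 2) with hq
  have q0 : q 0 = e := by simp [hq]
  have qi : ∀ i, 2 ≤ i → q i = p i := fun i hi => by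
    simp only [hq, if_neg (show ¬ i < 2 by omega), show i - 2 + 2 = i by omega]
  have me := C.all_mv heven h6 wq (q0.symm ▸ hYe)
  have m0 := C.all_mv heven h6 hp h0
  have hb : D.Adj (p C.R) (p (C.R - 1)) := D.wk_back hp (by omega)
  have fix2 : C.z (p 2) • u = u := C.z_fix_near hY2 (by omega : C.R - 2 + 1 ≤ C.R)
    (D.near_trans (D.near_wk hp (by omega) le_rfl) (D.near_adj hu))
  have fix4 : C.z (p 4) • u = u := C.z_fix_near hY4 (by omega : C.R - 4 + 1 ≤ C.R)
    (D.near_trans (D.near_wk hp (by omega) le_rfl) (D.near_adj hu))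
  have f0 : ∀ {i}, i ≤ C.R → C.z (p 0) • p i = p i := fun {i} hi =>
    C.z_fix_wk hp h0 hi (Nat.zero_le _) (by omega) (by omega)
  have fe : ∀ {i}, 2 ≤ i → i ≤ C.R → C.z e • p i = p i := fun {i} hi hi' => by
    rw [← q0, ← qi i hi]
    exact C.z_fix_wk wq (q0.symm ▸ hYe) hi' (Nat.zero_le _) (by omega) (by omega)
  have hkey : C.z (p 0) • C.z e • u = u := by
    by_cases hu1 : u = p (C.R - 1)
    · subst hu1; rw [fe (by omega) (by omega), f0 (by omega)]
    have mve : ∀ v, D.Adj (p C.R) v → v ≠ p (C.R - 1) → C.z e • v ≠ v := fun v hv hvne => by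
      rw [← q0]
      exact C.mv_moves wq (q0.symm ▸ hYe) me (by rw [qi _ (by omega)]; exact hv)
        (by rw [qi _ (by omega)]; exact hvne)
    obtain ⟨v, hv, hv1, hv2, -⟩ := D.third hb hu hu1
    rw [D.smul_third hb hu hv hu1 hv1 hv2 (fe (by omega) le_rfl) (fe (by omega) (by omega)) (mve u hu hu1)]
    exact D.smul_third hb hv hu hv1 hu1 (Ne.symm hv2) (f0 le_rfl) (f0 (by omega))
      (C.mv_moves hp h0 m0 hv hv1)
  have hl0 : C.Pi (p 2) (C.z (p 0) * C.z e * C.z (p 4)) :=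
    ⟨p 1, n, p 3, p 0, e, p 4,
      ⟨D.wk_adj' hp (i := 1) (by omega), D.wk_adj' hp (i := 0) (by omega), (D.wk_ne hp (i := 0) (by omega)).symm⟩,
      he, ⟨hp.1 2 (by omega), hp.1 3 (by omega), D.wk_ne hp (i := 2) (by omega)⟩,
      hn1.symm, (D.wk_ne hp (i := 1) (by omega)).symm, hn3, rfl⟩
  rcases C.pi_two h4 hY2 hl0 hl with r | r <;> rw [r]
  · rw [mul_smul, mul_smul, fix4, hkey]
  · rw [mul_smul, mul_smul, mul_smul, fix2, fix4, hkey]

/-- Complete meeting is impossible. -/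
theorem not_complete {c : Ω} (hc : C.isY c) (hcomp : C.Complete) : False := by
  obtain ⟨n₁, n₂, n₃, h12, h13, h23, hn⟩ := D.nbr c
  have a1 : D.Adj c n₁ := (hn n₁).mpr (Or.inl rfl)
  have a2 : D.Adj c n₂ := (hn n₂).mpr (Or.inr (Or.inl rfl))
  have a3 : D.Adj c n₃ := (hn n₃).mpr (Or.inr (Or.inr rfl))
  obtain ⟨a, ha⟩ := two_exists a1
  obtain ⟨b, hb⟩ := two_exists a2
  obtain ⟨e, he⟩ := two_exists a3
  have h4 : 4 ≤ C.R := by omega
  obtain ⟨l, hla, hlb⟩ := hcomp c _ _ _ _ hc ha hb h12.symm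
  have third : ∀ v, Two D c n₃ v → C.Pi v l := fun v hv =>
    C.common heven h6 hc ha hb hv h12.symm h13.symm h23.symm hla hlb
      (hcomp c _ _ _ _ hc ha hv h13.symm) (hcomp c _ _ _ _ hc hb hv h23.symm)
  have hle := third e he
  have all : ∀ n v, Two D c n v → C.Pi v l := by
    intro n v hv
    rcases (hn n).mp hv.h1 with r | r | r <;> subst r
    · exact C.common heven h6 hc hb he hv h23.symm h12 h13 hlb hle
        (hcomp c _ _ _ _ hc hb hv h12) (hcomp c _ _ _ _ hc he hv h13)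
    · exact C.common heven h6 hc ha he hv h13.symm h12.symm h23 hla hle
        (hcomp c _ _ _ _ hc ha hv h12.symm) (hcomp c _ _ _ _ hc he hv h23)
    · exact third v hv
  have hperm := C.perm heven h6 hc
  refine (hperm a (C.two_isY hc ha) l hla).1 (C.maximal hc l (C.pi_sq h4 (C.two_isY hc ha) hla)
    (fun h hh => ?_) ?_)
  · have allc : ∀ n v, Two D c n v → C.Pi v (h * l * h⁻¹) := by
      intro n v hv
      have hv' := hv.smul h⁻¹
      rw [inv_smul_eq_iff.mpr hh.symm] at hv'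
      have := C.pi_conj (C.two_isY hc hv') (all _ _ hv') h
      rwa [smul_inv_smul] at this
    have := C.pi_inter h4 (C.two_isY hc ha) (C.two_isY hc hb) (C.two_ne hc ha hb h12.symm) hla hlb
      (allc _ _ ha) (allc _ _ hb)
    calc h * l = h * l * h⁻¹ * h := by group
      _ = l * h := by rw [this]
  · intro u hu
    obtain ⟨m, hm, P, hP, hP0, hPm⟩ := D.exists_wk_of_near hu
    rcases Nat.lt_or_ge m (C.R + 1) with hlt | hge
    · -- close vertices are fixed by every generator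
      obtain ⟨w, hw, hwn⟩ : ∃ w, (∃ n, Two D c n w) ∧ D.Near (C.R - 2) w u := by
        rcases Nat.lt_or_ge m 2 with h2 | h2
        · refine ⟨a, ⟨_, ha⟩, D.near_mono (by omega) (D.near_trans (D.near_symm ha.near) ?_ : D.Near (2 + 1) a u)⟩
          rw [← hP0, ← hPm]
          exact D.near_mono (by omega) (D.near_wk hP (Nat.zero_le m) le_rfl)
        · refine ⟨P 2, ⟨P 1, hP0 ▸ hP.1 0 (by omega), hP.1 1 (by omega), hP0 ▸ D.wk_ne hP (i := 0) (by omega)⟩, ?_⟩
          rw [← hPm]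
          exact D.near_mono (by omega) (D.near_wk hP h2 le_rfl)
      obtain ⟨n, hw⟩ := hw
      obtain ⟨m₁, m₂, m₃, x₁, x₂, x₃, hx₁, hx₂, hx₃, -, -, -, rfl⟩ := all n w hw
      have fx : ∀ {m x}, Two D w m x → C.z x • u = u := fun {m x} hx =>
        C.z_fix_near (C.two_isY (C.two_isY hc hw) hx) (by omega : 2 + (C.R - 2) ≤ C.R)
          (D.near_trans (D.near_symm hx.near) hwn)
      rw [mul_smul, mul_smul, fx hx₃, fx hx₂, fx hx₁]
    · obtain rfl : m = C.R + 1 := by omega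
      have hY0 : C.isY (P 0) := hP0.symm ▸ hc
      have hY2 : C.isY (P 2) := C.isY_at hP hY0 (by omega) rfl
      rw [← hPm]
      exact C.fixcomp heven h6 (D.wk_mono hP (by omega)) hY0
        (all (P 1) (P 2) ⟨hP0 ▸ hP.1 0 (by omega), hP.1 1 (by omega), hP0 ▸ D.wk_ne hP (i := 0) (by omega)⟩)
        (hP.1 C.R (by omega))

/-- A vertex meets at most one vertex of each other branch. -/
theorem meet_uniq {c n n' a b b' : Ω} (hc : C.isY c) (ha : Two D c n a) (hb : Two D c n' b)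
    (hb' : Two D c n' b') (hne : n' ≠ n) (h : C.Meet a b) (h' : C.Meet a b') : b' = b := by
  by_contra hbb
  refine C.not_complete heven h6 hc fun c₁ m m' a₁ b₁ hc₁ ha₁ hb₁ hm => ?_
  have w1 := D.wk_two (D.symm ha.h2) (D.symm ha.h1) (Ne.symm ha.ne)
  have w2 := D.wk_two (D.symm ha₁.h2) (D.symm ha₁.h1) (Ne.symm ha₁.ne)
  have e1 := wk_one hb.h1
  have e2 := wk_one hb₁.h1
  obtain ⟨g, hg⟩ := C.tr_three hc _ _ (D.wk_join w1 e1 rfl (fun _ _ => by simpa using hne.symm))
    (D.wk_join w2 e2 rfl (fun _ _ => by simpa using hm.symm))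
    (by simpa using C.two_isY hc ha) (by simpa using C.two_isY hc₁ ha₁)
  have g0 : g • a = a₁ := by simpa using hg 0 (by omega)
  have g2 : g • c = c₁ := by simpa using hg 2 (by omega)
  have g3 : g • n' = m' := by simpa using hg 3 le_rfl
  have hY := C.two_isY hc hb
  have m1 := C.meet_conj (C.two_isY hc ha) hY h g
  have m2 := C.meet_conj (C.two_isY hc ha) (C.two_isY hc hb') h' g
  rw [g0] at m1 m2
  have t1 := hb.smul g
  have t2 := hb'.smul g
  rw [g2, g3] at t1 t2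
  rcases D.nbr_cases (D.symm t1.h1) t1.h2 t2.h2 t1.ne t2.ne
      (fun e => hbb (MulAction.injective g e)) hb₁.h2 with r | r | r
  · exact absurd r hb₁.ne
  · exact r ▸ m1
  · exact r ▸ m2

/-- The vertex met in the third branch shares the product. -/
theorem third_pi {c n₁ n₂ n₃ a b : Ω} (hc : C.isY c) (ha : Two D c n₁ a) (hb : Two D c n₂ b)
    (h3 : D.Adj c n₃) (h12 : n₂ ≠ n₁) (h13 : n₃ ≠ n₁) (h23 : n₃ ≠ n₂) (hab : C.Meet a b) :
    ∃ e, Two D c n₃ e ∧ C.Meet a e ∧ C.Meet b e := by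
  obtain ⟨e, he, hae⟩ := C.exists_meet heven h6 hc ha h3 h13
  refine ⟨e, he, hae, ?_⟩
  by_contra hbe
  have h4 : 4 ≤ C.R := by omega
  obtain ⟨e', he', hbe'⟩ := C.exists_meet heven h6 hc hb h3 h23
  have hee : e' ≠ e := fun r => hbe (r ▸ hbe')
  obtain ⟨a', ha', hea'⟩ := C.exists_meet heven h6 hc he' ha.h1 h13.symm
  have haa : a' ≠ a := fun r => hee (C.meet_uniq heven h6 hc ha he he' h13 hae (C.meet_symm (r ▸ hea')))
  obtain ⟨b', hb', hab'⟩ := C.exists_meet heven h6 hc ha' hb.h1 h12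
  have hbb : b' ≠ b := fun r => haa
    (C.meet_uniq heven h6 hc hb ha ha' h12.symm (C.meet_symm hab) (C.meet_symm (r ▸ hab')))
  obtain ⟨e'', he'', hbe''⟩ := C.exists_meet heven h6 hc hb' h3 h23
  have hee'' : e'' ≠ e' := fun r => hbb
    (C.meet_uniq heven h6 hc he' hb hb' h23.symm (C.meet_symm hbe') (C.meet_symm (r ▸ hbe'')))
  have hbe5 : C.Meet b' e := by
    rcases D.nbr_cases (D.symm he.h1) he.h2 he'.h2 he.ne he'.ne hee he''.h2 with r | r | r
    · exact absurd r he''.ne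
    · exact r ▸ hbe''
    · exact absurd r hee''
  obtain ⟨l₁, p1a, p1b⟩ := hab
  obtain ⟨l₂, p2b, p2e⟩ := hbe'
  obtain ⟨l₃, p3e, p3a⟩ := hea'
  obtain ⟨l₄, p4a, p4b⟩ := hab'
  obtain ⟨l₅, p5b, p5e⟩ := hbe5
  obtain ⟨l₆, p6a, p6e⟩ := hae
  have Ya := C.two_isY hc ha
  have Ya' := C.two_isY hc ha'
  have Yb := C.two_isY hc hb
  have Yb' := C.two_isY hc hb'
  have Ye := C.two_isY hc he
  have Ye' := C.two_isY hc he'
  have za : C.z a = l₆ * l₁ := C.pi_mul h4 Ya p6a p1a fun r => hbe ⟨l₁, p1b, r ▸ p6e⟩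
  have zb : C.z b = l₁ * l₂ := C.pi_mul h4 Yb p1b p2b fun r => hee
    (C.meet_uniq heven h6 hc ha he he' h13 ⟨l₆, p6a, p6e⟩ ⟨l₁, p1a, r ▸ p2e⟩)
  have ze' : C.z e' = l₂ * l₃ := C.pi_mul h4 Ye' p2e p3e fun r => haa
    (C.meet_uniq heven h6 hc hb ha ha' h12.symm ⟨l₁, p1b, p1a⟩ ⟨l₂, p2b, r ▸ p3a⟩)
  have za' : C.z a' = l₃ * l₄ := C.pi_mul h4 Ya' p3a p4a fun r => hbb
    (C.meet_uniq heven h6 hc he' hb hb' h23.symm ⟨l₂, p2e, p2b⟩ ⟨l₃, p3e, r ▸ p4b⟩)
  have zb' : C.z b' = l₄ * l₅ := C.pi_mul h4 Yb' p4b p5b fun r => haa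
    (C.meet_uniq heven h6 hc he ha ha' h13.symm ⟨l₆, p6e, p6a⟩ ⟨l₄, r ▸ p5e, p4a⟩)
  have ze : C.z e = l₅ * l₆ := C.pi_mul h4 Ye p5e p6e fun r => hbb
    (C.meet_uniq heven h6 hc ha hb hb' h12 ⟨l₁, p1a, p1b⟩ ⟨l₆, p6a, r ▸ p5b⟩)
  have q1 : ∀ X : G, l₁ * (l₁ * X) = X := fun X => by rw [← mul_assoc, C.pi_sq h4 Ya p1a, one_mul]
  have q2 : ∀ X : G, l₂ * (l₂ * X) = X := fun X => by rw [← mul_assoc, C.pi_sq h4 Yb p2b, one_mul]
  have q3 : ∀ X : G, l₃ * (l₃ * X) = X := fun X => by rw [← mul_assoc, C.pi_sq h4 Ye' p3e, one_mul]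
  have q4 : ∀ X : G, l₄ * (l₄ * X) = X := fun X => by rw [← mul_assoc, C.pi_sq h4 Ya' p4a, one_mul]
  have q5 : ∀ X : G, l₅ * (l₅ * X) = X := fun X => by rw [← mul_assoc, C.pi_sq h4 Yb' p5b, one_mul]
  have hprod : C.z a * C.z b * C.z e' * C.z a' * C.z b' * C.z e = 1 := by
    rw [za, zb, ze', za', zb', ze]
    simp only [mul_assoc, q1, q2, q3, q4, q5, C.pi_sq h4 Ya p6a]
  have cba : C.z b * C.z a' = C.z a' * C.z b := C.two_comm h4 hc hb ha'
  have cea : C.z e' * C.z a' = C.z a' * C.z e' := C.two_comm h4 hc he' ha'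
  have ceb : C.z e' * C.z b' = C.z b' * C.z e' := C.two_comm h4 hc he' hb'
  have sa : C.z a' = C.z a * C.z c := C.two_sib hc ha ha' haa
  have sb : C.z b' = C.z b * C.z c := C.two_sib hc hb hb' hbb
  have se : C.z e' = C.z e * C.z c := C.two_sib hc he he' hee
  refine C.z_ne hc ?_
  have pa : C.z a * C.z a' = C.z c := by rw [sa, ← mul_assoc, C.z_sq Ya, one_mul]
  have pb : C.z b * C.z b' = C.z c := by rw [sb, ← mul_assoc, C.z_sq Yb, one_mul]
  have pe : C.z e' * C.z e = C.z c := by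
    rw [se, mul_assoc, ← C.two_comm_centre hc he, ← mul_assoc, C.z_sq Ye, one_mul]
  calc C.z c = C.z c * C.z c * C.z c := by rw [C.z_sq hc, one_mul]
    _ = C.z a * C.z a' * (C.z b * C.z b') * (C.z e' * C.z e) := by rw [pa, pb, pe]
    _ = C.z a * (C.z a' * C.z b) * (C.z b' * C.z e') * C.z e := by simp only [mul_assoc]
    _ = C.z a * C.z b * (C.z a' * C.z e') * C.z b' * C.z e := by
      rw [← cba, ← ceb]; simp only [mul_assoc]
    _ = 1 := by rw [← cea, ← hprod]; simp only [mul_assoc]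

/-- An even radius below six. -/
theorem even_radius {y : Ω} (hy : C.isY y) : False := by
  rcases Nat.lt_or_ge C.R 8 with h8 | h8
  · have hR : C.R = 6 := by omega
    refine C.not_complete heven h6 hy fun c n n' a b hc ha hb hne => ?_
    obtain ⟨p, hp, p0, -, -, -, p4⟩ := wk_four ha hb hne
    obtain ⟨q, hq, hqi⟩ := D.exists_back hp (by omega) 2
    obtain ⟨Q, hQ, hQi⟩ := D.exists_ext hq (by omega) 2
    have hQ0 : C.isY (Q 0) := C.isY_zero hQ (i := 2) (by omega) rfl (by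
      rw [hQi 2 (by omega), hqi 0 (by omega), p0]; exact C.two_isY hc ha)
    have hW : D.Wk (C.R + 2) Q := D.wk_mono hQ (by omega)
    obtain ⟨h1, h2⟩ := C.w_pi heven h6 hW hQ0
    rw [C.w_eq heven h6 hW hQ0, show C.R - 2 = 4 by omega] at h2
    rw [hQi 2 (by omega), hqi 0 (by omega), p0] at h1
    conv at h2 => arg 2; rw [hR, hQi 6 (by omega), hqi 4 le_rfl, p4]
    exact ⟨_, h1, h2⟩
  · obtain ⟨n, hn⟩ := D.exists_nbr y
    obtain ⟨a, ha⟩ := two_exists hn
    obtain ⟨n', -, hn', -, hne, -, -⟩ := D.two_others hn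
    obtain ⟨b, hb, hab⟩ := C.exists_meet heven h6 hy ha hn' hne
    obtain ⟨p, hp, p0, p1, p2, p3, p4⟩ := wk_four ha hb hne
    obtain ⟨q, hq, hqi⟩ := D.exists_back hp (by omega) (C.R - 2)
    obtain ⟨Q, hQ, hQi'⟩ := D.exists_ext hq (by omega) 2
    have hQp : ∀ i ≤ 4, Q (i + (C.R - 2)) = p i := fun i hi => by rw [hQi' _ (by omega), hqi i hi]
    have Qa : Q (C.R - 2) = a := by rw [← p0, ← hQp 0 (by omega), Nat.zero_add]
    have Qc : Q C.R = y := by rw [← p2, ← hQp 2 (by omega), show 2 + (C.R - 2) = C.R by omega]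
    have Qn : Q (C.R - 1) = n := by rw [← p1, ← hQp 1 (by omega), show 1 + (C.R - 2) = C.R - 1 by omega]
    have Qn' : Q (C.R + 1) = n' := by rw [← p3, ← hQp 3 (by omega), show 3 + (C.R - 2) = C.R + 1 by omega]
    have Qb : Q (C.R + 2) = b := by rw [← p4, ← hQp 4 le_rfl, show 4 + (C.R - 2) = C.R + 2 by omega]
    have hQ0 : C.isY (Q 0) := C.isY_zero hQ (i := C.R) (by omega) heven (by rw [Qc]; exact hy)
    have hY : ∀ {i}, i ≤ 4 + (C.R - 2) + 2 → i % 2 = 0 → C.isY (Q i) :=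
      fun {i} hi he => C.isY_at hQ hQ0 hi he
    obtain ⟨P, hP, hPQ⟩ : ∃ P : ℕ → Ω, D.Wk (C.R + 2) P ∧ ∀ i, P i = Q (i + 2) :=
      ⟨_, D.wk_shift hQ (k := 2) (by omega), fun _ => rfl⟩
    have hP0 : C.isY (P 0) := by rw [hPQ]; exact hY (by omega) rfl
    have hPR : P C.R = b := by rw [hPQ, Qb]
    have hPR2 : P (C.R - 2) = y := by rw [hPQ, show C.R - 2 + 2 = C.R by omega, Qc]
    set o := C.z (P (C.R + 2)) • P 0 with ho
    set l := C.z (P 0) * C.z o * C.z y with hl
    have hlb : C.Pi b l := by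
      have := (C.w_pi heven h6 hP hP0).2
      rwa [C.w_eq heven h6 hP hP0, hPR, hPR2] at this
    have hYo : C.isY o := (C.isY_smul _ _).mpr hP0
    have ho2 : D.Near 2 o (P 2) := by
      have := D.near_smul (C.z (P (C.R + 2))) (D.near_wk hP (i := 0) (j := 2) (Nat.zero_le _) (by omega))
      rwa [C.z_fix_wk hP (C.isY_at hP hP0 le_rfl (by omega)) (show 2 ≤ C.R + 2 by omega) le_rfl (by omega) (by omega)] at this
    have ho6 : D.Near (2 + 4) o (Q 0) := D.near_trans ho2 (by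
      rw [hPQ]; exact D.near_symm (D.near_wk hQ (i := 0) (j := 2 + 2) (Nat.zero_le _) (by omega)))
    set x := C.z (Q 0) with hx
    have hxl : x * l = l * x := by
      have c1 : Commute x (C.z (P 0)) := by
        rw [hPQ]; exact C.comm_wk hQ hQ0 (hY (by omega) rfl) (Nat.zero_le _) (by omega) (by omega) (by omega)
      have c2 : Commute x (C.z o) := C.comm hQ0 hYo (D.near_mono (by omega) (D.near_symm ho6))
      have c3 : Commute x (C.z y) := by
        rw [← Qc]; exact C.comm_wk hQ hQ0 (hY (by omega) heven) (Nat.zero_le _) (by omega) (by omega) (by omega)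
      exact ((c1.mul_right c2).mul_right c3).eq
    have hYb := C.two_isY hy hb
    have hle : C.Pi (x • b) l := C.pi_comm hYb hlb hxl
    have fx : ∀ {i}, i ≤ C.R → x • Q i = Q i := fun {i} hi =>
      C.z_fix_wk hQ hQ0 (by omega) (Nat.zero_le _) (by omega) (by omega)
    have hxn : x • n = n := by rw [← Qn]; exact fx (by omega)
    have hxy : x • y = y := by rw [← Qc]; exact fx le_rfl
    have hxn' : x • n' ≠ n' := by
      rw [← Qn']
      exact C.moves heven h6 hQ (by omega) hQ0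
    have he : Two D y (x • n') (x • b) := by
      have := hb.smul x
      rwa [hxy] at this
    have h13 : x • n' ≠ n := fun r => hne (MulAction.injective x (r.trans hxn.symm))
    obtain ⟨e, he2, hae, hbe⟩ := C.third_pi heven h6 hy ha hb he.h1 hne h13 hxn' hab
    have heq : x • b = e := C.meet_uniq heven h6 hy hb he2 he hxn' hbe ⟨l, hlb, hle⟩
    have hla : C.Pi a l := C.common heven h6 hy hb he ha hxn' hne.symm h13.symm hlb hle
      (C.meet_symm hab) (heq ▸ C.meet_symm hae)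
    obtain ⟨u, -, hu, -, hu1, -, -⟩ := D.two_others (hQ.1 0 (by omega))
    have wr : D.Wk C.R (fun i => Q (C.R - i)) := D.wk_rev (D.wk_mono hQ (by omega))
    have hlu : l • u = u := C.fixcomp heven h6 wr
      (show C.isY (Q (C.R - 0)) from hY (by omega) (by omega))
      (show C.Pi (Q (C.R - 2)) l by rw [Qa]; exact hla)
      (show D.Adj (Q (C.R - C.R)) u by rw [Nat.sub_self]; exact hu)
    have hyu : C.z y • u ≠ u := by
      have := C.mv_moves wr (show C.isY (Q (C.R - 0)) from hY (by omega) (by omega))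
        (C.all_mv heven h6 wr (show C.isY (Q (C.R - 0)) from hY (by omega) (by omega)))
        (show D.Adj (Q (C.R - C.R)) u by rw [Nat.sub_self]; exact hu)
        (show u ≠ Q (C.R - (C.R - 1)) by rw [show C.R - (C.R - 1) = 1 by omega]; exact hu1)
      simpa only [Nat.sub_zero, Qc] using this
    refine hyu ?_
    have f0 : C.z (P 0) • u = u := C.z_fix_near hP0 (by omega : 2 + 1 ≤ C.R) (by
      rw [hPQ]; exact D.near_trans (D.near_symm (D.near_wk hQ (i := 0) (j := 2) (Nat.zero_le _) (by omega))) (D.near_adj hu))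
    have fo : C.z o • u = u := C.z_fix_near hYo (by omega : 2 + 4 + 1 ≤ C.R) (D.near_trans ho6 (D.near_adj hu))
    rw [hl, mul_smul, mul_smul] at hlu
    exact MulAction.injective (C.z o) ((MulAction.injective (C.z (P 0)) (hlu.trans f0.symm)).trans fo.symm)

end Centred

end CfsgLib.CubicRadius
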