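import Cfsg.Agent.Lib.CubicRadius.Walks

/-!
For an even radius at least six every walk of that length is moved beyond its end.
-/

set_option autoImplicit false
set_option linter.unusedSectionVars false

namespace CfsgLib.CubicRadius

open MulAction CfsgLib.S3Amalgam

variable {G : Type*} [Group G] {Ω : Type*} [MulAction G Ω] {D : Cubic G Ω}

namespace Centred

variable (C : Centred D)

theorem isY_iff {L : ℕ} {p : ℕ → Ω} (h : D.Wk L p) :
    ∀ i ≤ L, (C.isY (p i) ↔ (C.isY (p 0) ↔ Even i)) := by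
  intro i
  induction i with
  | zero => intro _; simp
  | succ i ih =>
    intro hi
    have h1 := ih (by omega)
    have h2 := C.isY_adj (h.1 i (by omega))
    have h3 : Even (i + 1) ↔ ¬ Even i := Nat.even_add_one
    tauto

theorem isY_zero {L i : ℕ} {p : ℕ → Ω} (h : D.Wk L p) (hi : i ≤ L) (he : i % 2 = 0)
    (hY : C.isY (p i)) : C.isY (p 0) :=
  ((C.isY_iff h i hi).mp hY).mpr (Nat.even_iff.mpr he)

variable (heven : C.R % 2 = 0) (h6 : 6 ≤ C.R)

include heven h6

/-- The property of being moved beyond the end passes to the reversed walk. -/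
theorem mv_sym {q : ℕ → Ω} (hq : D.Wk (C.R + 2) q) (h0 : C.isY (q 0)) (hm : C.Mv q) :
    C.Mv (fun i => q (C.R + 2 - i)) := by
  have hY : ∀ {i}, i ≤ C.R + 2 → i % 2 = 0 → C.isY (q i) := fun {i} hi he => C.isY_at hq h0 hi he
  have hYe : C.isY (q (C.R + 2)) := hY le_rfl (by omega)
  have hmov := C.mv_next hq (by omega) h0 hm
  set u := C.z (q (C.R + 2)) with hu
  suffices h1 : u • q 1 ≠ q 1 by
    refine C.mv_of_moves (D.wk_rev hq) (by omega) ?_
    show C.z (q (C.R + 2 - 0)) • q (C.R + 2 - (C.R + 1)) ≠ q (C.R + 2 - (C.R + 1))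
    rwa [Nat.sub_zero, show C.R + 2 - (C.R + 1) = 1 by omega]
  intro h1
  have fixu : ∀ {i}, 1 ≤ i → i ≤ C.R + 2 → u • q i = q i := fun {i} hi hi' => by
    rcases Nat.lt_or_ge i 2 with e | e
    · obtain rfl : i = 1 := by omega
      exact h1
    · exact C.z_fix_wk hq hYe hi' le_rfl (by omega) (by omega)
  have fix0 : ∀ {i}, i ≤ C.R → C.z (q 0) • q i = q i := fun {i} hi =>
    C.z_fix_wk hq h0 (by omega) (Nat.zero_le _) (by omega) (by omega)
  have hu0 : u • q 0 ≠ q 0 := by
    intro e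
    have hc := C.z_cent h0 u e
    have hxa : D.Adj (q (C.R + 1)) (q (C.R + 2)) := hq.1 (C.R + 1) (by omega)
    refine C.ne_four hxa (D.wk_adj' hq (i := C.R) (by omega))
      (x' := C.z (q 0) • q (C.R + 1)) (b := C.z (q 0) • q (C.R + 2))
      (D.symm (D.adj_smul_of_fix (fix0 le_rfl) (hq.1 C.R (by omega))))
      (D.equiv _ hxa) (fun e' => D.wk_ne hq (i := C.R) le_rfl e'.symm) hmov (fun e' => ?_) hYe ?_
    · exact D.wk_ne hq (i := C.R) le_rfl (MulAction.injective (C.z (q 0)) (e'.trans (fix0 le_rfl).symm))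
    · rw [← C.z_conj_z h0 hYe, ← hu, ← hc, mul_assoc, C.z_sq h0, mul_one]
  have htr : C.Tr C.R := C.climb_all h0 (fun j hj hjR => by
    rcases Nat.mod_two_eq_zero_or_one j with ej | ej
    · refine ⟨fun i => q (i + (C.R - j)), C.z (q 0), D.wk_shift hq (by omega),
        hY (by omega) (by omega), fun i hi => fix0 (by omega), ?_⟩
      show C.z (q 0) • q (j + 1 + (C.R - j)) ≠ q (j + 1 + (C.R - j))
      rwa [show j + 1 + (C.R - j) = C.R + 1 by omega]
    · refine ⟨fun i => q (j + 1 - i), u, D.wk_rev (D.wk_mono hq (by omega)),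
        hY (by omega) (by omega), fun i hi => fixu (by omega) (by omega), ?_⟩
      show u • q (j + 1 - (j + 1)) ≠ q (j + 1 - (j + 1))
      rwa [Nat.sub_self]) (by omega)
  have hYr : C.isY (q (C.R + 2 - 0)) := by rw [Nat.sub_zero]; exact hYe
  have := C.mv_next (D.wk_rev hq) (by omega) hYr
    (C.mv_of_tr htr (D.wk_mono hq (by omega)) (D.wk_mono (D.wk_rev hq) (by omega)) h0 hYr hm)
  simp only [Nat.sub_zero, show C.R + 2 - (C.R + 1) = 1 by omega] at this
  exact this h1

/-- The first two vertices of a moved walk may be changed. -/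
theorem mv_ch1 {p p' : ℕ → Ω} (hp : D.Wk C.R p) (hp' : D.Wk C.R p') (h0 : C.isY (p 0))
    (e : ∀ i ≤ C.R, 2 ≤ i → p' i = p i) (hm : C.Mv p) : C.Mv p' := by
  obtain ⟨q, hq, hqi⟩ := D.exists_ext hp (by omega) 2
  have hq0 : C.isY (q 0) := (hqi 0 (Nat.zero_le _)).symm ▸ h0
  have hr := C.mv_sym heven h6 hq hq0 (C.mv_congr hm (hqi 0 (Nat.zero_le _)).symm (hqi C.R le_rfl).symm)
  have hj : D.Wk (2 + C.R) (fun i => if i < 2 then p' i else q (i - 2 + 2)) :=
    D.wk_join (D.wk_mono hp' (by omega)) (D.wk_shift hq (k := 2) (by omega))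
      (by show p' 2 = q (0 + 2); rw [e 2 (by omega) le_rfl, hqi 2 (by omega)])
      (fun _ _ => by
        show p' 1 ≠ q (1 + 2)
        rw [hqi 3 (by omega), ← e 3 (by omega) (by omega)]
        exact (D.wk_ne hp' (i := 1) (by omega)).symm)
  rw [Nat.add_comm] at hj
  set q' : ℕ → Ω := fun i => if i < 2 then p' i else q (i - 2 + 2) with hq'
  have hq'i : ∀ i, 2 ≤ i → q' i = q i := fun i hi => by
    simp only [hq', if_neg (show ¬ i < 2 by omega), show i - 2 + 2 = i by omega]
  have hY2 : C.isY (q 2) := C.isY_at hq hq0 (by omega) rfl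
  have hq'0 : C.isY (q' 0) := C.isY_zero hj (i := 2) (by omega) rfl (by rw [hq'i 2 le_rfl]; exact hY2)
  have hr' : C.Mv (fun i => q' (C.R + 2 - i)) :=
    C.mv_congr hr (hq'i _ (by omega)).symm (hq'i _ (by omega)).symm
  have := C.mv_sym heven h6 (D.wk_rev hj) (C.isY_at hj hq'0 (by omega) (by omega)) hr'
  refine C.mv_congr this ?_ ?_
  · show q' (C.R + 2 - (C.R + 2 - 0)) = p' 0
    rw [Nat.sub_zero, Nat.sub_self]; simp [hq']
  · show q' (C.R + 2 - (C.R + 2 - C.R)) = p' C.R
    rw [show C.R + 2 - (C.R + 2 - C.R) = C.R by omega, hq'i _ (by omega), hqi _ le_rfl, e _ le_rfl (by omega)]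

/-- Being moved passes to the walk shifted back by two. -/
theorem mv_shift {q : ℕ → Ω} (hq : D.Wk (C.R + 2) q) (h0 : C.isY (q 0))
    (hm : C.Mv (fun i => q (i + 2))) : C.Mv q := by
  by_contra hnot
  obtain ⟨Q, hQ, hQq⟩ := D.exists_ext hq (by omega) 2
  obtain ⟨p, hp, hpq⟩ : ∃ p : ℕ → Ω, D.Wk (C.R + 2) p ∧ ∀ i, p i = Q (i + 2) :=
    ⟨_, D.wk_shift hQ le_rfl, fun _ => rfl⟩
  have hp0 : C.isY (p 0) := by
    rw [hpq, hQq _ (by omega)]; exact C.isY_at hq h0 (by omega) rfl
  have hY : ∀ {i}, i ≤ C.R + 2 → i % 2 = 0 → C.isY (p i) := fun {i} hi he => C.isY_at hp hp0 hi he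
  have hpm : C.Mv p := C.mv_congr hm
    (by show q (0 + 2) = p 0; rw [hpq, hQq _ (by omega)])
    (by show q (C.R + 2) = p C.R; rw [hpq, hQq _ (by omega)])
  have hYe : C.isY (p (C.R + 2)) := hY le_rfl (by omega)
  have hmov := C.mv_next hp (by omega) hp0 hpm
  have fix0 : ∀ {i}, i ≤ C.R → C.z (p 0) • p i = p i := fun {i} hi =>
    C.z_fix_wk hp hp0 (by omega) (Nat.zero_le _) (by omega) (by omega)
  set u := C.z (p (C.R + 2)) with hu
  have hu1 : u • p 1 ≠ p 1 := by
    have := C.mv_next (D.wk_rev hp) (by omega) (show C.isY (p (C.R + 2 - 0)) by rw [Nat.sub_zero]; exact hYe)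
      (C.mv_sym heven h6 hp hp0 hpm)
    simpa only [Nat.sub_zero, show C.R + 2 - (C.R + 1) = 1 by omega] using this
  have fixu : ∀ {i}, 2 ≤ i → i ≤ C.R + 2 → u • p i = p i := fun {i} hi hi' =>
    C.z_fix_wk hp hYe hi' le_rfl (by omega) (by omega)
  set r := C.z (p 0) • p (C.R + 1) with hrdef
  have hfwd : D.Adj (p C.R) (p (C.R + 1)) := hp.1 C.R (by omega)
  have hback : D.Adj (p C.R) (p (C.R - 1)) := D.wk_back (D.wk_mono hp (by omega)) (by omega)
  have hradj : D.Adj (p C.R) r := D.adj_smul_of_fix (fix0 le_rfl) hfwd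
  have hne1 : p (C.R + 1) ≠ p (C.R - 1) := by
    have := D.wk_ne hp (i := C.R - 1) (by omega)
    rwa [show C.R - 1 + 2 = C.R + 1 by omega] at this
  have hr1 : r ≠ p (C.R - 1) := fun e =>
    hne1 (MulAction.injective (C.z (p 0)) (e.trans (fix0 (by omega)).symm))
  have hxa : D.Adj (p (C.R + 1)) (p (C.R + 2)) := hp.1 (C.R + 1) (by omega)
  have hnz : C.z (p (C.R + 2)) ≠ C.z (C.z (p 0) • p (C.R + 2)) :=
    C.ne_four hxa (D.symm hfwd) (x' := r) (D.symm hradj) (D.equiv _ hxa)
      (fun e' => D.wk_ne hp (i := C.R) le_rfl e'.symm) hmov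
      (fun e' => D.wk_ne hp (i := C.R) le_rfl (MulAction.injective (C.z (p 0)) (e'.trans (fix0 le_rfl).symm))) hYe
  -- the neighbouring involutions fix the last vertices
  have six : ∀ c v, D.Adj (p 0) c → D.Adj c v → C.isY v →
      C.z v • p (C.R - 1) = p (C.R - 1) ∧ C.z v • p C.R = p C.R := by
    intro c v hc hcv hv
    by_cases hv0 : v = p 0
    · subst hv0; exact ⟨fix0 (by omega), fix0 le_rfl⟩
    by_cases hc1 : c = p 1
    · subst hc1
      exact ⟨C.z_fix_near hv (by omega : 1 + (C.R - 1 - 1) ≤ C.R)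
          (D.near_trans (D.near_adj (D.symm hcv)) (D.near_wk hp (by omega) (by omega))),
        C.z_fix_near hv (by omega : 1 + (C.R - 1) ≤ C.R)
          (D.near_trans (D.near_adj (D.symm hcv)) (D.near_wk hp (by omega) (by omega)))⟩
    obtain ⟨q1, hq1, q10, q1p⟩ := D.exists_cons hp (D.symm hc) (fun _ => hc1)
    obtain ⟨q', hq', q'0, qq⟩ := D.exists_cons hq1 (by rw [q10]; exact D.symm hcv)
      (fun _ => by rw [show q1 1 = p 0 from q1p 0 (Nat.zero_le _)]; exact hv0)
    have qp : ∀ {i}, i ≤ C.R + 2 → q' (i + 2) = p i := fun {i} hi => by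
      rw [qq (i + 1) (by omega), q1p i hi]
    have hq'Y : C.isY (q' 0) := q'0 ▸ hv
    have hnot' : ¬ C.Mv q' := fun hm' => hnot (C.mv_ch1 heven h6 (D.wk_mono hq' (by omega))
      (D.wk_mono hq (by omega)) hq'Y (fun i hi h2 => by
        rw [← hQq i (by omega), show i = i - 2 + 2 by omega, qp (by omega), hpq]) hm')
    have h1 : C.z v • p (C.R - 1) = p (C.R - 1) := by
      by_contra hm'
      refine hnot' (C.mv_of_moves hq' (by omega) ?_)
      rwa [q'0, show C.R + 1 = C.R - 1 + 2 by omega, qp (by omega)]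
    refine ⟨h1, by_contra fun hm' => ?_⟩
    set w := C.z (p C.R) with hw
    have hwY : C.isY (p C.R) := hY (by omega) heven
    have hwc : w • c = c := by
      by_contra hwc
      have hr : C.Mv (fun i => q' (C.R + 2 - i)) := by
        refine ⟨c, ?_, ?_⟩
        · show D.Adj (q' (C.R + 2 - C.R)) c
          rw [show C.R + 2 - C.R = 0 + 2 by omega, qp (by omega)]; exact hc
        · show C.z (q' (C.R + 2 - 0)) • c ≠ c
          rwa [Nat.sub_zero, qp (by omega)]
      have hq'2 : D.Wk (C.R + 2) q' := D.wk_mono hq' (by omega)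
      have := C.mv_sym heven h6 (D.wk_rev hq'2)
        (by show C.isY (q' (C.R + 2 - 0)); rw [Nat.sub_zero, qp (by omega)]; exact hwY) hr
      exact hnot' (C.mv_congr this (by show q' (C.R + 2 - (C.R + 2 - 0)) = q' 0; rw [Nat.sub_zero, Nat.sub_self])
        (by show q' (C.R + 2 - (C.R + 2 - C.R)) = q' C.R; rw [show C.R + 2 - (C.R + 2 - C.R) = C.R by omega]))
    have hvw : C.z v • p (C.R - 2) = p (C.R - 2) := by
      rw [← q'0, ← qp (i := C.R - 2) (by omega)]
      exact C.z_fix_wk hq' hq'Y (by omega) (Nat.zero_le _) (by omega) (by omega)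
    have hx2 : D.Adj (p (C.R - 1)) (p (C.R - 2)) := by
      have := D.wk_adj' hp (i := C.R - 2) (by omega)
      rwa [show C.R - 2 + 1 = C.R - 1 by omega] at this
    have hxR : D.Adj (p (C.R - 1)) (p C.R) := D.symm hback
    have hne2 : p C.R ≠ p (C.R - 2) := by
      have := D.wk_ne hp (i := C.R - 2) (by omega)
      rwa [show C.R - 2 + 2 = C.R by omega] at this
    have hRR : C.z (C.z v • p C.R) = C.z (p (C.R - 2)) * w :=
      C.z_sibling hx2 hxR (D.adj_smul_of_fix h1 hxR) hne2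
        (fun e => hne2 (MulAction.injective (C.z v) (e.trans hvw.symm))) hm' (hY (by omega) (by omega))
    have hconj : C.z v * w * C.z v = C.z (p (C.R - 2)) * w := by rw [hw, C.z_conj_z hv hwY, hRR]
    have hwv : w • v ≠ v := by
      intro e
      have hcm := C.z_cent hv w e
      refine C.ne_of_common hxR (D.adj_smul_of_fix h1 hxR) hm' hwY ?_
      rw [hRR, ← hconj, ← hcm, mul_assoc, C.z_sq hv, mul_one]
    have hw0 : w • p 0 = p 0 := C.z_fix_wk hp hwY (Nat.zero_le _) (by omega) (by omega) (by omega)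
    have hconj2 : w * C.z v * w = C.z (p 0) * C.z v := by
      rw [hw, C.z_conj_z hwY hv]
      exact C.z_sibling (D.symm hc) hcv (D.adj_smul_of_fix hwc hcv) hv0
        (fun e => hv0 (MulAction.injective w (e.trans hw0.symm))) hwv hp0
    have hvv := C.z_sq hv
    have hww : w * w = 1 := C.z_sq hwY
    have e1 : C.z v * w * C.z v * w = C.z (p (C.R - 2)) := by rw [hconj, mul_assoc, hww, mul_one]
    have e2 : w * C.z v * w * C.z v = C.z (p 0) := by rw [hconj2, mul_assoc, hvv, mul_one]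
    have h0R : C.z (p (C.R - 2)) = C.z (p 0) := by
      rw [← e1, ← inv_eq_self (C.z_sq hp0), ← e2, mul_inv_rev, mul_inv_rev, mul_inv_rev,
        inv_eq_self hvv, inv_eq_self hww]
      simp only [mul_assoc]
    refine hnz ?_
    rw [← C.z_conj_z hp0 hYe, ← h0R,
      C.comm_wk hp (hY (by omega) (by omega)) hYe (by omega) le_rfl (by omega) (by omega),
      mul_assoc, C.z_sq (hY (by omega) (by omega)), mul_one]
  have hu0 : u • p 0 = u • p 0 := rfl
  set o := u • p 0 with ho
  have huu : u * u = 1 := C.z_sq hYe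
  have h00 : C.z (p 0) * C.z (p 0) = 1 := C.z_sq hp0
  have hzo : C.z o = u * C.z (p 0) * u := by rw [hu, C.z_conj_z hYe hp0]
  have hop2 : D.Adj (p 2) (u • p 1) :=
    D.adj_smul_of_fix (fixu le_rfl (by omega)) (D.wk_adj' hp (i := 1) (by omega))
  have hoc : D.Adj (u • p 1) o := D.equiv u (D.wk_adj' hp (i := 0) (by omega))
  set U := C.W (p 0) ⊔ C.W (p 2) with hU
  have hzo2 : C.z o ∈ C.W (p 2) := C.z_mem_W hop2 hoc ((C.isY_smul u _).mpr hp0)
  have hgen : ∀ c v, D.Adj (p 0) c → D.Adj c v → C.isY v → u * C.z v * u ∈ U := by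
    intro c v hc hcv hv
    obtain ⟨hv1, hv2⟩ := six c v hc hcv hv
    have hvm : C.z v ∈ U := Subgroup.mem_sup_left (C.z_mem_W hc hcv hv)
    have hvv := C.z_sq hv
    have hfix : ∀ {i}, i ≤ C.R → C.z v • p i = p i := fun {i} hi => by
      rcases Nat.lt_or_ge i (C.R - 1) with e | e
      · exact C.z_fix_near hv (by omega : 2 + (i - 0) ≤ C.R)
          (D.near_trans (D.near_cons (D.symm hcv) (D.near_adj (D.symm hc)))
            (D.near_wk hp (Nat.zero_le _) (by omega)))
      · rcases Nat.lt_or_ge i C.R with e' | e'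
        · rw [show i = C.R - 1 by omega]; exact hv1
        · rw [show i = C.R by omega]; exact hv2
    obtain ⟨y, hy, hyfix, hy1⟩ : ∃ y : G, (y = C.z v ∨ y = C.z (p 0) * C.z v) ∧
        (∀ {i}, i ≤ C.R → y • p i = p i) ∧ y • p (C.R + 1) = p (C.R + 1) := by
      rcases D.nbr_cases hback hfwd hradj hne1 hr1 hmov (D.adj_smul_of_fix hv2 hfwd) with e | e | e
      · exact absurd ((MulAction.injective (C.z v)) (e.trans hv1.symm)) hne1
      · exact ⟨_, Or.inl rfl, hfix, e⟩
      · exact ⟨_, Or.inr rfl, fun {i} hi => by rw [mul_smul, hfix hi, fix0 hi],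
          by rw [mul_smul, e, hrdef, C.z_smul_smul hp0]⟩
    have hy2 : y • p (C.R + 2) = p (C.R + 2) := by
      by_contra hy2
      have htr : C.Tr C.R := C.climb_all hp0 (fun j hj hjR => by
        rcases Nat.mod_two_eq_zero_or_one j with ej | ej
        · refine ⟨fun i => p (i + (C.R - j)), C.z (p 0), D.wk_shift hp (by omega),
            hY (by omega) (by omega), fun i hi => fix0 (by omega), ?_⟩
          show C.z (p 0) • p (j + 1 + (C.R - j)) ≠ p (j + 1 + (C.R - j))
          rwa [show j + 1 + (C.R - j) = C.R + 1 by omega]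
        · refine ⟨fun i => p (i + (C.R + 1 - j)), y, D.wk_shift hp (by omega),
            hY (by omega) (by omega), fun i hi => ?_, ?_⟩
          · show y • p (i + (C.R + 1 - j)) = p (i + (C.R + 1 - j))
            rcases Nat.lt_or_ge i j with h | h
            · exact hyfix (by omega)
            · rw [show i + (C.R + 1 - j) = C.R + 1 by omega]; exact hy1
          · show y • p (j + 1 + (C.R + 1 - j)) ≠ p (j + 1 + (C.R + 1 - j))
            rwa [show j + 1 + (C.R + 1 - j) = C.R + 2 by omega]) (by omega)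
      exact hnot (C.mv_of_tr htr (D.wk_mono hp (by omega)) (D.wk_mono hq (by omega)) hp0 h0 hpm)
    rcases hy with rfl | rfl
    · have h : C.z v * u * C.z v = u := by rw [hu, C.z_conj_z hv hYe, hy2]
      have : u * C.z v * u = C.z v := by
        calc u * C.z v * u = C.z v * u * C.z v * C.z v * u := by rw [h]
          _ = C.z v * (u * (C.z v * C.z v) * u) := by group
          _ = C.z v := by rw [hvv, mul_one, huu, mul_one]
      rw [this]; exact hvm
    · have he : C.z v • p (C.R + 2) = C.z (p 0) • p (C.R + 2) := by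
        rw [mul_smul] at hy2
        conv_rhs => rw [← hy2]
        rw [C.z_smul_smul hp0]
      have h : C.z v * u * C.z v = C.z (p 0) * u * C.z (p 0) := by
        rw [hu, C.z_conj_z hv hYe, C.z_conj_z hp0 hYe, he]
      have h' : u * C.z v * u = C.z o * C.z (p 0) * C.z v := by
        rw [hzo]
        calc u * C.z v * u = u * (C.z v * u * C.z v) * C.z v := by
              simp only [mul_assoc, hvv, mul_one]
          _ = u * (C.z (p 0) * u * C.z (p 0)) * C.z v := by rw [h]
          _ = u * C.z (p 0) * u * C.z (p 0) * C.z v := by simp only [mul_assoc]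
      rw [h']
      exact mul_mem (mul_mem (Subgroup.mem_sup_right hzo2)
        (Subgroup.mem_sup_left (C.z_mem_W (hp.1 0 (by omega)) (D.wk_adj' hp (i := 0) (by omega)) hp0))) hvm
  have hWo : C.W o ≤ U := by
    intro n hn
    have h1 : u * n * u⁻¹ ∈ C.W (p 0) := by
      have := C.conj_W u n hn
      rwa [ho, ← mul_smul, huu, one_smul] at this
    have h2 : C.W (p 0) ≤ U.comap (MulAut.conj u).toMonoidHom := C.W_le fun c v a b d => by
      show u * C.z v * u⁻¹ ∈ U
      rw [inv_eq_self huu]; exact hgen c v a b d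
    have h3 : u * (u * n * u⁻¹) * u⁻¹ ∈ U := h2 h1
    rwa [inv_eq_self huu, show u * (u * n * u) * u = (u * u) * n * (u * u) by group, huu, one_mul,
      mul_one] at h3
  -- translate along the walk
  have h45 : D.Adj (p 4) (p 5) := hp.1 4 (by omega)
  have h43 : D.Adj (p 4) (p 3) := D.wk_adj' hp (i := 3) (by omega)
  obtain ⟨g1, g1a, g1b⟩ := C.arc_map hop2 h43 (hY (by omega) rfl) (hY (by omega) rfl)
  have hg1p1 : D.Adj (p 4) (g1 • p 1) := g1a ▸ D.equiv g1 (D.wk_adj' hp (i := 1) (by omega))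
  obtain ⟨k, k4, k3, k1⟩ := D.pair_map h43 hg1p1
    (fun e => hu1 (MulAction.injective g1 (g1b.trans e))) h43 h45 (D.wk_ne hp (i := 3) (by omega)).symm
  obtain ⟨g, g2, g1', g3, go⟩ : ∃ g : G, g • p 2 = p 4 ∧ g • p 1 = p 5 ∧ g • (u • p 1) = p 3 ∧
      g • o = p 2 := by
    have e2 : (k * g1) • p 2 = p 4 := by rw [mul_smul, g1a, k4]
    have e1 : (k * g1) • p 1 = p 5 := by rw [mul_smul, k1]
    have e3 : (k * g1) • (u • p 1) = p 3 := by rw [mul_smul, g1b, k3]
    by_cases hc : (k * g1) • o = p 2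
    · exact ⟨k * g1, e2, e1, e3, hc⟩
    obtain ⟨h, h5, h4, h3, -, h2⟩ := C.swap_two h45 h43 (D.wk_adj' hp (i := 2) (by omega))
      (D.wk_ne hp (i := 2) (by omega)).symm
    refine ⟨h * (k * g1), by rw [mul_smul, e2, h4], by rw [mul_smul, e1, h5],
      by rw [mul_smul, e3, h3], ?_⟩
    rw [mul_smul]
    have hadj : D.Adj (p 3) ((k * g1) • o) := e3 ▸ D.equiv (k * g1) hoc
    have hno : (k * g1) • o ≠ p 4 := by
      rw [← e2]
      intro e
      refine D.wk_ne hp (i := 0) (by omega) (MulAction.injective u ?_).symm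
      show u • p 0 = u • p 2
      rw [fixu (i := 2) le_rfl (by omega)]
      exact MulAction.injective (k * g1) e
    have h32 : D.Adj (p 3) (p 2) := D.wk_adj' hp (i := 2) (by omega)
    have h34 : D.Adj (p 3) (p 4) := hp.1 3 (by omega)
    rcases D.nbr_cases h34 hadj h32 hno (D.wk_ne hp (i := 2) (by omega)).symm (Ne.symm hc)
      (D.adj_smul_of_fix h3 hadj) with e | e | e
    · exact absurd ((MulAction.injective h) (e.trans h4.symm)) hno
    · exact absurd (D.fix_third h34 hadj h32 hno h3 h4 e) h2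
    · exact e
  have hzin : C.z (p 0) ∈ C.W (g • p 0) ⊔ C.W (p 4) := by
    have h1 : C.z (p 0) ∈ C.W (p 2) :=
      C.z_mem_W (D.wk_adj' hp (i := 1) (by omega)) (D.wk_adj' hp (i := 0) (by omega)) hp0
    have h2 : g⁻¹ * C.z (p 0) * g ∈ C.W o := by
      have := C.conj_W g⁻¹ _ h1
      rwa [inv_inv, ← go, inv_smul_smul] at this
    have h3 : U ≤ (C.W (g • p 0) ⊔ C.W (p 4)).comap (MulAut.conj g).toMonoidHom :=
      sup_le (fun n hn => Subgroup.mem_sup_left (C.conj_W g n hn))
        (fun n hn => Subgroup.mem_sup_right (g2 ▸ C.conj_W g n hn))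
    have h4 : g * (g⁻¹ * C.z (p 0) * g) * g⁻¹ ∈ C.W (g • p 0) ⊔ C.W (p 4) := h3 (hWo h2)
    rwa [show g * (g⁻¹ * C.z (p 0) * g) * g⁻¹ = C.z (p 0) by group] at h4
  have hle : C.W (g • p 0) ⊔ C.W (p 4) ≤ stabilizer G (p (C.R + 1)) := sup_le
    (C.W_fix (n := 1 + (C.R + 1 - 5)) (by omega) (D.near_trans (D.near_adj
      (g1' ▸ D.equiv g (hp.1 0 (by omega)))) (D.near_wk hp (by omega) (by omega))))
    (C.W_fix (n := C.R + 1 - 4) (by omega) (D.near_wk hp (by omega) (by omega)))
  exact hmov (hle hzin)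

/-- Every walk is moved beyond its end. -/
theorem all_mv {p : ℕ → Ω} (hp : D.Wk C.R p) (h0 : C.isY (p 0)) : C.Mv p := by
  obtain ⟨P, hP, hP0, hmov⟩ := C.exists_moved h0
  have hPY : C.isY (P 0) := hP0.symm ▸ h0
  have hPm : C.Mv P := C.mv_of_moves hP le_rfl (by rwa [hP0])
  have key : ∀ k, 2 * k ≤ C.R → ∀ q : ℕ → Ω, D.Wk C.R q →
      (∀ i, i + 2 * k ≤ C.R → q (i + 2 * k) = P i) → (1 ≤ k → q (2 * k - 1) ≠ P 1) → C.Mv q := by
    intro k
    induction k with
    | zero =>
      intro _ q _ hqP _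
      exact C.mv_congr hPm (hqP 0 (Nat.zero_le _)).symm (hqP C.R le_rfl).symm
    | succ k ih =>
      intro hk q hq hqP hne
      have hqa : q (2 * k + 2) = P 0 := by
        have := hqP 0 (by omega)
        rwa [show 0 + 2 * (k + 1) = 2 * k + 2 by omega] at this
      have hj : D.Wk (2 * k + 2 + (C.R - 2 * k)) (fun i => if i < 2 * k + 2 then q i else P (i - (2 * k + 2))) :=
        D.wk_join (D.wk_mono hq (by omega)) (D.wk_mono hP (by omega)) hqa (fun _ _ => by
          have := hne (by omega)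
          rwa [show 2 * (k + 1) - 1 = 2 * k + 2 - 1 by omega] at this)
      rw [show 2 * k + 2 + (C.R - 2 * k) = C.R + 2 by omega] at hj
      set Q : ℕ → Ω := fun i => if i < 2 * k + 2 then q i else P (i - (2 * k + 2)) with hQ
      have hQ1 : ∀ i, 2 * k + 2 ≤ i → Q i = P (i - (2 * k + 2)) := fun i hi => by
        simp only [hQ, if_neg (show ¬ i < 2 * k + 2 by omega)]
      have hQ2 : ∀ i, i < 2 * k + 2 → Q i = q i := fun i hi => by simp only [hQ, if_pos hi]
      have hQ0 : C.isY (Q 0) := C.isY_zero hj (i := 2 * k + 2) (by omega) (by omega)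
        (by rw [hQ1 _ le_rfl, Nat.sub_self]; exact hPY)
      have hm := ih (by omega) (fun i => Q (i + 2)) (D.wk_shift hj le_rfl)
        (fun i hi => by
          show Q (i + 2 * k + 2) = P i
          rw [hQ1 _ (by omega), show i + 2 * k + 2 - (2 * k + 2) = i by omega])
        (fun hk1 => by
          show Q (2 * k - 1 + 2) ≠ P 1
          rw [hQ2 _ (by omega), show 2 * k - 1 + 2 = 2 * (k + 1) - 1 by omega]
          exact hne (by omega))
      refine C.mv_congr (C.mv_shift heven h6 hj hQ0 hm) (hQ2 0 (by omega)) ?_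
      rw [hQ1 _ (by omega), ← hqP (C.R - (2 * k + 2)) (by omega),
        show C.R - (2 * k + 2) + 2 * (k + 1) = C.R by omega]
  obtain ⟨n, -, hn, -, hn1, -, -⟩ := D.two_others (hP.1 0 (by omega))
  obtain ⟨g, g0, g1⟩ := C.arc_map (D.wk_back hp (by omega)) hn (C.isY_at hp h0 le_rfl heven) hPY
  have hm := key (C.R / 2) (by omega) (fun i => g • p i) (D.wk_smul hp g)
    (fun i hi => by
      show g • p (i + 2 * (C.R / 2)) = P i
      rw [show i = 0 by omega, show 0 + 2 * (C.R / 2) = C.R by omega]; exact g0)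
    (fun _ => by
      show g • p (2 * (C.R / 2) - 1) ≠ P 1
      rw [show 2 * (C.R / 2) - 1 = C.R - 1 by omega, g1]; exact hn1)
  exact C.mv_conj hm ((C.isY_smul g _).mpr h0) (g := g⁻¹) (inv_smul_smul _ _) (inv_smul_smul _ _)

/-- The involution of a vertex moves everything just beyond its radius. -/
theorem moves {L : ℕ} {p : ℕ → Ω} (hp : D.Wk L p) (hL : C.R + 1 ≤ L) (h0 : C.isY (p 0)) :
    C.z (p 0) • p (C.R + 1) ≠ p (C.R + 1) :=
  C.mv_next hp hL h0 (C.all_mv heven h6 (D.wk_mono hp (by omega)) h0)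

/-- Involutions two beyond the radius do not commute. -/
theorem not_comm {L : ℕ} {p : ℕ → Ω} (hp : D.Wk L p) (hL : C.R + 2 ≤ L) (h0 : C.isY (p 0)) :
    C.z (p 0) * C.z (p (C.R + 2)) ≠ C.z (p (C.R + 2)) * C.z (p 0) := by
  intro hc
  have hYe : C.isY (p (C.R + 2)) := C.isY_at hp h0 hL (by omega)
  have hmov := C.moves heven h6 hp (by omega) h0
  have fix0 : C.z (p 0) • p C.R = p C.R :=
    C.z_fix_wk hp h0 (by omega) (Nat.zero_le _) (by omega) (by omega)
  have hxa : D.Adj (p (C.R + 1)) (p (C.R + 2)) := hp.1 (C.R + 1) (by omega)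
  refine C.ne_four hxa (D.wk_adj' hp (i := C.R) (by omega))
    (D.symm (D.adj_smul_of_fix fix0 (hp.1 C.R (by omega))))
    (D.equiv (C.z (p 0)) hxa) (fun e' => D.wk_ne hp (i := C.R) hL e'.symm) hmov
    (fun e' => D.wk_ne hp (i := C.R) hL (MulAction.injective (C.z (p 0)) (e'.trans fix0.symm))) hYe ?_
  rw [← C.z_conj_z h0 hYe, hc, mul_assoc, C.z_sq h0, mul_one]

end Centred

end CfsgLib.CubicRadius
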