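import Cfsg.Agent.Lib.CubicRadius.SmallRadius

/-!
Radius four: the edge groups have order at most the seventh power of two.
-/

set_option autoImplicit false
set_option linter.unusedSectionVars false

namespace CfsgLib.CubicRadius

open MulAction CfsgLib.S3Amalgam

variable {G : Type*} [Group G] {Ω : Type*} [MulAction G Ω] {D : Cubic G Ω}

/-- Everything within two steps of the vertex is fixed. -/
def B2 (D : Cubic G Ω) (g : G) (x : Ω) : Prop :=
  g • x = x ∧ ∀ n, D.Adj x n → g • n = n ∧ D.Fix1 g n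

theorem B2.mul {g h : G} {x : Ω} (hg : B2 D g x) (hh : B2 D h x) : B2 D (g * h) x :=
  ⟨by rw [mul_smul, hh.1, hg.1], fun n hn => ⟨by rw [mul_smul, (hh.2 n hn).1, (hg.2 n hn).1],
    fun u hu => by rw [mul_smul, (hh.2 n hn).2 u hu, (hg.2 n hn).2 u hu]⟩⟩

namespace Centred

variable (C : Centred D) (hR : C.R = 4)

include hR

theorem mv_four {y : Ω} (hy : C.isY y) {p : ℕ → Ω} (hp : D.Wk C.R p) (h0 : C.isY (p 0)) : C.Mv p := by
  obtain ⟨P, hP, hP0, hmov⟩ := C.exists_moved hy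
  have hPY : C.isY (P 0) := hP0.symm ▸ hy
  have hm : C.Mv P := C.mv_of_moves hP le_rfl (hP0.symm ▸ hmov)
  rw [hR] at hp hP
  obtain ⟨g, hg⟩ := C.tr_three hy p P (D.wk_mono hp (by omega)) (D.wk_mono hP (by omega)) h0 hPY
  suffices C.Mv (fun i => g • p i) from
    C.mv_conj this ((C.isY_smul g _).mpr h0) (g := g⁻¹) (inv_smul_smul _ _) (inv_smul_smul _ _)
  by_cases h4 : g • p 4 = P 4
  · refine C.mv_congr hm (hg 0 (by omega)).symm ?_
    rw [hR]; exact h4.symm
  have a3 : D.Adj (P 3) (P 2) := D.wk_adj' hP (i := 2) (by omega)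
  have a4 : D.Adj (P 3) (P 4) := hP.1 3 (by omega)
  have ag : D.Adj (P 3) (g • p 4) := hg 3 le_rfl ▸ D.equiv g (hp.1 3 (by omega))
  have n2 : g • p 4 ≠ P 2 := fun e =>
    D.wk_ne hp (i := 2) le_rfl (MulAction.injective g (e.trans (hg 2 (by omega)).symm))
  have n4 : P 4 ≠ P 2 := D.wk_ne hP (i := 2) (by omega)
  obtain ⟨k, k1, k2, k3, kn, k4⟩ := C.swap_two (D.wk_adj' hP (i := 1) (by omega)) (hP.1 2 (by omega)) a4 n4
  have hk : k • P 4 = g • p 4 := D.smul_third a3 a4 ag n4 n2 h4 k3 k2 k4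
  have hm' : C.Mv (fun i => k • P i) :=
    C.mv_conj hm hPY (g := k) rfl rfl
  have a10 : D.Adj (P 1) (P 0) := D.wk_adj' hP (i := 0) (by omega)
  have a12 : D.Adj (P 1) (P 2) := hP.1 1 (by omega)
  have n20 : P 2 ≠ P 0 := D.wk_ne hP (i := 0) (by omega)
  obtain ⟨u, hu, hne⟩ := hm'
  refine ⟨u, ?_, ?_⟩
  · show D.Adj (g • p C.R) u
    rw [hR, ← hk]
    simpa [hR] using hu
  show C.z (g • p 0) • u ≠ u
  rw [hg 0 (by omega)]
  by_cases e0 : k • P 0 = P 0
  · show C.z (P 0) • u ≠ u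
    have := hne
    simp only [e0] at this
    exact this
  have hY2 : C.isY (P 2) := C.isY_at hP hPY (by omega) rfl
  have hs : C.z (k • P 0) = C.z (P 0) * C.z (P 2) :=
    C.z_sibling a10 a12 (D.adj_smul_of_fix k1 a10) n20 e0
      (fun e => n20 (MulAction.injective k (e.trans k2.symm)).symm) hPY
  intro hfix
  apply hne
  show C.z (k • P 0) • u = u
  rw [hs, mul_smul, C.z_fix_near hY2 (by omega : 3 ≤ C.R) ?_, hfix]
  have hu' : D.Adj (g • p 4) u := by rw [← hk]; simpa [hR] using hu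
  exact D.near_cons (D.symm a3) (D.near_cons ag (D.near_adj hu'))

theorem moves_five {a b c d e f : Ω} (ha : C.isY a) (h1 : D.Adj a b) (h2 : D.Adj b c) (h3 : D.Adj c d)
    (h4 : D.Adj d e) (h5 : D.Adj e f) (n1 : c ≠ a) (n2 : d ≠ b) (n3 : e ≠ c) (n4 : f ≠ d) :
    C.z a • f ≠ f := by
  obtain ⟨p, hp, p0, p5⟩ := D.wk_chain5 h1 h2 h3 h4 h5 n1 n2 n3 n4
  have := C.mv_next hp (by omega) (p0.symm ▸ ha)
    (C.mv_four hR ha (D.wk_mono hp (by omega)) (p0.symm ▸ ha))
  rwa [hR, p0, p5] at this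

/-- The central involution of a branch vertex lies in the kernel around the claw. -/
theorem z_B2 {x a b c : Ω} (h : C.Claw x a b c) : B2 D (C.z a) x :=
  ⟨C.z_fix_near h.hY (by omega : 1 ≤ C.R) (D.near_adj (D.symm h.ha)), fun n hn =>
    ⟨C.z_fix_near h.hY (by omega : 2 ≤ C.R) (D.near_cons (D.symm h.ha) (D.near_adj hn)),
     fun u hu => C.z_fix_near h.hY (by omega : 3 ≤ C.R)
      (D.near_cons (D.symm h.ha) (D.near_cons hn (D.near_adj hu)))⟩⟩

theorem fix_out {x a b c a₁ v : Ω} (h : C.Claw x a b c) (oa : Out D x a a₁ v) :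
    C.z v • a₁ = a₁ ∧ C.z v • a = a ∧ C.z v • x = x ∧ C.z v • b = b ∧ C.z v • c = c ∧
      C.z b • v = v ∧ C.z b • a₁ = a₁ ∧ C.z b • a = a := by
  have hv := C.out_isY h oa
  have r1 := D.symm oa.h2
  have r2 := D.symm oa.h1
  have r3 := D.symm h.ha
  refine ⟨C.z_fix_near hv (by omega : 1 ≤ C.R) (D.near_adj r1),
    C.z_fix_near hv (by omega : 2 ≤ C.R) (D.near_cons r1 (D.near_adj r2)),
    C.z_fix_near hv (by omega : 3 ≤ C.R) (D.near_cons r1 (D.near_cons r2 (D.near_adj r3))),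
    C.z_fix_near hv (by omega : 4 ≤ C.R) (D.near_cons r1 (D.near_cons r2 (D.near_cons r3 (D.near_adj h.hb)))),
    C.z_fix_near hv (by omega : 4 ≤ C.R) (D.near_cons r1 (D.near_cons r2 (D.near_cons r3 (D.near_adj h.hc)))),
    C.z_fix_near h.isYb (by omega : 4 ≤ C.R)
      (D.near_cons (D.symm h.hb) (D.near_cons h.ha (D.near_cons oa.h1 (D.near_adj oa.h2)))),
    C.z_fix_near h.isYb (by omega : 3 ≤ C.R) (D.near_cons (D.symm h.hb) (D.near_cons h.ha (D.near_adj oa.h1))),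
    C.z_fix_near h.isYb (by omega : 2 ≤ C.R) (D.near_cons (D.symm h.hb) (D.near_adj h.ha))⟩

/-- An outer involution exchanges the children of the other branches. -/
theorem swap_child {x a b c a₁ v b₁ b₂ : Ω} (h : C.Claw x a b c) (oa : Out D x a a₁ v)
    (h1 : D.Adj b b₁) (n1 : b₁ ≠ x) (h2 : D.Adj b b₂) (n2 : b₂ ≠ x) (hne : b₂ ≠ b₁) :
    C.z v • b₁ = b₂ := by
  obtain ⟨f1, fa, fx, fb, -⟩ := C.fix_out hR h oa
  exact D.smul_third (D.symm h.hb) h1 h2 n1 n2 hne fb fx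
    (C.moves_five hR (C.out_isY h oa) (D.symm oa.h2) (D.symm oa.h1) (D.symm h.ha) h.hb h1
      (Ne.symm oa.n2) (Ne.symm oa.n1) h.hab n1)

/-- The outer involutions of one branch act alike on those of another. -/
theorem indep {x a b c a₁ v b₁ w b₂ w₂ : Ω} (h : C.Claw x a b c) (oa : Out D x a a₁ v)
    (ob : Out D x b b₁ w) (ob₂ : Out D x b b₂ w₂) : C.z w • v = C.z w₂ • v := by
  obtain ⟨-, -, -, fb, -, bv, -, -⟩ := C.fix_out hR h oa
  have sib : ∀ {m p q : Ω}, Out D x b m p → Out D x b m q → C.z p • v = C.z q • v := by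
    intro m p q hp hq
    rcases eq_or_ne q p with rfl | hne
    · rfl
    rw [C.z_sibling hp.h2 (D.symm hp.h1) hq.h2 (Ne.symm hp.n2) hne hq.n2 (C.out_isY h.swap₁ hp), mul_smul,
      bv]
  rcases eq_or_ne b₂ b₁ with rfl | hne
  · exact sib ob ob₂
  have hb : C.z v • b₁ = b₂ := C.swap_child hR h oa ob.h1 ob.n1 ob₂.h1 ob₂.n1 hne
  have oz : Out D x b b₂ (C.z v • w) := ⟨ob₂.h1, ob₂.n1, hb ▸ D.equiv (C.z v) ob.h2,
    fun e => ob.n2 (MulAction.injective _ (e.trans fb.symm))⟩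
  rw [← sib oz ob₂, ← C.z_conj_z (C.out_isY h oa) (C.out_isY h.swap₁ ob), mul_smul, mul_smul,
    C.z_fix (C.out_isY h oa)]
  obtain ⟨-, -, -, wa, -⟩ := C.fix_out hR h.swap₁ ob
  have h2 : D.Adj a (C.z w • a₁) := D.adj_smul_of_fix wa oa.h1
  exact (C.z_fix_near (C.out_isY h oa) (by omega : 4 ≤ C.R)
    (D.near_cons (D.symm oa.h2) (D.near_cons (D.symm oa.h1) (D.near_cons h2
      (D.near_adj (D.equiv (C.z w) oa.h2)))))).symm

/-- Elements fixing a walk of three steps into a claw and moving the branches exist everywhere. -/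
def HP (C : Centred D) : Prop :=
  ∀ x a b c a₁ v, C.Claw x a b c → Out D x a a₁ v →
    ∃ p : G, p • v = v ∧ p • a₁ = a₁ ∧ p • a = a ∧ p • x = x ∧ p • b ≠ b

/-- Involutions of two branches act differently on the third. -/
theorem claim (hp : HP C) {x a b c a₁ v b₁ w c₁ f : Ω} (h : C.Claw x a b c) (oa : Out D x a a₁ v)
    (ob : Out D x b b₁ w) (oc : Out D x c c₁ f) : C.z f • v ≠ C.z w • v := by
  intro heq
  obtain ⟨p, pv, pa1, pa, px, pb⟩ := hp x a b c a₁ v h oa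
  have pbc : p • b = c := D.smul_third h.ha h.hb h.hc h.hab h.hac h.hbc px pa pb
  obtain ⟨t, -, ht, -, hta, -, -⟩ := D.two_others (D.symm oa.h2)
  obtain ⟨s, -, hs, -, hsv, -, -⟩ := D.two_others (D.symm ht)
  have hv := C.out_isY h oa
  have hYs : C.isY s := (C.isY_two ht hs).mpr hv
  obtain ⟨f1, fa, fx, fb, fc, bv, ba1, ba⟩ := C.fix_out hR h oa
  have beyond : ∀ {t₂ s₂ u : Ω}, D.Adj v t₂ → t₂ ≠ a₁ → D.Adj t₂ s₂ → s₂ ≠ v → D.Adj x u →
      u ≠ a → C.z v • u = u → C.z s • u = C.z s₂ • u := by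
    intro t₂ s₂ u ht₂ hta₂ hs₂ hsv₂ hu hua hvu
    have sib : ∀ {m p q : Ω}, D.Adj v m → D.Adj m p → p ≠ v → D.Adj m q → q ≠ v →
        C.z p • u = C.z q • u := by
      intro m p q hm hp hpv hq hqv
      rcases eq_or_ne q p with rfl | hne
      · rfl
      rw [C.z_sibling hp (D.symm hm) hq (Ne.symm hpv) hne hqv ((C.isY_two hm hp).mpr hv), mul_smul, hvu]
    rcases eq_or_ne t₂ t with rfl | hne
    · exact sib ht₂ hs hsv hs₂ hsv₂
    have hbt : C.z b • t = t₂ := D.smul_third (D.symm oa.h2) ht ht₂ hta hta₂ hne bv ba1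
      (C.moves_five hR h.isYb (D.symm h.hb) h.ha oa.h1 oa.h2 ht h.hab.symm oa.n1 oa.n2 hta)
    have ha' : D.Adj t₂ (C.z b • s) := hbt ▸ D.equiv (C.z b) hs
    rw [← sib ht₂ ha' (fun e => hsv (MulAction.injective _ (e.trans bv.symm))) hs₂ hsv₂,
      ← C.z_conj_z h.isYb hYs, mul_smul, mul_smul,
      C.z_fix_near h.isYb (by omega : 2 ≤ C.R) (D.near_cons (D.symm h.hb) (D.near_adj hu))]
    have hsa : C.z s • a = a := C.z_fix_near hYs (by omega : 4 ≤ C.R)
      (D.near_cons (D.symm hs) (D.near_cons (D.symm ht) (D.near_cons (D.symm oa.h2) (D.near_adj (D.symm oa.h1)))))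
    exact (C.z_fix_near h.isYb (by omega : 4 ≤ C.R) (D.near_cons (D.symm h.hb) (D.near_cons h.ha
      (D.near_cons (D.adj_smul_of_fix hsa (D.symm h.ha)) (D.near_adj (D.equiv (C.z s) hu)))))).symm
  have pY : C.z (p • s) = p * C.z s * p⁻¹ := C.z_conj p hYs
  have hpq : p • C.z s • b = C.z s • c := by
    rw [beyond (u := c) (pv ▸ D.equiv p ht) (fun e => hta (MulAction.injective p (e.trans pa1.symm)))
      (D.equiv p hs) (fun e => hsv (MulAction.injective p (e.trans pv.symm))) h.hc h.hac fc,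
      pY, mul_smul, mul_smul, ← pbc, inv_smul_smul]
  have oa2 : Out D x c (p • b₁) (p • w) :=
    ⟨pbc ▸ D.equiv p ob.h1, fun e => ob.n1 (MulAction.injective p (e.trans px.symm)), D.equiv p ob.h2,
      fun e => ob.n2 (MulAction.injective p (e.trans pbc.symm))⟩
  have hpk : p • C.z w • v = C.z w • v := by
    conv_rhs => rw [← heq, ← C.indep hR h.swap₂ oa oa2 oc, C.z_conj p (C.out_isY h.swap₁ ob),
      mul_smul, mul_smul, inv_smul_eq_iff.mpr pv.symm]
  have sa1 : C.z s • a₁ = a₁ := C.z_fix_near hYs (by omega : 3 ≤ C.R)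
    (D.near_cons (D.symm hs) (D.near_cons (D.symm ht) (D.near_adj (D.symm oa.h2))))
  have sa : C.z s • a = a := C.z_fix_near hYs (by omega : 4 ≤ C.R)
    (D.near_cons (D.symm hs) (D.near_cons (D.symm ht) (D.near_cons (D.symm oa.h2) (D.near_adj (D.symm oa.h1)))))
  obtain ⟨a', ha', ha'x, ha'1, -⟩ := D.third (D.symm h.ha) oa.h1 oa.n1
  have sx : C.z s • x = a' := D.smul_third oa.h1 (D.symm h.ha) ha' (Ne.symm oa.n1) ha'1 ha'x sa sa1
    (C.moves_five hR hYs (D.symm hs) (D.symm ht) (D.symm oa.h2) (D.symm oa.h1) (D.symm h.ha)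
      (Ne.symm hsv) (Ne.symm hta) (Ne.symm oa.n2) (Ne.symm oa.n1))
  obtain ⟨-, wx, -, wa, -⟩ := C.fix_out hR h.swap₁ ob
  have wa1 : C.z w • a₁ = a' := C.swap_child hR h.swap₁ ob oa.h1 oa.n1 ha' ha'x ha'1
  have q1 : D.Adj a' (C.z s • b) := sx ▸ D.equiv (C.z s) h.hb
  have q2 : D.Adj a' (C.z s • c) := sx ▸ D.equiv (C.z s) h.hc
  have q1a : C.z s • b ≠ a := fun e => h.hab (MulAction.injective _ (e.trans sa.symm))
  have q2a : C.z s • c ≠ a := fun e => h.hac (MulAction.injective _ (e.trans sa.symm))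
  have q12 : C.z s • c ≠ C.z s • b := fun e => h.hbc (MulAction.injective _ e)
  rcases D.nbr_cases (D.symm ha') q1 q2 q1a q2a q12 (wa1 ▸ D.equiv (C.z w) oa.h2) with r | r | r
  · exact oa.n2 (MulAction.injective _ (r.trans wa.symm))
  · rw [r, hpq] at hpk; exact q12 hpk
  · rw [r, ← hpq] at hpk; exact q12 (hpq.symm.trans (MulAction.injective p hpk))

/-- All children in the second branch are fixed with their neighbours. -/
theorem side_fix {x a b c a₁ v b₁ w : Ω} (h : C.Claw x a b c) (oa : Out D x a a₁ v) (ob : Out D x b b₁ w)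
    {g : G} (hg : B2 D g x) (gv : g • v = v) (gw : g • w = w) (fw : D.Fix1 g w) {b₂ w₂ : Ω}
    (o₂ : Out D x b b₂ w₂) : g • w₂ = w₂ ∧ D.Fix1 g w₂ := by
  obtain ⟨b', hb', hb'x, hb'1, -⟩ := D.third (D.symm h.hb) ob.h1 ob.n1
  obtain ⟨-, va, vx, vb, vc, -⟩ := C.fix_out hR h oa
  have vb1 : C.z v • b₁ = b' := C.swap_child hR h oa ob.h1 ob.n1 hb' hb'x hb'1
  have cv := C.commute_of_fix (C.out_isY h oa) gv
  obtain ⟨t, -, ht, -, htb, -, -⟩ := D.two_others (D.symm ob.h2)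
  obtain ⟨s, s', hs, hs', hsw, hs'w, hss⟩ := D.two_others (D.symm ht)
  have hw := C.out_isY h.swap₁ ob
  have hYs : C.isY s := (C.isY_two ht hs).mpr hw
  have sb1 : C.z s • b₁ = b₁ := C.z_fix_near hYs (by omega : 3 ≤ C.R)
    (D.near_cons (D.symm hs) (D.near_cons (D.symm ht) (D.near_adj (D.symm ob.h2))))
  have sb : C.z s • b = b := C.z_fix_near hYs (by omega : 4 ≤ C.R)
    (D.near_cons (D.symm hs) (D.near_cons (D.symm ht) (D.near_cons (D.symm ob.h2) (D.near_adj (D.symm ob.h1)))))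
  have sx : C.z s • x = b' := D.smul_third ob.h1 (D.symm h.hb) hb' (Ne.symm ob.n1) hb'1 hb'x sb sb1
    (C.moves_five hR hYs (D.symm hs) (D.symm ht) (D.symm ob.h2) (D.symm ob.h1) (D.symm h.hb)
      (Ne.symm hsw) (Ne.symm htb) (Ne.symm ob.n2) (Ne.symm ob.n1))
  have qa : D.Adj b' (C.z s • a) := sx ▸ D.equiv (C.z s) h.ha
  have qc : D.Adj b' (C.z s • c) := sx ▸ D.equiv (C.z s) h.hc
  have qab : C.z s • a ≠ b := fun e => h.hab.symm (MulAction.injective _ (e.trans sb.symm))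
  have qcb : C.z s • c ≠ b := fun e => h.hbc (MulAction.injective _ (e.trans sb.symm))
  have qac : C.z s • c ≠ C.z s • a := fun e => h.hac (MulAction.injective _ e)
  set w' := C.z v • w with hw'
  have aw' : D.Adj b' w' := vb1 ▸ D.equiv (C.z v) ob.h2
  have fw' : D.Fix1 g w' := D.fix1_image cv fw
  obtain ⟨m, hm, hmb, hmw⟩ : ∃ m, D.Adj x m ∧ m ≠ b ∧ C.z s • m = w' := by
    rcases D.nbr_cases (D.symm hb') qa qc qab qcb qac aw' with r | r | r
    · exact absurd (MulAction.injective _ (r.trans vb.symm)) ob.n2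
    · exact ⟨a, h.ha, h.hab.symm, r.symm⟩
    · exact ⟨c, h.hc, h.hbc, r.symm⟩
  obtain ⟨r, -, hr, -, hrx, -, -⟩ := D.two_others (D.symm hm)
  have gs : g • s = s := by
    rcases D.nbr_cases (D.symm ht) hs hs' hsw hs'w hss.symm (D.adj_smul_of_fix (fw t ht) hs) with e | e | e
    · exact absurd (MulAction.injective g (e.trans gw.symm)) hsw
    · exact e
    · exfalso
      refine C.moves_five hR hw (D.symm ob.h2) (D.symm ob.h1) (D.symm h.hb) hm hr (Ne.symm ob.n2)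
        (Ne.symm ob.n1) hmb hrx (MulAction.injective (C.z s) ?_)
      have hfix : g • C.z s • r = C.z s • r := fw' _ (hmw ▸ D.equiv (C.z s) hr)
      have hws : C.z s' = C.z s * C.z w := C.z_sibling hs (D.symm ht) hs' hsw.symm hss.symm hs'w hYs
      rw [← e, C.z_conj g hYs] at hws
      calc C.z s • C.z w • r = (g * C.z s * g⁻¹) • r := by rw [hws, mul_smul]
        _ = g • C.z s • r := by
          rw [mul_smul, mul_smul, inv_smul_eq_iff.mpr ((hg.2 m hm).2 r hr).symm]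
        _ = C.z s • r := hfix
  have cs := C.commute_of_fix hYs gs
  have atb' : ∀ q, D.Adj b' q → q ≠ b → g • q = q ∧ D.Fix1 g q := by
    intro q hq hqb
    rcases D.nbr_cases (D.symm hb') qa qc qab qcb qac hq with e | e | e
    · exact absurd e hqb
    · exact e ▸ ⟨D.fix_image cs (hg.2 a h.ha).1, D.fix1_image cs (hg.2 a h.ha).2⟩
    · exact e ▸ ⟨D.fix_image cs (hg.2 c h.hc).1, D.fix1_image cs (hg.2 c h.hc).2⟩
  rcases D.nbr_cases (D.symm h.hb) ob.h1 hb' ob.n1 hb'x hb'1 o₂.h1 with e | e | e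
  · exact absurd e o₂.n1
  · subst e
    obtain ⟨e1, e2⟩ := atb' (C.z v • w₂) (vb1 ▸ D.equiv (C.z v) o₂.h2)
      (fun e => o₂.n2 (MulAction.injective _ (e.trans vb.symm)))
    have i1 := D.fix_image cv e1
    have i2 := D.fix1_image cv e2
    rw [C.z_smul_smul (C.out_isY h oa)] at i1 i2
    exact ⟨i1, i2⟩
  · subst e; exact atb' w₂ o₂.h2 o₂.n2

/-- The third branch is fixed too. -/
theorem third_fix {x a b c a₁ v c₁ f : Ω} (h : C.Claw x a b c) (oa : Out D x a a₁ v) (oc : Out D x c c₁ f)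
    {g : G} (hg : B2 D g x) (hA : ∀ a₂ v₂, Out D x a a₂ v₂ → g • v₂ = v₂ ∧ D.Fix1 g v₂) : g • f = f := by
  obtain ⟨t, -, ht, -, hta, -, -⟩ := D.two_others (D.symm oa.h2)
  obtain ⟨f', hf', hff, hf'c, -⟩ := D.third oc.h2 (D.symm oc.h1) (Ne.symm oc.n2)
  have gc1 : g • c₁ = c₁ := (hg.2 c h.hc).2 c₁ oc.h1
  rcases D.nbr_cases (D.symm oc.h1) oc.h2 hf' oc.n2 hf'c hff (D.adj_smul_of_fix gc1 oc.h2) with e | e | e
  · exact absurd (MulAction.injective g (e.trans (hg.2 c h.hc).1.symm)) oc.n2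
  · exact e
  · exfalso
    have h' := h.swap₂.swap₁
    obtain ⟨-, -, fx, fa, -⟩ := C.fix_out hR h' oc
    have hYf := C.out_isY h' oc
    have om : Out D x a (C.z f • a₁) (C.z f • v) := ⟨D.adj_smul_of_fix fa oa.h1,
      fun r => oa.n1 (MulAction.injective _ (r.trans fx.symm)), D.equiv _ oa.h2,
      fun r => oa.n2 (MulAction.injective _ (r.trans fa.symm))⟩
    have hfix : g • C.z f • t = C.z f • t := (hA _ _ om).2 _ (D.equiv _ ht)
    have hs : C.z f' = C.z f * C.z c :=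
      C.z_sibling oc.h2 (D.symm oc.h1) hf' (Ne.symm oc.n2) hff hf'c hYf
    refine C.moves_five hR h.isYc (D.symm h.hc) h.ha oa.h1 oa.h2 ht (Ne.symm h.hac) oa.n1 oa.n2 hta
      (MulAction.injective (C.z f) ?_)
    rw [← e, C.z_conj g hYf] at hs
    calc C.z f • C.z c • t = (g * C.z f * g⁻¹) • t := by rw [hs, mul_smul]
      _ = g • C.z f • t := by rw [mul_smul, mul_smul, inv_smul_eq_iff.mpr ((hA _ _ oa).2 t ht).symm]
      _ = C.z f • t := hfix

/-- The kernel with two fixed outer stars is trivial. -/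
theorem one_of_fix {x a b c a₁ v b₁ w : Ω} (h : C.Claw x a b c) (oa : Out D x a a₁ v) (ob : Out D x b b₁ w)
    {g : G} (hg : B2 D g x) (gv : g • v = v) (fv : D.Fix1 g v) (gw : g • w = w) (fw : D.Fix1 g w) :
    g = 1 := by
  set A := D.ball (G := G) 3 x ⊓ (D.ball 3 a ⊓ D.ball 3 b) with hA
  have hm : g ∈ A := by
    have sA := fun a₂ v₂ o => C.side_fix hR h.swap₁ ob oa hg gw gv fv (b₂ := a₂) (w₂ := v₂) o
    have sB := fun b₂ w₂ o => C.side_fix hR h oa ob hg gv gw fw (b₂ := b₂) (w₂ := w₂) o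
    have hthird : ∀ c₂ f₂, Out D x c c₂ f₂ → g • f₂ = f₂ := fun c₂ f₂ o => C.third_fix hR h oa o hg sA
    have deep : ∀ n m, D.Adj x n → D.Adj n m → m ≠ x → D.Fix1 g m := by
      intro n m hn hm hmx p hp
      by_cases hpn : p = n
      · exact hpn ▸ (hg.2 n hn).1
      rcases Claw.cases C h hn with r | r | r <;> subst r
      · exact (sA m p ⟨hm, hmx, hp, hpn⟩).1
      · exact (sB m p ⟨hm, hmx, hp, hpn⟩).1
      · exact hthird m p ⟨hm, hmx, hp, hpn⟩
    have ball1x : g ∈ D.ball (G := G) 1 x := D.mem_ball_one hg.1 fun n hn => (hg.2 n hn).1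
    have ball2x : g ∈ D.ball (G := G) 2 x :=
      D.mem_ball_succ hg.1 fun n hn => D.mem_ball_one (hg.2 n hn).1 (hg.2 n hn).2
    have child : ∀ n m, D.Adj x n → D.Adj n m → g ∈ D.ball (G := G) 1 m := by
      intro n m hn hm
      by_cases hmx : m = x
      · exact hmx ▸ ball1x
      · exact D.mem_ball_one ((hg.2 n hn).2 m hm) (deep n m hn hm hmx)
    have side : ∀ n, D.Adj x n → (∀ m v, Out D x n m v → g • v = v ∧ D.Fix1 g v) →
        g ∈ D.ball (G := G) 3 n := by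
      intro n hn hs
      refine D.mem_ball_succ (hg.2 n hn).1 fun m hm => D.mem_ball_succ ((hg.2 n hn).2 m hm) fun p hp => ?_
      by_cases hpn : p = n
      · subst hpn
        exact D.mem_ball_one (hg.2 p hn).1 (hg.2 p hn).2
      by_cases hmx : m = x
      · subst hmx
        exact D.mem_ball_one (hg.2 p hp).1 (hg.2 p hp).2
      · exact D.mem_ball_one (hs m p ⟨hm, hmx, hp, hpn⟩).1 (hs m p ⟨hm, hmx, hp, hpn⟩).2
    exact ⟨D.mem_ball_succ hg.1 fun n hn => D.mem_ball_succ (hg.2 n hn).1 (child n · hn),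
      side a h.ha sA, side b h.hb sB⟩
  have hbot : A = ⊥ := by
    refine C.no_central h.isYc (D.symm h.hc) ?_ ?_ ?_
    · exact le_inf (fun k hk => hk.1 c (D.near_mono (by omega) (D.near_adj h.hc)))
        (fun k hk => D.ball_le_stab _ _ hk.1)
    · intro k hk e he
      have kx : k • x = x := hk.2
      have kc : k • c = c := hk.1
      have h1 := D.conj_ball (g := k) he.1
      have h2 := D.conj_ball (g := k) he.2.1
      have h3 := D.conj_ball (g := k) he.2.2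
      rw [kx] at h1
      have ne1 : k • a ≠ c := fun r => h.hac.symm (MulAction.injective k (r.trans kc.symm))
      have ne2 : k • b ≠ c := fun r => h.hbc.symm (MulAction.injective k (r.trans kc.symm))
      rcases Claw.cases C h (D.adj_smul_of_fix kx h.ha) with r | r | r
      · rcases Claw.cases C h (D.adj_smul_of_fix kx h.hb) with r' | r' | r'
        · exact absurd (MulAction.injective k (r'.trans r.symm)) h.hab
        · exact ⟨h1, r ▸ h2, r' ▸ h3⟩
        · exact absurd r' ne2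
      · rcases Claw.cases C h (D.adj_smul_of_fix kx h.hb) with r' | r' | r'
        · exact ⟨h1, r' ▸ h3, r ▸ h2⟩
        · exact absurd (MulAction.injective k (r'.trans r.symm)) h.hab
        · exact absurd r' ne2
      · exact absurd r ne1
    · intro e he hcen
      have conj : ∀ {k : G} {n : Ω} {i : ℕ}, k • c = c → e ∈ D.ball (G := G) i n → e ∈ D.ball i (k • n) := by
        intro k n i hk hh
        have := D.conj_ball (g := k) hh
        rwa [hcen k hk] at this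
      rw [hR]
      refine D.mem_ball_succ (he.1 c (D.near_mono (by omega) (D.near_adj h.hc))) fun n hn => ?_
      obtain ⟨k, k1, k2⟩ := D.trans (D.symm h.hc) hn
      have e3 : e ∈ D.ball (G := G) 3 n := k2 ▸ conj k1 he.1
      refine D.mem_ball_succ (e3 n (D.near_refl _ _)) fun m hm => ?_
      by_cases hmc : m = c
      · subst hmc
        refine D.mem_ball_succ (he.1 m (D.near_mono (by omega) (D.near_adj h.hc))) fun n' hn' => ?_
        obtain ⟨k', k1', k2'⟩ := D.trans (D.symm h.hc) hn'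
        exact D.ball_anti (by omega) n' (k2' ▸ conj k1' he.1)
      have a1 : D.Adj n (k • a) := k2 ▸ D.equiv k h.ha
      have a2 : D.Adj n (k • b) := k2 ▸ D.equiv k h.hb
      rcases D.nbr_cases (D.symm hn) a1 a2 (fun r => h.hac.symm (MulAction.injective k (r.trans k1.symm)))
        (fun r => h.hbc.symm (MulAction.injective k (r.trans k1.symm)))
        (fun r => h.hab (MulAction.injective k r)) hm with r | r | r
      · exact absurd r hmc
      · exact r ▸ conj k1 he.2.1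
      · exact r ▸ conj k1 he.2.2
  rw [hbot, Subgroup.mem_bot] at hm
  exact hm

/-- Fixing two outer vertices fixes the third. -/
theorem fix_f {x a b c a₁ v b₁ w c₁ f : Ω} (h : C.Claw x a b c) (oa : Out D x a a₁ v) (ob : Out D x b b₁ w)
    (oc : Out D x c c₁ f) {g : G} (hg : B2 D g x) (gv : g • v = v) (gw : g • w = w) : g • f = f := by
  obtain ⟨t, t', ht, ht', hta, ht'a, htt⟩ := D.two_others (D.symm oa.h2)
  obtain ⟨t₂, t₂', ht₂, ht₂', htb, ht₂'b, htt₂⟩ := D.two_others (D.symm ob.h2)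
  have h' := h.swap₂.swap₁
  obtain ⟨-, -, -, -, -, bv, ba1, ba⟩ := C.fix_out hR h oa
  obtain ⟨-, -, -, -, -, aw, ab1, ab⟩ := C.fix_out hR h.swap₁ ob
  have bw : C.z b • w = w := C.z_fix_near h.isYb (by omega : 2 ≤ C.R) (D.near_cons ob.h1 (D.near_adj ob.h2))
  have av : C.z a • v = v := C.z_fix_near h.hY (by omega : 2 ≤ C.R) (D.near_cons oa.h1 (D.near_adj oa.h2))
  have af : C.z a • f = f := C.z_fix_near h.hY (by omega : 4 ≤ C.R)
    (D.near_cons (D.symm h.ha) (D.near_cons h.hc (D.near_cons oc.h1 (D.near_adj oc.h2))))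
  have bf : C.z b • f = f := C.z_fix_near h.isYb (by omega : 4 ≤ C.R)
    (D.near_cons (D.symm h.hb) (D.near_cons h.hc (D.near_cons oc.h1 (D.near_adj oc.h2))))
  have bt : C.z b • t = t' := D.smul_third (D.symm oa.h2) ht ht' hta ht'a htt.symm bv ba1
    (C.moves_five hR h.isYb (D.symm h.hb) h.ha oa.h1 oa.h2 ht h.hab.symm oa.n1 oa.n2 hta)
  have at2 : C.z a • t₂ = t₂' := D.smul_third (D.symm ob.h2) ht₂ ht₂' htb ht₂'b htt₂.symm aw ab1
    (C.moves_five hR h.hY (D.symm h.ha) h.hb ob.h1 ob.h2 ht₂ h.hab ob.n1 ob.n2 htb)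
  have at1 : C.z a • t = t := C.z_fix_near h.hY (by omega : 3 ≤ C.R)
    (D.near_cons oa.h1 (D.near_cons oa.h2 (D.near_adj ht)))
  obtain ⟨k, hk, kv, kw, kf, kt⟩ : ∃ k : G, B2 D k x ∧ k • v = v ∧ k • w = w ∧ k • f = f ∧
      k • g • t = t := by
    rcases D.nbr_cases (D.symm oa.h2) ht ht' hta ht'a htt.symm (D.adj_smul_of_fix gv ht) with e | e | e
    · exact absurd (MulAction.injective g (e.trans ((hg.2 a h.ha).2 a₁ oa.h1).symm)) hta
    · exact ⟨1, ⟨one_smul _ _, fun n _ => ⟨one_smul _ _, fun u _ => one_smul _ _⟩⟩, one_smul _ _,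
        one_smul _ _, one_smul _ _, by rw [one_smul, e]⟩
    · exact ⟨C.z b, C.z_B2 hR h.swap₁, bv, bw, bf, by rw [e, ← bt, C.z_smul_smul h.isYb]⟩
  have hkg : B2 D (k * g) x := hk.mul hg
  have kgw : (k * g) • w = w := by rw [mul_smul, gw, kw]
  have kgv : (k * g) • v = v := by rw [mul_smul, gv, kv]
  obtain ⟨l, hl, lv, lw, lf, lt, lt2⟩ : ∃ l : G, B2 D l x ∧ l • v = v ∧ l • w = w ∧ l • f = f ∧
      l • t = t ∧ l • (k * g) • t₂ = t₂ := by
    rcases D.nbr_cases (D.symm ob.h2) ht₂ ht₂' htb ht₂'b htt₂.symm (D.adj_smul_of_fix kgw ht₂) with e | e | e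
    · exact absurd (MulAction.injective (k * g) (e.trans ((hkg.2 b h.hb).2 b₁ ob.h1).symm)) htb
    · exact ⟨1, ⟨one_smul _ _, fun n _ => ⟨one_smul _ _, fun u _ => one_smul _ _⟩⟩, one_smul _ _,
        one_smul _ _, one_smul _ _, one_smul _ _, by rw [one_smul, e]⟩
    · exact ⟨C.z a, C.z_B2 hR h, av, aw, af, at1, by rw [e, ← at2, C.z_smul_smul h.hY]⟩
  have hm : B2 D (l * (k * g)) x := hl.mul hkg
  have mv : (l * (k * g)) • v = v := by rw [mul_smul, kgv, lv]
  have mw : (l * (k * g)) • w = w := by rw [mul_smul, kgw, lw]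
  have h1 := C.one_of_fix hR h oa ob hm mv
    (D.fix1_intro (D.symm oa.h2) ht hta mv ((hm.2 a h.ha).2 a₁ oa.h1)
      (by rw [mul_smul, mul_smul, kt, lt]))
    mw (D.fix1_intro (D.symm ob.h2) ht₂ htb mw ((hm.2 b h.hb).2 b₁ ob.h1) (by rw [mul_smul, lt2]))
  have h2 : (l * (k * g)) • f = f := by rw [h1, one_smul]
  rw [mul_smul, mul_smul] at h2
  exact MulAction.injective k ((MulAction.injective l (h2.trans lf.symm)).trans kf.symm)

/-- Fixing one outer vertex fixes the other, when the branches can be exchanged. -/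
theorem flip (hp : HP C) {x a b c a₁ v b₁ w : Ω} (h : C.Claw x a b c) (oa : Out D x a a₁ v)
    (ob : Out D x b b₁ w) {g : G} (hg : B2 D g x) (gw : g • w = w) : g • v = v := by
  by_contra gv
  have h' := h.swap₂.swap₁
  obtain ⟨c₁, c', f, hc', hc'x, hcc, oc⟩ := Claw.exists_out C h'
  obtain ⟨a', ha', ha'x, ha'1, -⟩ := D.third (D.symm h.ha) oa.h1 oa.n1
  obtain ⟨b', hb', hb'x, hb'1, -⟩ := D.third (D.symm h.hb) ob.h1 ob.n1
  obtain ⟨v', hv', hv'a, hvv, -⟩ := D.third (D.symm oa.h1) oa.h2 oa.n2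
  obtain ⟨w', hw', hw'b, hww, -⟩ := D.third (D.symm ob.h1) ob.h2 ob.n2
  obtain ⟨f', hf', hf'c, hff, -⟩ := D.third (D.symm oc.h1) oc.h2 oc.n2
  have hYv := C.out_isY h oa
  have hYw := C.out_isY h.swap₁ ob
  have hYf := C.out_isY h' oc
  obtain ⟨va1, va, vx, vb, vc, -⟩ := C.fix_out hR h oa
  obtain ⟨wb1, wb, wx, wa, wc, -⟩ := C.fix_out hR h.swap₁ ob
  obtain ⟨fc1, fc, fx, fa, fb, -⟩ := C.fix_out hR h' oc
  have fa1 : C.z f • a₁ = a' := C.swap_child hR h' oc oa.h1 oa.n1 ha' ha'x ha'1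
  have wa1 : C.z w • a₁ = a' := C.swap_child hR h.swap₁ ob oa.h1 oa.n1 ha' ha'x ha'1
  have wa' : C.z w • a' = a₁ := by rw [← wa1, C.z_smul_smul hYw]
  have fb1 : C.z f • b₁ = b' := C.swap_child hR h'.swap₂ oc ob.h1 ob.n1 hb' hb'x hb'1
  have vb1 : C.z v • b₁ = b' := C.swap_child hR h oa ob.h1 ob.n1 hb' hb'x hb'1
  have vb' : C.z v • b' = b₁ := by rw [← vb1, C.z_smul_smul hYv]
  have wc1 : C.z w • c₁ = c' := C.swap_child hR h.swap₁.swap₂ ob oc.h1 oc.n1 hc' hc'x hcc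
  have vc1 : C.z v • c₁ = c' := C.swap_child hR h.swap₂ oa oc.h1 oc.n1 hc' hc'x hcc
  have vc' : C.z v • c' = c₁ := by rw [← vc1, C.z_smul_smul hYv]
  have wfix : C.z w • b' = b' := C.z_fix_near hYw (by omega : 3 ≤ C.R)
    (D.near_cons (D.symm ob.h2) (D.near_cons (D.symm ob.h1) (D.near_adj hb')))
  set K := C.z v * C.z w * C.z f with hK
  have Ku : ∀ u : Ω, K • u = C.z v • C.z w • C.z f • u := fun u => by rw [hK, mul_smul, mul_smul]
  have Ka : K • a = a := by rw [Ku, fa, wa, va]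
  have Kb : K • b = b := by rw [Ku, fb, wb, vb]
  have Kc : K • c = c := by rw [Ku, fc, wc, vc]
  have Kx : K • x = x := by rw [Ku, fx, wx, vx]
  have Ka1 : K • a₁ = a₁ := by rw [Ku, fa1, wa', va1]
  have Kb1 : K • b₁ = b₁ := by rw [Ku, fb1, wfix, vb']
  have Kc1 : K • c₁ = c₁ := by rw [Ku, fc1, wc1, vc']
  have hKB : B2 D K x := ⟨Kx, fun n hn => by
    rcases Claw.cases C h hn with r | r | r <;> subst r
    · exact ⟨Ka, D.fix1_intro (D.symm h.ha) oa.h1 oa.n1 Ka Kx Ka1⟩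
    · exact ⟨Kb, D.fix1_intro (D.symm h.hb) ob.h1 ob.n1 Kb Kx Kb1⟩
    · exact ⟨Kc, D.fix1_intro (D.symm h.hc) oc.h1 oc.n1 Kc Kx Kc1⟩⟩
  have cl1 : C.z f • v ≠ C.z w • v := C.claim hR hp h oa ob oc
  have cl2 : C.z f • w ≠ C.z v • w := C.claim hR hp h.swap₁ ob oa oc
  have cl3 : C.z w • f ≠ C.z v • f := C.claim hR hp h' oc oa ob
  have Kv : K • v = v' := by
    rw [Ku]
    have h1 : D.Adj a₁ (C.z w • C.z f • v) := by
      have := D.equiv (C.z w) (fa1 ▸ D.equiv (C.z f) oa.h2)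
      rwa [wa'] at this
    have e : C.z w • C.z f • v = v' := by
      rcases D.nbr_cases (D.symm oa.h1) oa.h2 hv' oa.n2 hv'a hvv h1 with r | r | r
      · exfalso
        rw [← wa] at r
        exact oa.n2 (MulAction.injective _ ((MulAction.injective _ r).trans fa.symm))
      · exfalso
        apply cl1
        conv_rhs => rw [← r, C.z_smul_smul hYw]
      · exact r
    rw [e]
    exact C.z_fix_near hYv (by omega : 2 ≤ C.R) (D.near_cons (D.symm oa.h2) (D.near_adj hv'))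
  have Kw : K • w = w' := by
    rw [Ku]
    have h1 : D.Adj b' (C.z f • w) := fb1 ▸ D.equiv (C.z f) ob.h2
    rw [show C.z w • C.z f • w = C.z f • w from C.z_fix_near hYw (by omega : 4 ≤ C.R)
      (D.near_cons (D.symm ob.h2) (D.near_cons (D.symm ob.h1) (D.near_cons hb' (D.near_adj h1))))]
    rcases D.nbr_cases (D.symm ob.h1) ob.h2 hw' ob.n2 hw'b hww (vb' ▸ D.equiv (C.z v) h1) with r | r | r
    · exact absurd (MulAction.injective _ ((MulAction.injective _ (r.trans vb.symm)).trans fb.symm)) ob.n2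
    · exfalso
      apply cl2
      conv_rhs => rw [← r, C.z_smul_smul hYv]
    · exact r
  have Kf : K • f = f' := by
    rw [Ku, C.z_fix hYf]
    have h1 : D.Adj c' (C.z w • f) := wc1 ▸ D.equiv (C.z w) oc.h2
    rcases D.nbr_cases (D.symm oc.h1) oc.h2 hf' oc.n2 hf'c hff (vc' ▸ D.equiv (C.z v) h1) with r | r | r
    · exact absurd (MulAction.injective _ ((MulAction.injective _ (r.trans vc.symm)).trans wc.symm)) oc.n2
    · exfalso
      apply cl3
      conv_rhs => rw [← r, C.z_smul_smul hYv]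
    · exact r
  have ga1 : g • a₁ = a₁ := (hg.2 a h.ha).2 a₁ oa.h1
  have gc1 : g • c₁ = c₁ := (hg.2 c h.hc).2 c₁ oc.h1
  have gf : g • f ≠ f := fun e => gv (C.fix_f hR h.swap₁.swap₂ ob oc oa hg gw e)
  have gv' : g • v' = v :=
    D.smul_third (D.symm oa.h1) hv' oa.h2 hv'a oa.n2 hvv.symm ga1 (hg.2 a h.ha).1 fun e =>
      gv (D.fix_third (D.symm oa.h1) hv' oa.h2 hv'a ga1 (hg.2 a h.ha).1 e)
  have gf' : g • f' = f :=
    D.smul_third (D.symm oc.h1) hf' oc.h2 hf'c oc.n2 hff.symm gc1 (hg.2 c h.hc).1 fun e =>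
      gf (D.fix_third (D.symm oc.h1) hf' oc.h2 hf'c gc1 (hg.2 c h.hc).1 e)
  have := C.fix_f hR h.swap₂ oa oc ob (hg.mul hKB) (by rw [mul_smul, Kv, gv']) (by rw [mul_smul, Kf, gf'])
  rw [mul_smul, Kw] at this
  exact hww (MulAction.injective g (this.trans gw.symm))

theorem radius_four {y : Ω} (hy : C.isY y) :
    ∃ a b, D.Adj a b ∧ Nat.card ↥(T (G := G) a b) ≤ 2 ^ 7 := by
  obtain ⟨x, a, b, c, a₁, v, h, oa, hcase⟩ : ∃ x a b c a₁ v, C.Claw x a b c ∧ Out D x a a₁ v ∧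
      (HP C ∨ ∀ p : G, p • v = v → p • a₁ = a₁ → p • a = a → p • x = x → p • b = b) := by
    by_cases hp : HP C
    · obtain ⟨u, hu⟩ := D.exists_nbr y
      obtain ⟨v, w, hv, hw, hvy, hwy, hvw⟩ := D.two_others (D.symm hu)
      have h : C.Claw u y v w := ⟨D.symm hu, hv, hw, hvy, hwy, hvw.symm, hy⟩
      obtain ⟨a₁, -, v₀, -, -, -, oa⟩ := Claw.exists_out C h
      exact ⟨u, y, v, w, a₁, v₀, h, oa, Or.inl hp⟩
    · simp only [HP, not_forall, not_exists, not_and, not_not] at hp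
      obtain ⟨x, a, b, c, a₁, v, h, oa, hno⟩ := hp
      exact ⟨x, a, b, c, a₁, v, h, oa, Or.inr hno⟩
  obtain ⟨b₁, -, w, -, -, -, ob⟩ := Claw.exists_out C h.swap₁
  obtain ⟨c₁, -, f₀, -, -, -, oc⟩ := Claw.exists_out C h.swap₂.swap₁
  obtain ⟨t, -, ht, -, hta, -, -⟩ := D.two_others (D.symm oa.h2)
  obtain ⟨t', -, ht', -, ht'b, -, -⟩ := D.two_others (D.symm ob.h2)
  refine ⟨x, a, h.ha, ?_⟩
  have finish : ∀ g ∈ T (G := G) x a, g • b = b → g • a₁ = a₁ → g • b₁ = b₁ → g • c₁ = c₁ →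
      B2 D g x := fun g gT gb ga1 gb1 gc1 => ⟨gT.1, fun n hn => by
    have gc : g • c = c := D.fix_third h.ha h.hb h.hc h.hab gT.1 gT.2 gb
    rcases Claw.cases C h hn with r | r | r <;> subst r
    · exact ⟨gT.2, D.fix1_intro (D.symm h.ha) oa.h1 oa.n1 gT.2 gT.1 ga1⟩
    · exact ⟨gb, D.fix1_intro (D.symm h.hb) ob.h1 ob.n1 gb gT.1 gb1⟩
    · exact ⟨gc, D.fix1_intro (D.symm h.hc) oc.h1 oc.n1 gc gT.1 gc1⟩⟩
  have last : ∀ H : Subgroup G, H ≤ T x a → (∀ g ∈ H, B2 D g x ∧ g • v = v ∧ g • w = w) →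
      Nat.card ↥H ≤ 4 := by
    intro H hH hall
    have s1 := D.card_step (H := H) (D.symm oa.h2) ht (fun g hg => (hall g hg).2.1)
      (fun g hg => ((hall g hg).1.2 a h.ha).2 a₁ oa.h1)
    have s2 := D.card_step (H := H ⊓ stabilizer G t) (D.symm ob.h2) ht' (fun g hg => (hall g hg.1).2.2)
      (fun g hg => ((hall g hg.1).1.2 b h.hb).2 b₁ ob.h1)
    have h3 : Nat.card ↥(H ⊓ stabilizer G t ⊓ stabilizer G t') ≤ 1 := D.card_le_one fun g hg => by
      obtain ⟨hB, gv, gw⟩ := hall g hg.1.1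
      exact C.one_of_fix hR h oa ob hB gv
        (D.fix1_intro (D.symm oa.h2) ht hta gv ((hB.2 a h.ha).2 a₁ oa.h1) hg.1.2) gw
        (D.fix1_intro (D.symm ob.h2) ht' ht'b gw ((hB.2 b h.hb).2 b₁ ob.h1) hg.2)
    omega
  rcases hcase with hp | hno
  · set H1 := T (G := G) x a ⊓ stabilizer G b with hH1
    set H2 := H1 ⊓ stabilizer G a₁ with hH2
    set H3 := H2 ⊓ stabilizer G b₁ with hH3
    set H4 := H3 ⊓ stabilizer G c₁ with hH4
    set H5 := H4 ⊓ stabilizer G w with hH5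
    have l1 : H1 ≤ T x a := inf_le_left
    have l2 : H2 ≤ H1 := inf_le_left
    have l3 : H3 ≤ H2 := inf_le_left
    have hc3 : H3 ≤ stabilizer G c := fun g hg =>
      D.fix_third h.ha h.hb h.hc h.hab (l1 (l2 (l3 hg))).1 (l1 (l2 (l3 hg))).2 (l2 (l3 hg)).2
    have s1 := D.card_step (H := T (G := G) x a) h.ha h.hb inf_le_left inf_le_right
    have s2 := D.card_step (H := H1) (D.symm h.ha) oa.h1 (l1.trans inf_le_right) (l1.trans inf_le_left)
    have s3 := D.card_step (H := H2) (D.symm h.hb) ob.h1 (l2.trans inf_le_right)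
      (l2.trans (l1.trans inf_le_left))
    have s4 := D.card_step (H := H3) (D.symm h.hc) oc.h1 hc3 (l3.trans (l2.trans (l1.trans inf_le_left)))
    have s5 := D.card_step (H := H4) (D.symm ob.h1) ob.h2 (inf_le_left.trans inf_le_right)
      (inf_le_left.trans (l3.trans (l2.trans inf_le_right)))
    have h5 := last H5 (inf_le_left.trans (inf_le_left.trans (l3.trans (l2.trans l1)))) fun g hg => by
      have hB := finish g (l1 (l2 (l3 hg.1.1))) hg.1.1.1.1.2 hg.1.1.1.2 hg.1.1.2 hg.1.2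
      exact ⟨hB, C.flip hR hp h oa ob hB hg.2, hg.2⟩
    simp only [← hH1, ← hH2, ← hH3, ← hH4, ← hH5] at s1 s2 s3 s4 s5
    norm_num
    omega
  · set H1 := T (G := G) x a ⊓ stabilizer G a₁ with hH1
    set H2 := H1 ⊓ stabilizer G v with hH2
    set H3 := H2 ⊓ stabilizer G b₁ with hH3
    set H4 := H3 ⊓ stabilizer G c₁ with hH4
    set H5 := H4 ⊓ stabilizer G w with hH5
    have l1 : H1 ≤ T x a := inf_le_left
    have l2 : H2 ≤ H1 := inf_le_left
    have l3 : H3 ≤ H2 := inf_le_left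
    have hb2 : H2 ≤ stabilizer G b := fun g hg =>
      hno g hg.2 (l2 hg).2 (l1 (l2 hg)).2 (l1 (l2 hg)).1
    have hc3 : H3 ≤ stabilizer G c := fun g hg =>
      D.fix_third h.ha h.hb h.hc h.hab (l1 (l2 (l3 hg))).1 (l1 (l2 (l3 hg))).2 (hb2 (l3 hg))
    have s1 := D.card_step (H := T (G := G) x a) (D.symm h.ha) oa.h1 inf_le_right inf_le_left
    have s2 := D.card_step (H := H1) (D.symm oa.h1) oa.h2 inf_le_right (l1.trans inf_le_right)
    have s3 := D.card_step (H := H2) (D.symm h.hb) ob.h1 hb2 (l2.trans (l1.trans inf_le_left))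
    have s4 := D.card_step (H := H3) (D.symm h.hc) oc.h1 hc3 (l3.trans (l2.trans (l1.trans inf_le_left)))
    have s5 := D.card_step (H := H4) (D.symm ob.h1) ob.h2 (inf_le_left.trans inf_le_right)
      (inf_le_left.trans (l3.trans hb2))
    have h5 := last H5 (inf_le_left.trans (inf_le_left.trans (l3.trans (l2.trans l1)))) fun g hg => by
      have h2 : g ∈ H2 := l3 hg.1.1
      exact ⟨finish g (l1 (l2 h2)) (hb2 h2) (l2 h2).2 hg.1.1.2 hg.1.2, h2.2, hg.2⟩
    simp only [← hH1, ← hH2, ← hH3, ← hH4, ← hH5] at s1 s2 s3 s4 s5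
    norm_num
    omega

end Centred

end CfsgLib.CubicRadius
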