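import Cfsg.Agent.Lib.CubicRadius.OddRadius
import Cfsg.Agent.Lib.CubicRadius.EvenRadius
import Cfsg.Agent.Lib.CubicRadius.RadiusFour

/-!
The edge groups of a cubic action with symmetric local groups have order at most the seventh power
of two.
-/

set_option autoImplicit false
set_option linter.unusedSectionVars false

namespace CfsgLib.CubicRadius

open MulAction CfsgLib.S3Amalgam

variable {G : Type*} [Group G] {Ω : Type*} [MulAction G Ω] (D : Cubic G Ω)

namespace Cubic

theorem exists_centred
    (hcent : ∀ (x : Ω) (g : G), g • x = x →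
      (∀ q : G, q • x = x → (∀ y, D.Adj x y → q • y = y) → g * q = q * g) →
        ∀ y, D.Adj x y → g • y = y)
    {x₀ y₀ : Ω} (h₀ : D.Adj x₀ y₀)
    (hzed : ∀ z : G, z • x₀ = x₀ → z • y₀ = y₀ → z * z = 1 →
      (∀ h : G, h • x₀ = x₀ → h • y₀ = y₀ → h * z = z * h) → ∀ g : G, g • x₀ = x₀ → g * z = z * g) :
    ∃ C : Centred D, C.isY x₀ := by
  classical
  haveI := D.fin x₀
  set S : Set G := {g | g • x₀ = x₀ ∧ g ≠ 1 ∧ g * g = 1 ∧ ∀ h : G, h • x₀ = x₀ → h * g = g * h} with hS
  obtain ⟨z₀, hz₀⟩ : ∃ g, g ∈ S := by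
    obtain ⟨y', -, hy', -, hne, -, -⟩ := D.two_others h₀
    obtain ⟨k, k1, k2, k3⟩ := D.swap h₀ hy' hne
    have hne' : T (G := G) x₀ y₀ ≠ ⊥ := fun e => k3 (by
      have : k ∈ T (G := G) x₀ y₀ := ⟨k1, k2⟩
      rw [e, Subgroup.mem_bot] at this
      rw [this, one_smul])
    obtain ⟨a, ha, ha1, ha2, hac⟩ := D.exists_central h₀ le_rfl hne'
      (fun t ht a ha => mul_mem (mul_mem ht ha) (inv_mem ht))
    exact ⟨a, ha.1, ha1, ha2, hzed a ha.1 ha.2 ha2 fun h h1 h2 => hac h ⟨h1, h2⟩⟩
  let P : ℕ → Prop := fun n => ∃ g ∈ S, g ∈ D.ball (G := G) n x₀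
  have hbound : ∃ n, ¬ P n := by
    have hfin : S.Finite := Set.Finite.subset (Set.finite_coe_iff.mp
      (inferInstance : Finite ↥(stabilizer G x₀))) fun g hg => hg.1
    have hex : ∀ g ∈ S, ∃ n, g ∉ D.ball (G := G) n x₀ := fun g hg => by
      by_contra hall
      simp only [not_exists, not_not] at hall
      refine hg.2.1 (D.faith g fun v => ?_)
      obtain ⟨n, hn⟩ := D.connected x₀ v
      exact hall n v hn
    choose f hf using hex
    obtain ⟨N, hN⟩ := (hfin.toFinset.image fun g => if h : g ∈ S then f g h else 0).exists_le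
    refine ⟨N, fun ⟨g, hg, hb⟩ => hf g hg (D.ball_anti (hN _ ?_) x₀ hb)⟩
    exact Finset.mem_image.mpr ⟨g, hfin.mem_toFinset.mpr hg, dif_pos hg⟩
  have hP0 : P 0 := ⟨z₀, hz₀, fun v hv => (show x₀ = v from hv) ▸ hz₀.1⟩
  have hpos : 1 ≤ Nat.find hbound := Nat.one_le_iff_ne_zero.mpr fun e => by
    have := Nat.find_spec hbound
    rw [e] at this
    exact this hP0
  set R := Nat.find hbound - 1 with hRdef
  obtain ⟨z, hz, hzb⟩ : P R := by_contra fun e => by
    have := Nat.find_min' hbound e
    omega
  have hmax : ∀ g ∈ S, g ∉ D.ball (G := G) (R + 1) x₀ := fun g hg hb =>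
    Nat.find_spec hbound ⟨g, hg, by rwa [show Nat.find hbound = R + 1 by omega]⟩
  have hmap : ∀ u, (D.side u ↔ D.side x₀) → ∃ k : G, k • x₀ = u := fun u hu => by
    obtain ⟨v, hv⟩ := D.exists_nbr u
    obtain ⟨k, k1, -⟩ := D.arc_map h₀ hv hu.symm
    exact ⟨k, k1⟩
  choose k hk using hmap
  have hone : ∀ (l : G), l * z * l⁻¹ = 1 → False := fun l e => hz.2.1 (conj_eq_one_iff.mp e)
  have hconj : ∀ (l₁ l₂ : G), l₁ • x₀ = l₂ • x₀ → l₁ * z * l₁⁻¹ = l₂ * z * l₂⁻¹ := fun l₁ l₂ e => by
    have := hz.2.2.2 (l₂⁻¹ * l₁) (by rw [mul_smul, e, inv_smul_smul])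
    calc l₁ * z * l₁⁻¹ = l₂ * (l₂⁻¹ * l₁ * z) * l₁⁻¹ := by group
      _ = l₂ * (z * (l₂⁻¹ * l₁)) * l₁⁻¹ := by rw [this]
      _ = l₂ * z * l₂⁻¹ := by group
  refine ⟨{ isY := fun u => D.side u ↔ D.side x₀
            isY_smul := fun g u => by rw [D.side_smul g u]
            isY_adj := fun {u v} h => by
              have := D.side_adj h
              tauto
            z := fun u => if h : (D.side u ↔ D.side x₀) then k u h * z * (k u h)⁻¹ else 1
            R := R
            z_sq := fun {u} hu => by
              simp only [dif_pos hu]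
              rw [show k u hu * z * (k u hu)⁻¹ * (k u hu * z * (k u hu)⁻¹) = k u hu * (z * z) * (k u hu)⁻¹ by group,
                hz.2.2.1, mul_one, mul_inv_cancel]
            z_ne := fun {u} hu => by
              simp only [dif_pos hu]
              exact fun e => hone _ e
            z_cent := fun {u} hu g hg => by
              simp only [dif_pos hu]
              have := hconj (g * k u hu) (k u hu) (by rw [mul_smul, hk u hu, hg])
              calc g * (k u hu * z * (k u hu)⁻¹) = g * k u hu * z * (g * k u hu)⁻¹ * g := by group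
                _ = k u hu * z * (k u hu)⁻¹ * g := by rw [this]
            z_conj := fun g u hu => by
              have hgu : D.side (g • u) ↔ D.side x₀ := by rw [D.side_smul g u]; exact hu
              simp only [dif_pos hu, dif_pos hgu]
              rw [hconj (k (g • u) hgu) (g * k u hu) (by rw [mul_smul, hk u hu, hk (g • u) hgu])]
              group
            z_ball := fun {u} hu => by
              simp only [dif_pos hu]
              have := D.conj_ball (g := k u hu) hzb
              rwa [hk u hu] at this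
            z_moved := fun {u} hu => by
              simp only [dif_pos hu]
              by_contra hno
              simp only [not_exists, not_and, not_not] at hno
              refine hmax z hz ?_
              have := D.conj_ball (g := (k u hu)⁻¹) (show k u hu * z * (k u hu)⁻¹ ∈ D.ball (R + 1) u from hno)
              rwa [show (k u hu)⁻¹ * (k u hu * z * (k u hu)⁻¹) * (k u hu)⁻¹⁻¹ = z by group,
                inv_smul_eq_iff.mpr (hk u hu).symm] at this
            maximal := fun {u} hu g hg2 hgc hgb => by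
              by_contra hg1
              have hb := D.conj_ball (g := (k u hu)⁻¹) hgb
              rw [inv_inv, inv_smul_eq_iff.mpr (hk u hu).symm] at hb
              refine hmax _ ⟨hb x₀ (D.near_refl _ _), ?_, ?_, fun h hh => ?_⟩ hb
              · intro e
                exact hg1 (by
                  calc g = k u hu * ((k u hu)⁻¹ * g * k u hu) * (k u hu)⁻¹ := by group
                    _ = 1 := by rw [e]; group)
              · rw [show (k u hu)⁻¹ * g * k u hu * ((k u hu)⁻¹ * g * k u hu) = (k u hu)⁻¹ * (g * g) * k u hu by group,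
                  hg2, mul_one, inv_mul_cancel]
              · have := hgc (k u hu * h * (k u hu)⁻¹) (by
                  rw [mul_smul, mul_smul, inv_smul_eq_iff.mpr (hk u hu).symm, hh, hk u hu])
                calc h * ((k u hu)⁻¹ * g * k u hu) = (k u hu)⁻¹ * (k u hu * h * (k u hu)⁻¹ * g) * k u hu := by group
                  _ = (k u hu)⁻¹ * (g * (k u hu * h * (k u hu)⁻¹)) * k u hu := by rw [this]
                  _ = (k u hu)⁻¹ * g * k u hu * h := by group
            hz := fun {u v} hu huv a ha h hh => by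
              obtain ⟨l, l1, l2⟩ := D.arc_map huv h₀ hu
              obtain ⟨ha1, ha2, ha3⟩ := mem_zed.mp ha
              have e := hzed (l * a * l⁻¹) (l1 ▸ conj_fix ha1.1) (l2 ▸ conj_fix ha1.2)
                (by rw [show l * a * l⁻¹ * (l * a * l⁻¹) = l * (a * a) * l⁻¹ by group, ha2, mul_one, mul_inv_cancel])
                (fun m m1 m2 => by
                  have := ha3 (l⁻¹ * m * l) (mem_T.mpr
                    ⟨by rw [mul_smul, mul_smul, l1, m1, ← l1, inv_smul_smul],
                     by rw [mul_smul, mul_smul, l2, m2, ← l2, inv_smul_smul]⟩)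
                  calc m * (l * a * l⁻¹) = l * (l⁻¹ * m * l * a) * l⁻¹ := by group
                    _ = l * (a * (l⁻¹ * m * l)) * l⁻¹ := by rw [this]
                    _ = l * a * l⁻¹ * m := by group)
                (l * h * l⁻¹) (by rw [← l1]; exact conj_fix hh)
              calc h * a = l⁻¹ * (l * h * l⁻¹ * (l * a * l⁻¹)) * l := by group
                _ = l⁻¹ * (l * a * l⁻¹ * (l * h * l⁻¹)) * l := by rw [e]
                _ = a * h := by group
            cent := hcent }, Iff.rfl⟩

/-- The bound on the edge groups. -/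
theorem bound {x y : Ω} (hy : D.Adj x y) : Nat.card ↥(T (G := G) x y) ≤ 2 ^ 7 := by
  have weak : ∀ {a b : Ω}, D.Adj a b → Nat.card ↥(T (G := G) a b) ≤ 2 ^ 4 →
      Nat.card ↥(T (G := G) x y) ≤ 2 ^ 7 := fun hab h =>
    (D.card_T_le hy hab).trans (h.trans (by norm_num))
  by_cases hcent : ∀ (x : Ω) (g : G), g • x = x →
      (∀ q : G, q • x = x → (∀ y, D.Adj x y → q • y = y) → g * q = q * g) →
        ∀ y, D.Adj x y → g • y = y
  · by_cases hnc : ∀ {u v}, D.Adj u v → ∃ z : G, z • u = u ∧ z • v = v ∧ z * z = 1 ∧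
        (∀ h : G, h • u = u → h • v = v → h * z = z * h) ∧ ∃ g : G, g • u = u ∧ g * z ≠ z * g
    · exact weak hy (D.bound_of_noncentral hcent hnc hy)
    simp only [not_forall] at hnc
    obtain ⟨u, v, huv, hnz⟩ := hnc
    obtain ⟨C, hC⟩ := D.exists_centred hcent huv fun z z1 z2 z3 z4 g hg =>
      by_contra fun e => hnz ⟨z, z1, z2, z3, z4, g, hg, e⟩
    have h2 := C.two_le_R hC
    rcases Nat.lt_or_ge C.R 5 with h5 | h5
    · obtain ⟨a, b, hab, hle⟩ : ∃ a b, D.Adj a b ∧ Nat.card ↥(T (G := G) a b) ≤ 2 ^ 7 := by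
        rcases (show C.R = 2 ∨ C.R = 3 ∨ C.R = 4 by omega) with e | e | e
        · obtain ⟨a, b, hab, hle⟩ := C.radius_two hC e
          exact ⟨a, b, hab, hle.trans (by norm_num)⟩
        · exact C.radius_three hC e
        · exact C.radius_four e hC
      exact (D.card_T_le hy hab).trans hle
    · rcases Nat.mod_two_eq_zero_or_one C.R with e | e
      · exact (C.even_radius e (by omega) hC).elim
      · exact (C.odd_radius hC e h5).elim
  · simp only [not_forall] at hcent
    obtain ⟨u, g, hg, hc, v, huv, hne⟩ := hcent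
    exact weak huv (D.bound_of_uncent hg hc huv hne)

end Cubic

end CfsgLib.CubicRadius
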