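import Cfsg.Agent.Lib.CubicRadius.Walks

/-!
An odd radius is at most three.
-/

set_option autoImplicit false
set_option linter.unusedSectionVars false

namespace CfsgLib.CubicRadius

open MulAction CfsgLib.S3Amalgam

variable {G : Type*} [Group G] {Ω : Type*} [MulAction G Ω] {D : Cubic G Ω}

namespace Centred

variable (C : Centred D)

theorem odd_radius {y : Ω} (hy : C.isY y) (hodd : C.R % 2 = 1) (h5 : 5 ≤ C.R) : False := by
  obtain ⟨p, hp, hp0, hmov⟩ := C.exists_moved hy
  subst hp0
  have hY : ∀ {i}, i ≤ C.R + 1 → i % 2 = 0 → C.isY (p i) := fun {i} hi he => C.isY_at hp hy hi he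
  have hY1 : C.isY (p (C.R + 1)) := hY le_rfl (by omega)
  have hY2 : C.isY (p 2) := hY (by omega) rfl
  have hYm : C.isY (p (C.R - 1)) := hY (by omega) (by omega)
  have fixp : ∀ {i}, i ≤ C.R → C.z (p 0) • p i = p i := fun {i} hi =>
    C.z_fix_wk hp hy (by omega) (Nat.zero_le _) (by omega) (by omega)
  have hback : D.Adj (p C.R) (p (C.R - 1)) := D.wk_back (D.wk_mono hp (by omega)) (by omega)
  have hfwd : D.Adj (p C.R) (p (C.R + 1)) := hp.1 C.R (by omega)
  have hne1 : p (C.R + 1) ≠ p (C.R - 1) := by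
    have := D.wk_ne hp (i := C.R - 1) (by omega)
    rwa [show C.R - 1 + 2 = C.R + 1 by omega] at this
  set r := C.z (p 0) • p (C.R + 1) with hr
  have hradj : D.Adj (p C.R) r := D.adj_smul_of_fix (fixp le_rfl) hfwd
  have hr1 : r ≠ p (C.R - 1) := fun e =>
    hne1 (MulAction.injective (C.z (p 0)) (e.trans (fixp (by omega)).symm))
  set u := C.z (p (C.R + 1)) with hu
  have huu : u * u = 1 := C.z_sq hY1
  have h00 : C.z (p 0) * C.z (p 0) = 1 := C.z_sq hy
  have hzr : C.z r = C.z (p (C.R - 1)) * u :=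
    C.z_sibling hback hfwd hradj hne1 hr1 hmov hYm
  have hA : C.z (p 0) * u * C.z (p 0) = C.z (p (C.R - 1)) * u := by
    rw [← hzr, hu, C.z_conj_z hy hY1]
  have humov : u • p 0 ≠ p 0 := by
    intro e
    have := C.z_cent hy u e
    refine C.ne_of_common hfwd hradj hmov hY1 ?_
    rw [hzr, ← hA, ← this, mul_assoc, h00, mul_one]
  have fixu : ∀ {i}, i ≤ C.R + 1 → 1 ≤ i → u • p i = p i := fun {i} hi h1 =>
    C.z_fix_wk hp hY1 hi le_rfl (by omega) (by omega)
  set o := u • p 0 with ho
  have ha0 : D.Adj (p 1) (p 0) := D.wk_adj' hp (i := 0) (by omega)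
  have ha2 : D.Adj (p 1) (p 2) := hp.1 1 (by omega)
  have hao : D.Adj (p 1) o := D.adj_smul_of_fix (fixu (by omega) le_rfl) ha0
  have ho2 : o ≠ p 2 := fun e =>
    D.wk_ne hp (i := 0) (by omega) ((MulAction.injective u) (e.trans (fixu (by omega) (by omega)).symm)).symm
  have hB : u * C.z (p 0) * u = C.z (p 0) * C.z (p 2) := by
    rw [hu, C.z_conj_z hY1 hy, ← C.z_sibling ha0 ha2 hao (D.wk_ne hp (by omega)) humov ho2 hy]
  have hc02 : C.z (p 0) * C.z (p 2) = C.z (p 2) * C.z (p 0) :=
    C.comm_wk hp hy hY2 (Nat.zero_le _) (by omega) (by omega) (by omega)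
  have e1 : C.z (p 0) * u * C.z (p 0) * u = C.z (p (C.R - 1)) := by
    rw [hA, mul_assoc, huu, mul_one]
  have e2 : u * C.z (p 0) * u * C.z (p 0) = C.z (p 2) := by
    rw [hB, hc02, mul_assoc, h00, mul_one]
  have h2 : C.z (p (C.R - 1)) = C.z (p 2) := by
    have h := C.z_sq hY2
    have : C.z (p (C.R - 1)) * C.z (p 2) = 1 := by
      rw [← e1, ← e2]
      simp only [mul_assoc]
      rw [← mul_assoc u u, huu, one_mul, ← mul_assoc (C.z (p 0)) (C.z (p 0)), h00, one_mul,
        ← mul_assoc u u, huu, one_mul, h00]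
    rw [eq_inv_of_mul_eq_one_left this, inv_eq_self h]
  -- the neighbouring involutions fix the last two vertices
  have six : ∀ c v, D.Adj (p 0) c → D.Adj c v → C.isY v →
      C.z v • p (C.R - 1) = p (C.R - 1) ∧ C.z v • p C.R = p C.R := by
    intro c v hc hcv hv
    by_cases hv0 : v = p 0
    · subst hv0; exact ⟨fixp (by omega), fixp le_rfl⟩
    by_cases hc1 : c = p 1
    · subst hc1
      exact ⟨C.z_fix_near hv (by omega : 1 + (C.R - 1 - 1) ≤ C.R)
          (D.near_trans (D.near_adj (D.symm hcv)) (D.near_wk hp (by omega) (by omega))),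
        C.z_fix_near hv (by omega : 1 + (C.R - 1) ≤ C.R)
          (D.near_trans (D.near_adj (D.symm hcv)) (D.near_wk hp (by omega) (by omega)))⟩
    obtain ⟨q1, hq1, q10, q1p⟩ := D.exists_cons hp (D.symm hc) (fun _ => hc1)
    obtain ⟨q, hq, q0, qq⟩ := D.exists_cons hq1 (by rw [q10]; exact D.symm hcv)
      (fun _ => by rw [show q1 1 = p 0 from q1p 0 (Nat.zero_le _)]; exact hv0)
    have qp : ∀ {i}, i ≤ C.R + 1 → q (i + 2) = p i := fun {i} hi => by
      rw [qq (i + 1) (by omega), q1p i hi]
    have hq0 : C.isY (q 0) := q0 ▸ hv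
    have qfix : ∀ {i}, i + 2 ≤ C.R → C.z v • p i = p i := fun {i} hi => by
      rw [← q0, ← qp (i := i) (by omega)]
      exact C.z_fix_wk hq hq0 (by omega) (Nat.zero_le _) (by omega) (by omega)
    have h1 : C.z v • p (C.R - 1) = p (C.R - 1) := by
      by_contra hm
      have hx : D.Adj (p (C.R - 2)) (p (C.R - 1)) := by
        have := hp.1 (C.R - 2) (by omega)
        rwa [show C.R - 2 + 1 = C.R - 1 by omega] at this
      have hcm : C.z v * C.z (p 2) = C.z (p 2) * C.z v := by
        rw [← q0, ← qp (i := 2) (by omega)]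
        exact C.comm_wk hq hq0 (qp (i := 2) (by omega) ▸ hY2) (Nat.zero_le _) (by omega) (by omega) (by omega)
      refine C.ne_of_common hx (D.adj_smul_of_fix (qfix (by omega)) hx) hm hYm ?_
      rw [← C.z_conj_z hv hYm, h2, hcm, mul_assoc, C.z_sq hv, mul_one]
    refine ⟨h1, by_contra fun hm => ?_⟩
    have htr : C.Tr C.R := C.climb_all hy (fun j hj hjR => by
      rcases Nat.mod_two_eq_zero_or_one j with ej | ej
      · refine ⟨fun i => p (i + (C.R - 1 - j)), C.z v, D.wk_shift hp (by omega),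
          hY (by omega) (by omega), fun i hi => ?_, ?_⟩
        · show C.z v • p (i + (C.R - 1 - j)) = p (i + (C.R - 1 - j))
          rcases Nat.lt_or_ge i j with h | h
          · exact qfix (by omega)
          · rw [show i + (C.R - 1 - j) = C.R - 1 by omega]; exact h1
        · show C.z v • p (j + 1 + (C.R - 1 - j)) ≠ p (j + 1 + (C.R - 1 - j))
          rwa [show j + 1 + (C.R - 1 - j) = C.R by omega]
      · refine ⟨fun i => p (i + (C.R - j)), C.z (p 0), D.wk_shift hp (by omega),
          hY (by omega) (by omega), fun i hi => fixp (by omega), ?_⟩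
        show C.z (p 0) • p (j + 1 + (C.R - j)) ≠ p (j + 1 + (C.R - j))
        rwa [show j + 1 + (C.R - j) = C.R + 1 by omega]) (by omega)
    have hmq := C.mv_of_tr htr (D.wk_mono hp (by omega)) (D.wk_mono hq (by omega)) hy hq0
      (C.mv_of_moves hp le_rfl hmov)
    have := C.mv_next hq (by omega) hq0 hmq
    rw [q0, show C.R + 1 = C.R - 1 + 2 by omega, qp (by omega)] at this
    exact this h1
  -- so the last involution normalises the group around the first vertex
  have hW2 : C.z (p 2) ∈ C.W (p 0) := C.z_mem_W (hp.1 0 (by omega)) ha2 hY2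
  have hnorm : ∀ n ∈ C.W (p 0), u * n * u⁻¹ ∈ C.W (p 0) := by
    refine conj_closure ?_
    rintro _ ⟨c, v, hc, hcv, hv, rfl⟩
    obtain ⟨hv1, hv2⟩ := six c v hc hcv hv
    have hvm := C.z_mem_W hc hcv hv
    have hvv := C.z_sq hv
    rw [inv_eq_self huu]
    rcases D.nbr_cases hback hfwd hradj hne1 hr1 hmov (D.adj_smul_of_fix hv2 hfwd) with e | e | e
    · exact absurd ((MulAction.injective (C.z v)) (e.trans hv1.symm)) hne1
    · have h : C.z v * u * C.z v = u := by rw [hu, C.z_conj_z hv hY1, e]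
      have : u * C.z v * u = C.z v := by
        calc u * C.z v * u = C.z v * u * C.z v * C.z v * u := by rw [h]
          _ = C.z v * (u * (C.z v * C.z v) * u) := by group
          _ = C.z v := by rw [hvv, mul_one, huu, mul_one]
      rw [this]; exact hvm
    · have h : C.z v * u * C.z v = C.z (p 2) * u := by rw [← h2, ← hzr, hu, C.z_conj_z hv hY1, e]
      have h' : u * C.z v * u * C.z v = C.z (p 2) := by
        have hcomm2 : C.z v * u * C.z v * u = C.z (p 2) := by rw [h, mul_assoc, huu, mul_one]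
        calc u * C.z v * u * C.z v = (C.z v * u * C.z v * u)⁻¹ := by
              rw [mul_inv_rev, mul_inv_rev, mul_inv_rev, inv_eq_self huu, inv_eq_self hvv]
              simp only [mul_assoc]
          _ = C.z (p 2) := by rw [hcomm2, inv_eq_self (C.z_sq hY2)]
      have : u * C.z v * u = C.z (p 2) * C.z v := by
        rw [← h', mul_assoc (u * C.z v * u), hvv, mul_one]
      rw [this]; exact mul_mem hW2 hvm
  have h0n : ∀ k : G, k • p 0 = p 0 → ∀ n ∈ C.W (p 0), k * n * k⁻¹ ∈ C.W (p 0) := fun k hk n hn => by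
    have := C.conj_W k n hn
    rwa [hk] at this
  let N : Subgroup G := Subgroup.normalizer ((C.W (p 0) : Subgroup G) : Set G)
  have hN0 : ∀ k : G, k • p 0 = p 0 → k ∈ N := fun k hk => mem_normalizer' (h0n k hk) fun n hn => by
    have := h0n k⁻¹ (inv_smul_eq_iff.mpr hk.symm) n hn
    rwa [inv_inv] at this
  have huN : u ∈ N := mem_normalizer' hnorm fun n hn => by
    have := hnorm n hn
    rwa [inv_eq_self huu] at this ⊢
  have hle : C.W (p 0) ≤ T (p 0) (p 1) :=
    le_inf (C.W_fix (n := 0) (by omega) rfl) (C.W_fix (n := 1) (by omega) (D.near_adj (hp.1 0 (by omega))))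
  have hT1 : T (p 1) (p 0) ≤ N := fun k hk => hN0 k hk.2
  have hT2 : T (p 1) o ≤ N := fun k hk => by
    have h : (u * k * u) • p 0 = p 0 := by
      rw [mul_smul, mul_smul, show k • u • p 0 = u • p 0 from hk.2, ← mul_smul, huu, one_smul]
    have := mul_mem (mul_mem huN (hN0 _ h)) huN
    rwa [show u * (u * k * u) * u = (u * u) * k * (u * u) by group, huu, one_mul, mul_one] at this
  have hbot := D.eq_bot_of_normalized (hp.1 0 (by omega)) hle h0n fun g hg n hn =>
    (Subgroup.mem_normalizer_iff.mp (D.stab_le_two ha0 hao humov hT1 hT2 hg) n).mp hn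
  have := C.z_mem_W (hp.1 0 (by omega)) ha0 hy
  rw [hbot, Subgroup.mem_bot] at this
  exact C.z_ne hy this

end Centred

end CfsgLib.CubicRadius
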