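import Cfsg.Agent.Lib.CubicRadius.Walks
import Cfsg.Agent.Lib.CubicRadius.Unconstrained

/-!
Radius two and three: the edge groups are small.
-/

set_option autoImplicit false
set_option linter.unusedSectionVars false

namespace CfsgLib.CubicRadius

open MulAction CfsgLib.S3Amalgam

variable {G : Type*} [Group G] {Ω : Type*} [MulAction G Ω] (D : Cubic G Ω)

namespace Cubic

/-- All neighbours are fixed. -/
def Fix1 (g : G) (v : Ω) : Prop := ∀ u, D.Adj v u → g • u = u

theorem fix1_intro {g : G} {v p a : Ω} (hp : D.Adj v p) (ha : D.Adj v a) (hne : a ≠ p)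
    (gv : g • v = v) (gp : g • p = p) (ga : g • a = a) : D.Fix1 g v :=
  fun _ hu => D.fix_third hp ha hu hne gv gp ga

include D in
theorem fix_image {g h : G} {v : Ω} (hc : g * h = h * g) (gv : g • v = v) : g • h • v = h • v := by
  rw [← mul_smul, hc, mul_smul, gv]

theorem fix1_image {g h : G} {v : Ω} (hc : g * h = h * g) (hv : D.Fix1 g v) : D.Fix1 g (h • v) := by
  intro u hu
  have := D.equiv h⁻¹ hu
  rw [inv_smul_smul] at this
  have := D.fix_image hc (hv _ this)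
  rwa [smul_inv_smul] at this

/-- A ball of radius four is fixed once everything in it is. -/
theorem ball_of_fix {g : G} {x : Ω} (h0 : g • x = x) (h1 : ∀ n, D.Adj x n → g • n = n)
    (h2 : ∀ n, D.Adj x n → D.Fix1 g n) (h3 : ∀ n m, D.Adj x n → D.Adj n m → m ≠ x → D.Fix1 g m)
    (h4 : ∀ n m p, D.Adj x n → D.Adj n m → m ≠ x → D.Adj m p → p ≠ n → D.Fix1 g p) :
    g ∈ D.ball 4 x := by
  refine D.mem_ball_succ h0 fun n hn => D.mem_ball_succ (h1 n hn) fun m hm => ?_
  by_cases hmx : m = x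
  · subst hmx
    exact D.mem_ball_succ h0 fun p hp => D.mem_ball_one (h1 p hp) (h2 p hp)
  · refine D.mem_ball_succ (h2 n hn m hm) fun p hp => D.mem_ball_one (h3 n m hn hm hmx p hp) ?_
    by_cases hpn : p = n
    · subst hpn; exact h2 p hn
    · exact h4 n m p hn hm hmx hp hpn

/-- A chain of three vertices as a walk. -/
theorem wk_three {a b c d : Ω} (h₁ : D.Adj a b) (h₂ : D.Adj b c) (h₃ : D.Adj c d) (n₁ : c ≠ a)
    (n₂ : d ≠ b) : ∃ p : ℕ → Ω, D.Wk 3 p ∧ p 0 = a ∧ p 3 = d := by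
  obtain ⟨q, hq, q0, qi⟩ := D.exists_cons (D.wk_two h₂ h₃ n₂) (b := a) (by simpa using h₁)
    (fun _ => by simpa using n₁.symm)
  exact ⟨q, hq, q0, by simpa using qi 2 le_rfl⟩

/-- A chain of four vertices as a walk. -/
theorem wk_chain4 {a b c d e : Ω} (h₁ : D.Adj a b) (h₂ : D.Adj b c) (h₃ : D.Adj c d) (h₄ : D.Adj d e)
    (n₁ : c ≠ a) (n₂ : d ≠ b) (n₃ : e ≠ c) :
    ∃ p : ℕ → Ω, D.Wk 4 p ∧ p 0 = a ∧ p 4 = e := by
  obtain ⟨q, hq, q0, qi⟩ := D.exists_cons (D.wk_two h₃ h₄ n₃) (b := b) (by simpa using h₂)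
    (fun _ => by simpa using n₂.symm)
  obtain ⟨r, hr, r0, ri⟩ := D.exists_cons hq (b := a) (by rw [q0]; exact h₁)
    (fun _ => by rw [show q 1 = c by simpa using qi 0 (Nat.zero_le _)]; exact n₁.symm)
  exact ⟨r, hr, r0, by rw [ri 3 le_rfl]; simpa using qi 2 le_rfl⟩

/-- A chain of five vertices as a walk. -/
theorem wk_chain5 {a b c d e f : Ω} (h₁ : D.Adj a b) (h₂ : D.Adj b c) (h₃ : D.Adj c d) (h₄ : D.Adj d e)
    (h₅ : D.Adj e f) (n₁ : c ≠ a) (n₂ : d ≠ b) (n₃ : e ≠ c) (n₄ : f ≠ d) :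
    ∃ p : ℕ → Ω, D.Wk 5 p ∧ p 0 = a ∧ p 5 = f := by
  obtain ⟨q, hq, q0, qi⟩ := D.exists_cons (D.wk_two h₄ h₅ n₄) (b := c) (by simpa using h₃)
    (fun _ => by simpa using n₃.symm)
  obtain ⟨r, hr, r0, ri⟩ := D.exists_cons hq (b := b) (by rw [q0]; exact h₂)
    (fun _ => by rw [show q 1 = d by simpa using qi 0 (Nat.zero_le _)]; exact n₂.symm)
  obtain ⟨s, hs, s0, si⟩ := D.exists_cons hr (b := a) (by rw [r0]; exact h₁)
    (fun _ => by rw [show r 1 = c by rw [show (1 : ℕ) = 0 + 1 from rfl, ri 0 (Nat.zero_le _), q0]]; exact n₁.symm)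
  exact ⟨s, hs, s0, by rw [si 4 le_rfl, ri 3 le_rfl]; simpa using qi 2 le_rfl⟩

end Cubic

namespace Centred

variable {D} (C : Centred D)

theorem commute_of_fix {g : G} {a : Ω} (ha : C.isY a) (h : g • a = a) : g * C.z a = C.z a * g :=
  C.z_cent ha g h

theorem mv_two {y : Ω} (hy : C.isY y) (hR : C.R = 2) {p : ℕ → Ω} (hp : D.Wk C.R p) (h0 : C.isY (p 0)) :
    C.Mv p := by
  obtain ⟨P, hP, hP0, hmov⟩ := C.exists_moved hy
  obtain ⟨q, hq, hqi⟩ := D.exists_ext hp (by omega) 1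
  have hq0 : C.isY (q 0) := hqi 0 (Nat.zero_le _) ▸ h0
  rw [hR] at hP hqi hq
  have hPY : C.isY (P 0) := hP0.symm ▸ hy
  obtain ⟨g, hg⟩ := C.tr_three hy P q hP hq hPY hq0
  refine C.mv_conj (C.mv_of_moves (L := 3) hP (by omega) (hP0.symm ▸ hmov)) hPY (g := g) ?_ ?_
  · rw [hg 0 (by omega), hqi 0 (by omega)]
  · rw [hR, hg 2 (by omega), hqi 2 le_rfl]

theorem mv_three {y : Ω} (hy : C.isY y) (hR : C.R = 3) {p : ℕ → Ω} (hp : D.Wk C.R p) (h0 : C.isY (p 0)) :
    C.Mv p := by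
  obtain ⟨P, hP, hP0, hmov⟩ := C.exists_moved hy
  have ht : C.Tr C.R := hR.symm ▸ C.tr_three hy
  exact C.mv_of_tr ht (D.wk_mono hP (by omega)) hp (hP0.symm ▸ hy) h0
    (C.mv_of_moves hP le_rfl (hP0.symm ▸ hmov))

theorem radius_two {y : Ω} (hy : C.isY y) (hR : C.R = 2) :
    ∃ a b, D.Adj a b ∧ Nat.card ↥(T (G := G) a b) ≤ 2 ^ 4 := by
  have moves : ∀ {a b c d : Ω}, C.isY a → D.Adj a b → D.Adj b c → D.Adj c d → c ≠ a → d ≠ b →
      C.z a • d ≠ d := by
    intro a b c d ha h1 h2 h3 n1 n2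
    obtain ⟨p, hp, p0, p3⟩ := D.wk_three h1 h2 h3 n1 n2
    have := C.mv_next hp (by omega) (p0.symm ▸ ha)
      (C.mv_two hy hR (D.wk_mono hp (by omega)) (p0.symm ▸ ha))
    rwa [hR, p0, p3] at this
  obtain ⟨n₁, n₂, n₃, h12, h13, h23, hn⟩ := D.nbr y
  have e1 : D.Adj y n₁ := (hn n₁).mpr (Or.inl rfl)
  have e2 : D.Adj y n₂ := (hn n₂).mpr (Or.inr (Or.inl rfl))
  have e3 : D.Adj y n₃ := (hn n₃).mpr (Or.inr (Or.inr rfl))
  obtain ⟨a, a', ha, ha', hay, hay', haa⟩ := D.two_others (D.symm e1)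
  obtain ⟨t, -, ht, -, htn, -, -⟩ := D.two_others (D.symm ha)
  obtain ⟨t', -, ht', -, htn', -, -⟩ := D.two_others (D.symm ha')
  obtain ⟨b₂, -, hb₂, -, hb₂y, -, -⟩ := D.two_others (D.symm e2)
  obtain ⟨b₃, -, hb₃, -, hb₃y, -, -⟩ := D.two_others (D.symm e3)
  refine ⟨y, n₁, e1, ?_⟩
  set H1 := T (G := G) y n₁ ⊓ stabilizer G n₂ with hH1
  set H2 := H1 ⊓ stabilizer G a with hH2
  set H3 := H2 ⊓ stabilizer G t with hH3
  set H4 := H3 ⊓ stabilizer G t' with hH4
  have l1 : H1 ≤ T y n₁ := inf_le_left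
  have l2 : H2 ≤ T y n₁ := inf_le_left.trans l1
  have l3 : H3 ≤ H2 := inf_le_left
  have s1 := D.card_step (H := T (G := G) y n₁) e1 e2 inf_le_left inf_le_right
  have s2 := D.card_step (H := H1) (D.symm e1) ha (l1.trans inf_le_right) (l1.trans inf_le_left)
  have s3 := D.card_step (H := H2) (D.symm ha) ht inf_le_right (l2.trans inf_le_right)
  have ha3 : H3 ≤ stabilizer G a' := fun k hk =>
    D.fix_third (D.symm e1) ha ha' hay (l2 (l3 hk)).2 (l2 (l3 hk)).1 (l3 hk).2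
  have s4 := D.card_step (H := H3) (D.symm ha') ht' ha3 (l3.trans (l2.trans inf_le_right))
  have hYa : C.isY a := (C.isY_two e1 ha).mpr hy
  have hYn : ∀ {n b}, D.Adj y n → D.Adj n b → C.isY b := fun h h' => (C.isY_two h h').mpr hy
  have h4 : Nat.card ↥H4 ≤ 1 := D.card_le_one fun g hg => by
    have gT : g ∈ T (G := G) y n₁ := l2 (l3 hg.1)
    have gn2 : g • n₂ = n₂ := hg.1.1.1.2
    have gn3 : g • n₃ = n₃ := D.fix_third e1 e2 e3 h12.symm gT.1 gT.2 gn2
    have ga : g • a = a := hg.1.1.2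
    have ga' : g • a' = a' := ha3 hg.1
    have f1 : D.Fix1 g n₁ := D.fix1_intro (D.symm e1) ha hay gT.2 gT.1 ga
    -- images of the children of the first branch
    have other : ∀ {n n' b : Ω}, D.Adj y n → D.Adj y n' → n ≠ n₁ → n' ≠ n₁ → n' ≠ n → D.Adj n b → b ≠ y →
        g • n = n → g • n' = n' → D.Fix1 g n' ∧ C.z b • n₁ = n' := by
      intro n n' b hn hn' hne hne' hnn hb hby gn gn'
      have hb0 : C.z b • y = y := C.z_fix_near (hYn hn hb) (by omega : 2 ≤ C.R)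
        (D.near_cons (D.symm hb) (D.near_adj (D.symm hn)))
      have hbn : C.z b • n = n := C.z_fix_near (hYn hn hb) (by omega : 1 ≤ C.R) (D.near_adj (D.symm hb))
      have himg : C.z b • n₁ = n' := D.smul_third hn e1 hn' hne.symm hnn hne' hb0 hbn
        (moves (hYn hn hb) (D.symm hb) (D.symm hn) e1 (Ne.symm hby) hne.symm)
      refine ⟨?_, himg⟩
      have h1 : D.Adj n' (C.z b • a) := himg ▸ D.equiv (C.z b) ha
      have h2 : C.z b • a ≠ y := fun e => hay (MulAction.injective (C.z b) (e.trans hb0.symm))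
      refine D.fix1_intro (D.symm hn') h1 h2 gn' gT.1 ?_
      obtain ⟨b', hb', hbb, hb'y, -⟩ := D.third hb (D.symm hn) (Ne.symm hby)
      rcases D.nbr_cases hb (D.symm hn) hb' (Ne.symm hby) hbb hb'y (D.adj_smul_of_fix gn hb) with e | e | e
      · exact D.fix_image (C.commute_of_fix (hYn hn hb) e) ga
      · exact absurd ((MulAction.injective g) (e.trans gT.1.symm)) hby
      · calc g • C.z b • a = (g * C.z b * g⁻¹) • g • a := by rw [← mul_smul, ← mul_smul, inv_mul_cancel_right]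
          _ = C.z b • a := by
            rw [← C.z_conj g (hYn hn hb), e, ga,
              C.z_sibling hb (D.symm hn) hb' (Ne.symm hby) hbb hb'y (hYn hn hb), mul_smul,
              C.z_fix_near hy (by omega : 2 ≤ C.R) (D.near_cons e1 (D.near_adj ha))]
    obtain ⟨f3, i2⟩ := other e2 e3 h12.symm h13.symm h23.symm hb₂ hb₂y gn2 gn3
    obtain ⟨f2, i3⟩ := other e3 e2 h13.symm h12.symm h23 hb₃ hb₃y gn3 gn2
    have k1 : ∀ v, D.Adj n₁ v → D.Fix1 g v := by
      intro v hv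
      rcases D.nbr_cases (D.symm e1) ha ha' hay hay' haa.symm hv with r | r | r <;> subst r
      · intro u hu
        rcases (hn u).mp hu with r | r | r <;> subst r
        exacts [gT.2, gn2, gn3]
      · exact D.fix1_intro (D.symm ha) ht htn ga gT.2 hg.1.2
      · exact D.fix1_intro (D.symm ha') ht' htn' ga' gT.2 hg.2
    have pull : ∀ {n n' b : Ω}, D.Adj n b → C.isY b → C.z b • n₁ = n' → D.Fix1 g n →
        ∀ v, D.Adj n' v → D.Fix1 g v := by
      intro n n' b hb hYb himg hfix v hv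
      have hv' : D.Adj n₁ (C.z b • v) := by
        have := D.equiv (C.z b) hv
        rwa [← himg, C.z_smul_smul hYb] at this
      have := D.fix1_image (C.commute_of_fix hYb (hfix b hb)) (k1 _ hv')
      rwa [C.z_smul_smul hYb] at this
    have hm : g ∈ D.ball (G := G) (C.R + 1) y := by
      rw [hR]
      refine D.mem_ball_succ gT.1 fun n hn' => ?_
      have : g • n = n ∧ ∀ v, D.Adj n v → g • v = v ∧ D.Fix1 g v := by
        rcases (hn n).mp hn' with r | r | r <;> subst r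
        · exact ⟨gT.2, fun v hv => ⟨f1 v hv, k1 v hv⟩⟩
        · exact ⟨gn2, fun v hv => ⟨f2 v hv, pull hb₃ (hYn e3 hb₃) i3 f3 v hv⟩⟩
        · exact ⟨gn3, fun v hv => ⟨f3 v hv, pull hb₂ (hYn e2 hb₂) i2 f2 v hv⟩⟩
      exact D.mem_ball_succ this.1 fun v hv => D.mem_ball_one (this.2 v hv).1 (this.2 v hv).2
    have hbot : D.ball (G := G) (C.R + 1) y = ⊥ := by
      refine C.no_central hy e1 (le_inf (D.ball_le_stab _ _) fun k hk =>
        hk n₁ (D.near_mono (by omega) (D.near_adj e1))) (fun k hk n hn => ?_) fun a ha _ => ha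
      have := D.conj_ball (g := k) hn
      rwa [show k • y = y from hk.1] at this
    rw [hbot, Subgroup.mem_bot] at hm
    exact hm
  simp only [← hH1, ← hH2, ← hH3, ← hH4] at s1 s2 s3 s4
  norm_num
  omega

/-- Three neighbours of a vertex off the centred side. -/
structure Claw (x a b c : Ω) : Prop where
  ha : D.Adj x a
  hb : D.Adj x b
  hc : D.Adj x c
  hab : b ≠ a
  hac : c ≠ a
  hbc : c ≠ b
  hY : C.isY a

theorem Claw.isYb {x a b c : Ω} (h : C.Claw x a b c) : C.isY b := (C.isY_two (D.symm h.ha) h.hb).mpr h.hY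

theorem Claw.isYc {x a b c : Ω} (h : C.Claw x a b c) : C.isY c := (C.isY_two (D.symm h.ha) h.hc).mpr h.hY

theorem Claw.swap₁ {x a b c : Ω} (h : C.Claw x a b c) : C.Claw x b a c :=
  ⟨h.hb, h.ha, h.hc, h.hab.symm, h.hbc, h.hac, h.isYb⟩

theorem Claw.swap₂ {x a b c : Ω} (h : C.Claw x a b c) : C.Claw x a c b :=
  ⟨h.ha, h.hc, h.hb, h.hac, h.hab, h.hbc.symm, h.hY⟩

/-- A vertex three steps out along a branch. -/
structure Out (D : Cubic G Ω) (x a a₁ v : Ω) : Prop where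
  h1 : D.Adj a a₁
  n1 : a₁ ≠ x
  h2 : D.Adj a₁ v
  n2 : v ≠ a

theorem Claw.exists_out {x a b c : Ω} (h : C.Claw x a b c) :
    ∃ a₁ a₁' v, D.Adj a a₁' ∧ a₁' ≠ x ∧ a₁' ≠ a₁ ∧ Out D x a a₁ v := by
  obtain ⟨p, q, hp, hq, hpx, hqx, hpq⟩ := D.two_others (D.symm h.ha)
  obtain ⟨v, -, hv, -, hne, -, -⟩ := D.two_others (D.symm hp)
  exact ⟨p, q, v, hq, hqx, hpq.symm, hp, hpx, hv, hne⟩

theorem Claw.cases {x a b c u : Ω} (h : C.Claw x a b c) (hu : D.Adj x u) : u = a ∨ u = b ∨ u = c :=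
  D.nbr_cases h.ha h.hb h.hc h.hab h.hac h.hbc hu

theorem out_isY {x a b c a₁ v : Ω} (h : C.Claw x a b c) (ho : Out D x a a₁ v) : C.isY v :=
  (C.isY_two ho.h1 ho.h2).mpr h.hY

theorem radius_three {y : Ω} (hy : C.isY y) (hR : C.R = 3) :
    ∃ a b, D.Adj a b ∧ Nat.card ↥(T (G := G) a b) ≤ 2 ^ 7 := by
  have moves : ∀ {a b c d e : Ω}, C.isY a → D.Adj a b → D.Adj b c → D.Adj c d → D.Adj d e →
      c ≠ a → d ≠ b → e ≠ c → C.z a • e ≠ e := by
    intro a b c d e ha h1 h2 h3 h4 n1 n2 n3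
    obtain ⟨p, hp, p0, p4⟩ := D.wk_chain4 h1 h2 h3 h4 n1 n2 n3
    have := C.mv_next hp (by omega) (p0.symm ▸ ha)
      (C.mv_three hy hR (D.wk_mono hp (by omega)) (p0.symm ▸ ha))
    rwa [hR, p0, p4] at this
  -- how an outer involution acts on the claw
  have act : ∀ {x a b c a₁ v : Ω}, C.Claw x a b c → Out D x a a₁ v →
      C.z v • x = x ∧ C.z v • a = a ∧ C.z v • b = c ∧ C.z v • c = b := by
    intro x a b c a₁ v h ho
    have hv := C.out_isY h ho
    have hx : C.z v • x = x := C.z_fix_near hv (by omega : 3 ≤ C.R)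
      (D.near_cons (D.symm ho.h2) (D.near_cons (D.symm ho.h1) (D.near_adj (D.symm h.ha))))
    have ha : C.z v • a = a := C.z_fix_near hv (by omega : 2 ≤ C.R)
      (D.near_cons (D.symm ho.h2) (D.near_adj (D.symm ho.h1)))
    have hb := moves hv (D.symm ho.h2) (D.symm ho.h1) (D.symm h.ha) h.hb (Ne.symm ho.n2) (Ne.symm ho.n1) h.hab
    have hc := moves hv (D.symm ho.h2) (D.symm ho.h1) (D.symm h.ha) h.hc (Ne.symm ho.n2) (Ne.symm ho.n1) h.hac
    exact ⟨hx, ha, D.smul_third h.ha h.hb h.hc h.hab h.hac h.hbc hx ha hb,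
      D.smul_third h.ha h.hc h.hb h.hac h.hab h.hbc.symm hx ha hc⟩
  obtain ⟨u, hu⟩ := D.exists_nbr y
  obtain ⟨v, w, hv, hw, hvy, hwy, hvw⟩ := D.two_others (D.symm hu)
  have hbot : ∀ {x a : Ω}, C.isY a → D.Adj a x → ∀ g ∈ D.ball (G := G) 4 x, g = 1 := by
    intro x a ha hax g hg
    have hA := C.no_central ha hax (A := D.ball (G := G) 4 x)
      (le_inf (fun k hk => hk a (D.near_mono (by omega) (D.near_adj (D.symm hax)))) (D.ball_le_stab _ _))
      (fun k hk n hn => by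
        have := D.conj_ball (g := k) hn
        rwa [show k • x = x from hk.2] at this)
      (fun e he hcen => by
        rw [hR]
        refine D.mem_ball_succ (he a (D.near_mono (by omega) (D.near_adj (D.symm hax)))) fun n hn => ?_
        obtain ⟨k, k1, k2⟩ := D.trans hax hn
        have := D.conj_ball (g := k) he
        rw [k2, hcen k k1] at this
        exact D.ball_anti (by omega) n this)
    rw [hA, Subgroup.mem_bot] at hg
    exact hg
  have hcl : C.Claw u y v w := ⟨D.symm hu, hv, hw, hvy, hwy, hvw.symm, hy⟩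
  -- choose the configuration
  by_cases hchoice : ∃ x a b c a₁ b₁ v₀ w₀, C.Claw x a b c ∧ Out D x a a₁ v₀ ∧ Out D x b b₁ w₀ ∧
      C.z w₀ • a₁ ≠ C.z v₀ • b₁
  · obtain ⟨x, a, b, c, a₁, b₁, v₀, w₀, h, oa, ob, hne⟩ := hchoice
    obtain ⟨a₁', ha', hax', hax'x, -⟩ := D.third oa.h1 (D.symm h.ha) (Ne.symm oa.n1)
    obtain ⟨b₁', hb', hbx', hbx'x, -⟩ := D.third ob.h1 (D.symm h.hb) (Ne.symm ob.n1)
    obtain ⟨v₁, -, hv₁, -, hv₁a, -, -⟩ := D.two_others (D.symm ha')
    obtain ⟨t, -, ht, -, hta, -, -⟩ := D.two_others (D.symm oa.h2)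
    obtain ⟨t', -, ht', -, hta', -, -⟩ := D.two_others (D.symm hv₁)
    refine ⟨x, a, h.ha, ?_⟩
    set H1 := T (G := G) x a ⊓ stabilizer G b with hH1
    set H2 := H1 ⊓ stabilizer G b₁ with hH2
    set H3 := H2 ⊓ stabilizer G a₁ with hH3
    set H4 := H3 ⊓ stabilizer G v₀ with hH4
    set H5 := H4 ⊓ stabilizer G w₀ with hH5
    set H6 := H5 ⊓ stabilizer G t with hH6
    have l1 : H1 ≤ T x a := inf_le_left
    have l2 : H2 ≤ H1 := inf_le_left
    have l3 : H3 ≤ H2 := inf_le_left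
    have l4 : H4 ≤ H3 := inf_le_left
    have l5 : H5 ≤ H4 := inf_le_left
    have l6 : H6 ≤ H5 := inf_le_left
    have main : ∀ g ∈ H5, (∀ n, D.Adj x n → g • n = n) ∧ (∀ n, D.Adj x n → D.Fix1 g n) ∧
        (∀ n m, D.Adj x n → D.Adj n m → m ≠ x → D.Fix1 g m) := by
      intro g hg
      have gT : g ∈ T (G := G) x a := l1 (l2 (l3 (l4 (l5 hg))))
      have gb : g • b = b := (l2 (l3 (l4 (l5 hg)))).2
      have gb1 : g • b₁ = b₁ := (l3 (l4 (l5 hg))).2
      have ga1 : g • a₁ = a₁ := (l4 (l5 hg)).2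
      have gv : g • v₀ = v₀ := (l5 hg).2
      have gw : g • w₀ = w₀ := hg.2
      have gc : g • c = c := D.fix_third h.ha h.hb h.hc h.hab gT.1 gT.2 gb
      obtain ⟨vx, va, vb, vc⟩ := act h oa
      obtain ⟨wx, wb, wa, wc⟩ := act h.swap₁ ob
      have cv : g * C.z v₀ = C.z v₀ * g := C.commute_of_fix (C.out_isY h oa) gv
      have cw : g * C.z w₀ = C.z w₀ * g := C.commute_of_fix (C.out_isY h.swap₁ ob) gw
      have ka : D.Fix1 g a₁ := D.fix1_intro (D.symm oa.h1) oa.h2 oa.n2 ga1 gT.2 gv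
      have kb : D.Fix1 g b₁ := D.fix1_intro (D.symm ob.h1) ob.h2 ob.n2 gb1 gb gw
      have c1 : D.Adj c (C.z v₀ • b₁) := vb ▸ D.equiv (C.z v₀) ob.h1
      have c2 : D.Adj c (C.z w₀ • a₁) := wa ▸ D.equiv (C.z w₀) oa.h1
      have c1x : C.z v₀ • b₁ ≠ x := fun e => ob.n1 (MulAction.injective _ (e.trans vx.symm))
      have c2x : C.z w₀ • a₁ ≠ x := fun e => oa.n1 (MulAction.injective _ (e.trans wx.symm))
      have fc : D.Fix1 g c := D.fix1_intro (D.symm h.hc) c1 c1x gc gT.1 (D.fix_image cv gb1)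
      have kc : ∀ m, D.Adj c m → m ≠ x → D.Fix1 g m := by
        intro m hm hmx
        rcases D.nbr_cases (D.symm h.hc) c1 c2 c1x c2x hne hm with r | r | r
        · exact absurd r hmx
        · exact r ▸ D.fix1_image cv kb
        · exact r ▸ D.fix1_image cw ka
      have down : ∀ {n v : Ω}, C.isY v → g * C.z v = C.z v * g → C.z v • n = c → C.z v • x = x →
          ∀ m, D.Adj n m → m ≠ x → D.Fix1 g m := by
        intro n v hv hcm hn hx m hm hmx
        have := D.fix1_image hcm (kc (C.z v • m) (hn ▸ D.equiv (C.z v) hm)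
          (fun e => hmx (MulAction.injective _ (e.trans hx.symm))))
        rwa [C.z_smul_smul hv] at this
      refine ⟨fun n hn => ?_, fun n hn => ?_, fun n m hn hm hmx => ?_⟩
      · rcases Claw.cases C h hn with r | r | r <;> subst r
        exacts [gT.2, gb, gc]
      · rcases Claw.cases C h hn with r | r | r <;> subst r
        · exact D.fix1_intro (D.symm h.ha) oa.h1 oa.n1 gT.2 gT.1 ga1
        · exact D.fix1_intro (D.symm h.hb) ob.h1 ob.n1 gb gT.1 gb1
        · exact fc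
      · rcases Claw.cases C h hn with r | r | r <;> subst r
        · exact down (C.out_isY h.swap₁ ob) cw wa wx m hm hmx
        · exact down (C.out_isY h oa) cv vb vx m hm hmx
        · exact kc m hm hmx
    have gv1 : H6 ≤ stabilizer G v₁ := fun g hg => (main g (l6 hg)).2.2 a a₁' h.ha ha' hax'x v₁ hv₁
    have s1 := D.card_step (H := T (G := G) x a) h.ha h.hb inf_le_left inf_le_right
    have s2 := D.card_step (H := H1) (D.symm h.hb) ob.h1 inf_le_right (l1.trans inf_le_left)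
    have s3 := D.card_step (H := H2) (D.symm h.ha) oa.h1 (l2.trans (l1.trans inf_le_right))
      (l2.trans (l1.trans inf_le_left))
    have s4 := D.card_step (H := H3) (D.symm oa.h1) oa.h2 inf_le_right
      (l3.trans (l2.trans (l1.trans inf_le_right)))
    have s5 := D.card_step (H := H4) (D.symm ob.h1) ob.h2 (l4.trans (l3.trans inf_le_right))
      (l4.trans (l3.trans (l2.trans inf_le_right)))
    have s6 := D.card_step (H := H5) (D.symm oa.h2) ht (l5.trans inf_le_right)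
      (l5.trans (l4.trans inf_le_right))
    have s7 := D.card_step (H := H6) (D.symm hv₁) ht' gv1
      (fun g hg => (main g (l6 hg)).2.1 a h.ha a₁' ha')
    have h7 : Nat.card ↥(H6 ⊓ stabilizer G t') ≤ 1 := D.card_le_one fun g hg => by
      obtain ⟨m1, m2, m3⟩ := main g (l6 hg.1)
      have gT : g ∈ T (G := G) x a := l1 (l2 (l3 (l4 (l5 (l6 hg.1)))))
      have cb : g * C.z b = C.z b * g := C.commute_of_fix h.isYb (m1 b h.hb)
      have kv : ∀ {m p q : Ω}, D.Adj a m → m ≠ x → D.Adj m p → p ≠ a → D.Adj p q → q ≠ m →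
          g • q = q → ∀ p', D.Adj m p' → p' ≠ a → D.Fix1 g p' := by
        intro m p q hm hmx hp hpa hq hqm gq p' hp' hpa'
        have gp : g • p = p := m3 a m h.ha hm hmx p hp
        have gm : g • m = m := m2 a h.ha m hm
        have fp : D.Fix1 g p := D.fix1_intro (D.symm hp) hq hqm gp gm gq
        by_cases e : p' = p
        · exact e ▸ fp
        have ba : C.z b • a = a := C.z_fix_near h.isYb (by omega : 2 ≤ C.R)
          (D.near_cons (D.symm h.hb) (D.near_adj h.ha))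
        have bm : C.z b • m = m := C.z_fix_near h.isYb (by omega : 3 ≤ C.R)
          (D.near_cons (D.symm h.hb) (D.near_cons h.ha (D.near_adj hm)))
        have hmv := moves h.isYb (D.symm h.hb) h.ha hm hp h.hab.symm hmx hpa
        rw [← D.smul_third (D.symm hm) hp hp' hpa hpa' e bm ba hmv]
        exact D.fix1_image cb fp
      have ka : ∀ m, D.Adj a m → m ≠ x → ∀ p, D.Adj m p → p ≠ a → D.Fix1 g p := by
        intro m hm hmx
        rcases D.nbr_cases (D.symm h.ha) oa.h1 ha' oa.n1 hax'x hax' hm with r | r | r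
        · exact absurd r hmx
        · subst r; exact kv hm hmx oa.h2 oa.n2 ht hta hg.1.2
        · subst r; exact kv hm hmx hv₁ hv₁a ht' hta' hg.2
      obtain ⟨vx, va, vb, vc⟩ := act h oa
      obtain ⟨wx, wb, wa, wc⟩ := act h.swap₁ ob
      have pull : ∀ {n n' v : Ω}, C.isY v → g * C.z v = C.z v * g → C.z v • n = n' → C.z v • x = x →
          (∀ m, D.Adj n' m → m ≠ x → ∀ p, D.Adj m p → p ≠ n' → D.Fix1 g p) →
          ∀ m, D.Adj n m → m ≠ x → ∀ p, D.Adj m p → p ≠ n → D.Fix1 g p := by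
        intro n n' v hv hcm hn hx hk m hm hmx p hp hpn
        have := D.fix1_image hcm (hk (C.z v • m) (hn ▸ D.equiv (C.z v) hm)
          (fun e => hmx (MulAction.injective _ (e.trans hx.symm))) (C.z v • p) (D.equiv (C.z v) hp)
          (fun e => hpn (MulAction.injective _ (e.trans hn.symm))))
        rwa [C.z_smul_smul hv] at this
      have kc := pull (C.out_isY h.swap₁ ob) (C.commute_of_fix (C.out_isY h.swap₁ ob) (l6 hg.1).2) wc wx ka
      have kb := pull (C.out_isY h oa) (C.commute_of_fix (C.out_isY h oa) (l5 (l6 hg.1)).2) vb vx kc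
      exact hbot h.hY (D.symm h.ha) g (D.ball_of_fix gT.1 m1 m2 m3 (fun n m p hn hm hmx hp hpn => by
        rcases Claw.cases C h hn with r | r | r <;> subst r
        exacts [ka m hm hmx p hp hpn, kb m hm hmx p hp hpn, kc m hm hmx p hp hpn]))
    simp only [← hH1, ← hH2, ← hH3, ← hH4, ← hH5, ← hH6] at s1 s2 s3 s4 s5 s6 s7
    norm_num
    omega
  simp only [not_exists, not_and, not_not] at hchoice
  obtain ⟨a₁, a₁', v₀, ha', hax', haa, oa⟩ := Claw.exists_out C hcl
  obtain ⟨b₁, b₁', w₀, hb', hbx', hbb, ob⟩ := Claw.exists_out C hcl.swap₁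
  obtain ⟨v₁, -, hv₁, -, hv₁a, -, -⟩ := D.two_others (D.symm ha')
  obtain ⟨w₁, -, hw₁, -, hw₁b, -, -⟩ := D.two_others (D.symm hb')
  obtain ⟨t, -, ht, -, hta, -, -⟩ := D.two_others (D.symm oa.h2)
  refine ⟨u, y, hcl.ha, ?_⟩
  set H1 := T (G := G) u y ⊓ stabilizer G v with hH1
  set H2 := H1 ⊓ stabilizer G b₁ with hH2
  set H3 := H2 ⊓ stabilizer G a₁ with hH3
  set H4 := H3 ⊓ stabilizer G v₀ with hH4
  set H5 := H4 ⊓ stabilizer G v₁ with hH5
  set H6 := H5 ⊓ stabilizer G w₀ with hH6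
  have l1 : H1 ≤ T u y := inf_le_left
  have l2 : H2 ≤ H1 := inf_le_left
  have l3 : H3 ≤ H2 := inf_le_left
  have l4 : H4 ≤ H3 := inf_le_left
  have l5 : H5 ≤ H4 := inf_le_left
  have l6 : H6 ≤ H5 := inf_le_left
  have hva : H3 ≤ stabilizer G a₁' := fun g hg =>
    D.fix_third (D.symm hcl.ha) oa.h1 ha' oa.n1 (l1 (l2 (l3 hg))).2 (l1 (l2 (l3 hg))).1 hg.2
  have s1 := D.card_step (H := T (G := G) u y) hcl.ha hcl.hb inf_le_left inf_le_right
  have s2 := D.card_step (H := H1) (D.symm hcl.hb) ob.h1 inf_le_right (l1.trans inf_le_left)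
  have s3 := D.card_step (H := H2) (D.symm hcl.ha) oa.h1 (l2.trans (l1.trans inf_le_right))
    (l2.trans (l1.trans inf_le_left))
  have s4 := D.card_step (H := H3) (D.symm oa.h1) oa.h2 inf_le_right
    (l3.trans (l2.trans (l1.trans inf_le_right)))
  have s5 := D.card_step (H := H4) (D.symm ha') hv₁ (l4.trans hva)
    (l4.trans (l3.trans (l2.trans (l1.trans inf_le_right))))
  have s6 := D.card_step (H := H5) (D.symm ob.h1) ob.h2 (l5.trans (l4.trans (l3.trans inf_le_right)))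
    (l5.trans (l4.trans (l3.trans (l2.trans inf_le_right))))
  have s7 := D.card_step (H := H6) (D.symm oa.h2) ht (l6.trans (l5.trans inf_le_right))
    (l6.trans (l5.trans (l4.trans inf_le_right)))
  have h7 : Nat.card ↥(H6 ⊓ stabilizer G t) ≤ 1 := D.card_le_one fun g hg => by
    have gT : g ∈ T (G := G) u y := l1 (l2 (l3 (l4 (l5 (l6 hg.1)))))
    have gv : g • v = v := (l2 (l3 (l4 (l5 (l6 hg.1))))).2
    have gw' : g • w = w := D.fix_third hcl.ha hcl.hb hcl.hc hcl.hab gT.1 gT.2 gv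
    have gb1 : g • b₁ = b₁ := (l3 (l4 (l5 (l6 hg.1)))).2
    have ga1 : g • a₁ = a₁ := (l4 (l5 (l6 hg.1))).2
    have gv0 : g • v₀ = v₀ := (l5 (l6 hg.1)).2
    have gv1 : g • v₁ = v₁ := (l6 hg.1).2
    have gw0 : g • w₀ = w₀ := hg.1.2
    have ga1' : g • a₁' = a₁' := hva (l4 (l5 (l6 hg.1)))
    have gb1' : g • b₁' = b₁' := D.fix_third (D.symm hcl.hb) ob.h1 hb' ob.n1 gv gT.1 gb1
    have ka1 : D.Fix1 g a₁ := D.fix1_intro (D.symm oa.h1) oa.h2 oa.n2 ga1 gT.2 gv0
    have ka1' : D.Fix1 g a₁' := D.fix1_intro (D.symm ha') hv₁ hv₁a ga1' gT.2 gv1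
    have kb1 : D.Fix1 g b₁ := D.fix1_intro (D.symm ob.h1) ob.h2 ob.n2 gb1 gv gw0
    obtain ⟨vx, va, vb, vc⟩ := act hcl oa
    obtain ⟨wx, wb, wa, wc⟩ := act hcl.swap₁ ob
    have cv : g * C.z v₀ = C.z v₀ * g := C.commute_of_fix (C.out_isY hcl oa) gv0
    have cw : g * C.z w₀ = C.z w₀ * g := C.commute_of_fix (C.out_isY hcl.swap₁ ob) gw0
    have c1 : D.Adj w (C.z w₀ • a₁) := wa ▸ D.equiv (C.z w₀) oa.h1
    have c2 : D.Adj w (C.z w₀ • a₁') := wa ▸ D.equiv (C.z w₀) ha'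
    have c1x : C.z w₀ • a₁ ≠ u := fun e => oa.n1 (MulAction.injective _ (e.trans wx.symm))
    have c2x : C.z w₀ • a₁' ≠ u := fun e => hax' (MulAction.injective _ (e.trans wx.symm))
    have c12 : C.z w₀ • a₁' ≠ C.z w₀ • a₁ := fun e => haa (MulAction.injective _ e)
    have kc : ∀ m, D.Adj w m → m ≠ u → D.Fix1 g m := by
      intro m hm hmx
      rcases D.nbr_cases (D.symm hcl.hc) c1 c2 c1x c2x c12 hm with r | r | r
      · exact absurd r hmx
      · exact r ▸ D.fix1_image cw ka1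
      · exact r ▸ D.fix1_image cw ka1'
    have kb1' : D.Fix1 g b₁' := by
      have := D.fix1_image cv (kc (C.z v₀ • b₁') (vb ▸ D.equiv (C.z v₀) hb')
        (fun e => hbx' (MulAction.injective _ (e.trans vx.symm))))
      rwa [C.z_smul_smul (C.out_isY hcl oa)] at this
    have o' : Out D u v b₁' w₁ := ⟨hb', hbx', hw₁, hw₁b⟩
    have m1 : ∀ n, D.Adj u n → g • n = n := by
      intro n hn
      rcases Claw.cases C hcl hn with r | r | r <;> subst r
      exacts [gT.2, gv, gw']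
    have m2 : ∀ n, D.Adj u n → D.Fix1 g n := by
      intro n hn
      rcases Claw.cases C hcl hn with r | r | r <;> subst r
      · exact D.fix1_intro (D.symm hcl.ha) oa.h1 oa.n1 gT.2 gT.1 ga1
      · exact D.fix1_intro (D.symm hcl.hb) ob.h1 ob.n1 gv gT.1 gb1
      · exact D.fix1_intro (D.symm hcl.hc) c1 c1x gw' gT.1 (D.fix_image cw ga1)
    have m3 : ∀ n m, D.Adj u n → D.Adj n m → m ≠ u → D.Fix1 g m := by
      intro n m hn hm hmx
      rcases Claw.cases C hcl hn with r | r | r <;> subst r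
      · rcases D.nbr_cases (D.symm hcl.ha) oa.h1 ha' oa.n1 hax' haa hm with r | r | r
        · exact absurd r hmx
        · exact r ▸ ka1
        · exact r ▸ ka1'
      · rcases D.nbr_cases (D.symm hcl.hb) ob.h1 hb' ob.n1 hbx' hbb hm with r | r | r
        · exact absurd r hmx
        · exact r ▸ kb1
        · exact r ▸ kb1'
      · exact kc m hm hmx
    -- fixing one grandchild propagates
    have hz1 : ∀ p, D.Adj a₁ p → p ≠ y → D.Fix1 g p := by
      intro p hp hpy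
      have f0 : D.Fix1 g v₀ := D.fix1_intro (D.symm oa.h2) ht hta gv0 ga1 hg.2
      by_cases e : p = v₀
      · exact e ▸ f0
      have ba : C.z v • y = y := C.z_fix_near hcl.isYb (by omega : 2 ≤ C.R)
        (D.near_cons (D.symm hcl.hb) (D.near_adj hcl.ha))
      have bm : C.z v • a₁ = a₁ := C.z_fix_near hcl.isYb (by omega : 3 ≤ C.R)
        (D.near_cons (D.symm hcl.hb) (D.near_cons hcl.ha (D.near_adj oa.h1)))
      have hmv := moves hcl.isYb (D.symm hcl.hb) hcl.ha oa.h1 oa.h2 hcl.hab.symm oa.n1 oa.n2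
      rw [← D.smul_third (D.symm oa.h1) oa.h2 hp oa.n2 hpy e bm ba hmv]
      exact D.fix1_image (C.commute_of_fix hcl.isYb gv) f0
    have push : ∀ {n n' m z : Ω}, C.isY z → g * C.z z = C.z z * g → C.z z • n = n' →
        (∀ p, D.Adj m p → p ≠ n → D.Fix1 g p) →
        ∀ p, D.Adj (C.z z • m) p → p ≠ n' → D.Fix1 g p := by
      intro n n' m z hz hcm hn hk p hp hpn
      have hp' := D.equiv (C.z z) hp
      rw [C.z_smul_smul hz] at hp'
      have := D.fix1_image hcm (hk (C.z z • p) hp' (fun e => hpn (by rw [← hn, ← e, C.z_smul_smul hz])))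
      rwa [C.z_smul_smul hz] at this
    have gw1 : g • w₁ = w₁ := kb1' w₁ hw₁
    have cw1 : g * C.z w₁ = C.z w₁ * g := C.commute_of_fix (C.out_isY hcl.swap₁ o') gw1
    obtain ⟨-, -, wa1, -⟩ := act hcl.swap₁ o'
    have q1 := hchoice u y v w a₁ b₁ v₀ w₀ hcl oa ob
    have q2 := hchoice u y v w a₁ b₁' v₀ w₁ hcl oa o'
    have e1 := push (C.out_isY hcl.swap₁ ob) cw wa hz1
    have e2 := push (C.out_isY hcl.swap₁ o') cw1 wa1 hz1
    have kcc : ∀ m, D.Adj w m → m ≠ u → ∀ p, D.Adj m p → p ≠ w → D.Fix1 g p := by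
      intro m hm hmx
      have hc' : D.Adj w (C.z w₁ • a₁) := wa1 ▸ D.equiv (C.z w₁) oa.h1
      have hc'x : C.z w₁ • a₁ ≠ u := by
        rw [q2]; exact fun e => hbx' (MulAction.injective _ (e.trans vx.symm))
      have hne' : C.z w₁ • a₁ ≠ C.z w₀ • a₁ := by
        rw [q1, q2]; exact fun e => hbb (MulAction.injective _ e)
      rcases D.nbr_cases (D.symm hcl.hc) c1 hc' c1x hc'x hne' hm with r | r | r
      · exact absurd r hmx
      · subst r; exact e1
      · subst r; exact e2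
    have down : ∀ {n z : Ω}, C.isY z → g * C.z z = C.z z * g → C.z z • n = w → C.z z • u = u →
        ∀ m, D.Adj n m → m ≠ u → ∀ p, D.Adj m p → p ≠ n → D.Fix1 g p := by
      intro n z hz hcm hn hx m hm hmx p hp hpn
      have := push hz hcm (show C.z z • w = n by rw [← hn, C.z_smul_smul hz])
        (kcc (C.z z • m) (hn ▸ D.equiv (C.z z) hm)
          (fun e => hmx (MulAction.injective _ (e.trans hx.symm))))
      rw [C.z_smul_smul hz] at this
      exact this p hp hpn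
    exact hbot hcl.hY (D.symm hcl.ha) g (D.ball_of_fix gT.1 m1 m2 m3 (fun n m p hn hm hmx hp hpn => by
      rcases Claw.cases C hcl hn with r | r | r <;> subst r
      exacts [down (C.out_isY hcl.swap₁ ob) cw wa wx m hm hmx p hp hpn,
        down (C.out_isY hcl oa) cv vb vx m hm hmx p hp hpn, kcc m hm hmx p hp hpn]))
  simp only [← hH1, ← hH2, ← hH3, ← hH4, ← hH5, ← hH6] at s1 s2 s3 s4 s5 s6 s7
  norm_num
  omega

end Centred

end CfsgLib.CubicRadius
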