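import Cfsg.Agent.Lib.CubicRadius.EvenShift

/-!
The products of three involutions taken from the three branches at a centred vertex.
-/

set_option autoImplicit false
set_option linter.unusedSectionVars false

namespace CfsgLib.CubicRadius

open MulAction CfsgLib.S3Amalgam

variable {G : Type*} [Group G] {Ω : Type*} [MulAction G Ω]

/-- `a` is two steps from `c` through `n`. -/
structure Two (D : Cubic G Ω) (c n a : Ω) : Prop where
  h1 : D.Adj c n
  h2 : D.Adj n a
  ne : a ≠ c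

variable {D : Cubic G Ω}

theorem Two.near {c n a : Ω} (h : Two D c n a) : D.Near 2 c a := D.near_cons h.h1 (D.near_adj h.h2)

theorem Two.smul {c n a : Ω} (h : Two D c n a) (g : G) : Two D (g • c) (g • n) (g • a) :=
  ⟨D.equiv g h.h1, D.equiv g h.h2, fun e => h.ne (MulAction.injective g e)⟩

theorem two_exists {c n : Ω} (h : D.Adj c n) : ∃ a, Two D c n a := by
  obtain ⟨a, -, ha, -, hne, -, -⟩ := D.two_others (D.symm h)
  exact ⟨a, h, ha, hne⟩

/-- In a group three commuting elements may be reordered. -/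
theorem prod_perm {x y z : G} (xy : x * y = y * x) (xz : x * z = z * x) (yz : y * z = z * y) :
    x * z * y = x * y * z ∧ y * x * z = x * y * z ∧ y * z * x = x * y * z ∧
      z * x * y = x * y * z ∧ z * y * x = x * y * z := by
  refine ⟨by rw [mul_assoc, ← yz, ← mul_assoc], by rw [xy], ?_, ?_, ?_⟩
  · rw [mul_assoc, ← xz, ← mul_assoc, ← xy]
  · rw [← xz, mul_assoc, ← yz, ← mul_assoc]
  · rw [← yz, mul_assoc, ← xz, ← mul_assoc, ← xy]

namespace Centred

variable (C : Centred D)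

/-- A product of three involutions from distinct branches. -/
def Pi (c : Ω) (l : G) : Prop :=
  ∃ n₁ n₂ n₃ a b e, Two D c n₁ a ∧ Two D c n₂ b ∧ Two D c n₃ e ∧ n₁ ≠ n₂ ∧ n₁ ≠ n₃ ∧ n₂ ≠ n₃ ∧
    l = C.z a * C.z b * C.z e

theorem two_isY {c n a : Ω} (hc : C.isY c) (h : Two D c n a) : C.isY a :=
  (C.isY_two h.h1 h.h2).mpr hc

theorem two_sib {c n a a' : Ω} (hc : C.isY c) (h : Two D c n a) (h' : Two D c n a') (hne : a' ≠ a) :
    C.z a' = C.z a * C.z c :=
  C.z_sibling h.h2 (D.symm h.h1) h'.h2 (Ne.symm h.ne) hne h'.ne (C.two_isY hc h)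

theorem two_comm_centre {c n a : Ω} (hc : C.isY c) (h : Two D c n a) :
    C.z a * C.z c = C.z c * C.z a :=
  C.comm (C.two_isY hc h) hc (D.near_mono (C.two_le_R hc) (D.near_symm h.near))

theorem two_comm (h4 : 4 ≤ C.R) {c n n' a b : Ω} (hc : C.isY c) (h : Two D c n a) (h' : Two D c n' b) :
    C.z a * C.z b = C.z b * C.z a :=
  C.comm (C.two_isY hc h) (C.two_isY hc h')
    (D.near_mono h4 (D.near_trans (D.near_symm h.near) h'.near))

theorem pi_conj {c : Ω} {l : G} (hc : C.isY c) (h : C.Pi c l) (g : G) :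
    C.Pi (g • c) (g * l * g⁻¹) := by
  obtain ⟨n₁, n₂, n₃, a, b, e, ha, hb, he, h12, h13, h23, rfl⟩ := h
  refine ⟨g • n₁, g • n₂, g • n₃, g • a, g • b, g • e, ha.smul g, hb.smul g, he.smul g,
    fun e => h12 (MulAction.injective g e), fun e => h13 (MulAction.injective g e),
    fun e => h23 (MulAction.injective g e), ?_⟩
  rw [C.z_conj g (C.two_isY hc ha), C.z_conj g (C.two_isY hc hb), C.z_conj g (C.two_isY hc he)]
  group

/-- An involution commuting with a product transports it. -/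
theorem pi_comm {c : Ω} {l x : G} (hc : C.isY c) (h : C.Pi c l) (hx : x * l = l * x) :
    C.Pi (x • c) l := by
  have := C.pi_conj hc h x
  rwa [hx, mul_inv_cancel_right] at this

theorem pi_exists (c : Ω) : ∃ l, C.Pi c l := by
  obtain ⟨n₁, n₂, n₃, h12, h13, h23, hn⟩ := D.nbr c
  obtain ⟨a, ha⟩ := two_exists ((hn n₁).mpr (Or.inl rfl))
  obtain ⟨b, hb⟩ := two_exists ((hn n₂).mpr (Or.inr (Or.inl rfl)))
  obtain ⟨e, he⟩ := two_exists ((hn n₃).mpr (Or.inr (Or.inr rfl)))
  exact ⟨_, n₁, n₂, n₃, a, b, e, ha, hb, he, h12, h13, h23, rfl⟩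

variable (h4 : 4 ≤ C.R)

include h4

theorem pi_comm_centre {c : Ω} {l : G} (hc : C.isY c) (h : C.Pi c l) : l * C.z c = C.z c * l := by
  obtain ⟨n₁, n₂, n₃, a, b, e, ha, hb, he, -, -, -, rfl⟩ := h
  have h1 : Commute (C.z a) (C.z c) := C.two_comm_centre hc ha
  have h2 : Commute (C.z b) (C.z c) := C.two_comm_centre hc hb
  have h3 : Commute (C.z e) (C.z c) := C.two_comm_centre hc he
  exact ((h1.mul_left h2).mul_left h3).eq

theorem pi_sq {c : Ω} {l : G} (hc : C.isY c) (h : C.Pi c l) : l * l = 1 := by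
  obtain ⟨n₁, n₂, n₃, a, b, e, ha, hb, he, -, -, -, rfl⟩ := h
  obtain ⟨-, -, -, h4', h5⟩ := prod_perm (C.two_comm h4 hc ha hb) (C.two_comm h4 hc ha he)
    (C.two_comm h4 hc hb he)
  nth_rw 2 [← h5]
  rw [mul_assoc (C.z a * C.z b), ← mul_assoc (C.z e), ← mul_assoc (C.z e),
    C.z_sq (C.two_isY hc he), one_mul, mul_assoc (C.z a), ← mul_assoc (C.z b),
    C.z_sq (C.two_isY hc hb), one_mul, C.z_sq (C.two_isY hc ha)]

theorem pi_two {c : Ω} {l l' : G} (hc : C.isY c) (h : C.Pi c l) (h' : C.Pi c l') :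
    l' = l ∨ l' = l * C.z c := by
  obtain ⟨n₁, n₂, n₃, a, b, e, ha, hb, he, h12, h13, h23, rfl⟩ := h
  obtain ⟨m₁, m₂, m₃, a', b', e', ha', hb', he', m12, m13, m23, rfl⟩ := h'
  have hcc := C.z_sq hc
  have step : ∀ {a' b' e' : Ω}, Two D c n₁ a' → Two D c n₂ b' → Two D c n₃ e' →
      C.z a' * C.z b' * C.z e' = C.z a * C.z b * C.z e ∨
        C.z a' * C.z b' * C.z e' = C.z a * C.z b * C.z e * C.z c := by
    intro a' b' e' ha' hb' he'
    have sib : ∀ {n x y : Ω}, Two D c n x → Two D c n y → C.z y = C.z x ∨ C.z y = C.z x * C.z c := by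
      intro n x y hx hy
      rcases eq_or_ne y x with rfl | hne
      · exact Or.inl rfl
      · exact Or.inr (C.two_sib hc hx hy hne)
    have cb : C.z c * C.z b = C.z b * C.z c := (C.two_comm_centre hc hb).symm
    have ce : C.z c * C.z e = C.z e * C.z c := (C.two_comm_centre hc he).symm
    have mv1 : C.z a * C.z c * C.z b = C.z a * C.z b * C.z c := by rw [mul_assoc, cb, ← mul_assoc]
    have mv2 : ∀ X : G, X * C.z c * C.z e = X * C.z e * C.z c := fun X => by
      rw [mul_assoc, ce, ← mul_assoc]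
    have zz : ∀ X : G, X * C.z c * C.z c = X := fun X => by rw [mul_assoc, hcc, mul_one]
    rcases sib ha ha' with r1 | r1 <;> rcases sib hb hb' with r2 | r2 <;>
      rcases sib he he' with r3 | r3 <;> rw [r1, r2, r3] <;>
      simp only [← mul_assoc, mv1, mv2, zz, true_or, or_true]
  obtain ⟨p1, p2, p3, p4, p5⟩ := prod_perm (C.two_comm h4 hc ha' hb') (C.two_comm h4 hc ha' he')
    (C.two_comm h4 hc hb' he')
  rcases D.nbr_cases ha.h1 hb.h1 he.h1 h12.symm h13.symm h23.symm ha'.h1 with r1 | r1 | r1 <;>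
    rcases D.nbr_cases ha.h1 hb.h1 he.h1 h12.symm h13.symm h23.symm hb'.h1 with r2 | r2 | r2 <;>
    rcases D.nbr_cases ha.h1 hb.h1 he.h1 h12.symm h13.symm h23.symm he'.h1 with r3 | r3 | r3 <;>
    subst r1 r2 r3 <;>
    first
      | exact absurd rfl m12
      | exact absurd rfl m13
      | exact absurd rfl m23
      | exact step ha' hb' he'
      | (rw [← p1]; exact step ha' he' hb')
      | (rw [← p2]; exact step hb' ha' he')
      | (rw [← p3]; exact step hb' he' ha')
      | (rw [← p4]; exact step he' ha' hb')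
      | (rw [← p5]; exact step he' hb' ha')

theorem pi_other {c : Ω} {l : G} (hc : C.isY c) (h : C.Pi c l) : C.Pi c (l * C.z c) := by
  obtain ⟨n₁, n₂, n₃, a, b, e, ha, hb, he, h12, h13, h23, rfl⟩ := h
  obtain ⟨e', h1, h2, h3, -⟩ := D.third he.h2 (D.symm he.h1) (Ne.symm he.ne)
  refine ⟨n₁, n₂, n₃, a, b, e', ha, hb, ⟨he.h1, h1, h3⟩, h12, h13, h23, ?_⟩
  rw [C.two_sib hc he ⟨he.h1, h1, h3⟩ h2, ← mul_assoc]

/-- Distinct involutions cannot share two products. -/
theorem pi_inter {a b : Ω} {l l' : G} (ha : C.isY a) (hb : C.isY b) (hne : C.z a ≠ C.z b)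
    (h1 : C.Pi a l) (h2 : C.Pi b l) (h3 : C.Pi a l') (h4' : C.Pi b l') : l' = l := by
  rcases C.pi_two h4 ha h1 h3 with e | e
  · exact e
  rcases C.pi_two h4 hb h2 h4' with e' | e'
  · exact e'
  exact absurd (mul_left_cancel (e.symm.trans e')) hne

/-- Two distinct products at a vertex multiply to its involution. -/
theorem pi_mul {a : Ω} {l l' : G} (ha : C.isY a) (h : C.Pi a l) (h' : C.Pi a l') (hne : l' ≠ l) :
    C.z a = l * l' := by
  rw [(C.pi_two h4 ha h h').resolve_left hne, ← mul_assoc, C.pi_sq h4 ha h, one_mul]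

end Centred

end CfsgLib.CubicRadius
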