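import Cfsg.Agent.Lib.CubicRadius.Centred

/-!
Joining and extending walks, and what the involution of a centred vertex does along a walk.
-/

set_option autoImplicit false
set_option linter.unusedSectionVars false

namespace CfsgLib.CubicRadius

open MulAction CfsgLib.S3Amalgam

variable {G : Type*} [Group G] {Ω : Type*} [MulAction G Ω] (D : Cubic G Ω)

namespace Cubic

theorem wk_congr {L : ℕ} {p q : ℕ → Ω} (h : D.Wk L p) (e : ∀ i ≤ L, q i = p i) : D.Wk L q :=
  ⟨fun i hi => by rw [e i (by omega), e (i + 1) (by omega)]; exact h.1 i hi,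
   fun i hi => by rw [e i (by omega), e (i + 2) (by omega)]; exact h.2 i hi⟩

/-- Two walks with a common end and no backtracking there. -/
theorem wk_join {a b : ℕ} {q p : ℕ → Ω} (hq : D.Wk a q) (hp : D.Wk b p) (e : q a = p 0)
    (hne : 1 ≤ a → 1 ≤ b → q (a - 1) ≠ p 1) :
    D.Wk (a + b) (fun i => if i < a then q i else p (i - a)) := by
  have hQ : ∀ i ≤ a, (if i < a then q i else p (i - a)) = q i := fun i hi => by
    rcases Nat.lt_or_ge i a with h | h
    · simp [h]
    · obtain rfl : i = a := by omega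
      simp [e]
  refine ⟨fun i hi => ?_, fun i hi => ?_⟩
  · rcases Nat.lt_or_ge i a with h | h
    · simp only [hQ i (by omega), hQ (i + 1) h]; exact hq.1 i h
    · simp only [if_neg (show ¬ i < a by omega), if_neg (show ¬ i + 1 < a by omega)]
      have := hp.1 (i - a) (by omega)
      rwa [show i - a + 1 = i + 1 - a by omega] at this
  · rcases Nat.lt_or_ge (i + 1) a with h | h
    · simp only [hQ i (by omega), hQ (i + 2) (by omega)]; exact hq.2 i (by omega)
    · rcases Nat.lt_or_ge i a with h' | h'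
      · obtain rfl : i + 1 = a := by omega
        simp only [if_pos h', if_neg (show ¬ i + 2 < i + 1 by omega)]
        have := (hne (by omega) (by omega)).symm
        rwa [show i + 1 - 1 = i by omega, show (1 : ℕ) = i + 2 - (i + 1) by omega] at this
      · simp only [if_neg (show ¬ i < a by omega), if_neg (show ¬ i + 2 < a by omega)]
        have := hp.2 (i - a) (by omega)
        rwa [show i - a + 2 = i + 2 - a by omega] at this

theorem wk_adj' {L : ℕ} {p : ℕ → Ω} (h : D.Wk L p) {i : ℕ} (hi : i + 1 ≤ L) :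
    D.Adj (p (i + 1)) (p i) := D.symm (h.1 i hi)

/-- The other neighbour at the end of a walk. -/
theorem wk_back {L : ℕ} {p : ℕ → Ω} (h : D.Wk L p) (hL : 1 ≤ L) : D.Adj (p L) (p (L - 1)) := by
  have := D.symm (h.1 (L - 1) (by omega))
  rwa [show L - 1 + 1 = L by omega] at this

/-- A walk can be prolonged through any admissible vertex. -/
theorem exists_ext_via {L : ℕ} {p : ℕ → Ω} (h : D.Wk L p) {b : Ω} (hb : D.Adj (p L) b)
    (hne : 1 ≤ L → p (L - 1) ≠ b) (M : ℕ) :
    ∃ q, D.Wk (L + M) q ∧ (∀ i ≤ L, q i = p i) ∧ q (L + 1) = b := by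
  obtain ⟨r, r0, r1, hr⟩ := D.exists_wk hb M
  refine ⟨_, D.wk_join h hr r0.symm (fun hL _ => r1.symm ▸ hne hL), fun i hi => ?_, ?_⟩
  · rcases Nat.lt_or_ge i L with e | e
    · simp [e]
    · obtain rfl : i = L := by omega
      simp [r0]
  · simp [r1]

/-- A walk can be prolonged. -/
theorem exists_ext {L : ℕ} {p : ℕ → Ω} (h : D.Wk L p) (hL : 1 ≤ L) (M : ℕ) :
    ∃ q, D.Wk (L + M) q ∧ ∀ i ≤ L, q i = p i := by
  obtain ⟨b, -, hb, -, hne, -, -⟩ := D.two_others (D.wk_back h hL)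
  obtain ⟨q, hq, hqi, -⟩ := D.exists_ext_via h hb (fun _ => hne.symm) M
  exact ⟨q, hq, hqi⟩

/-- A walk can be prolonged backwards. -/
theorem exists_back {L : ℕ} {p : ℕ → Ω} (h : D.Wk L p) (hL : 1 ≤ L) (M : ℕ) :
    ∃ q, D.Wk (L + M) q ∧ ∀ i ≤ L, q (i + M) = p i := by
  obtain ⟨r, hr, hri⟩ := D.exists_ext (D.wk_rev h) hL M
  refine ⟨_, D.wk_rev hr, fun i hi => ?_⟩
  show r (L + M - (i + M)) = p i
  rw [hri _ (by omega), show L - (L + M - (i + M)) = i by omega]

/-- A walk can be prolonged backwards through any admissible vertex. -/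
theorem exists_cons {L : ℕ} {p : ℕ → Ω} (h : D.Wk L p) {b : Ω} (hb : D.Adj b (p 0))
    (hne : 1 ≤ L → b ≠ p 1) : ∃ q, D.Wk (1 + L) q ∧ q 0 = b ∧ ∀ i ≤ L, q (i + 1) = p i := by
  have h1 : D.Wk 1 (fun i => if i = 0 then b else p 0) :=
    ⟨fun i hi => by obtain rfl : i = 0 := (by omega); simpa using hb, fun i hi => absurd hi (by omega)⟩
  refine ⟨_, D.wk_join h1 h (by simp) (fun _ hL => by simpa using hne hL), by simp, fun i hi => ?_⟩
  simp

/-- A walk of length two. -/
theorem wk_two {a b c : Ω} (h : D.Adj a b) (h' : D.Adj b c) (hne : c ≠ a) :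
    D.Wk 2 (fun i => if i = 0 then a else if i = 1 then b else c) :=
  ⟨fun i hi => by rcases i with _ | _ | i <;> first | simpa using h | simpa using h' | omega,
   fun i hi => by obtain rfl : i = 0 := (by omega); simpa using hne⟩

/-- An element fixing a vertex and a neighbour sends another moved neighbour to the third one. -/
theorem smul_third {x a b c : Ω} {g : G} (ha : D.Adj x a) (hb : D.Adj x b) (hc : D.Adj x c)
    (hab : b ≠ a) (hac : c ≠ a) (hbc : c ≠ b) (gx : g • x = x) (ga : g • a = a) (gb : g • b ≠ b) :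
    g • b = c := by
  rcases D.nbr_cases ha hb hc hab hac hbc (D.adj_smul_of_fix gx hb) with e | e | e
  · exact absurd ((MulAction.injective g) (e.trans ga.symm)) hab
  · exact absurd e gb
  · exact e

end Cubic

namespace Centred

variable {D} (C : Centred D)

theorem z_smul_smul {a : Ω} (ha : C.isY a) (v : Ω) : C.z a • C.z a • v = v := by
  rw [← mul_smul, C.z_sq ha, one_smul]

/-- The involution of a sibling differs by the involution of the parent's other neighbour. -/
theorem z_sibling {a x b c : Ω} (ha : D.Adj x a) (hb : D.Adj x b) (hc : D.Adj x c) (hab : b ≠ a)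
    (hac : c ≠ a) (hbc : c ≠ b) (hY : C.isY a) : C.z c = C.z a * C.z b :=
  (C.tri ha hb hc hab hac hbc hY).symm

theorem z_fix_near {a v : Ω} (ha : C.isY a) {n : ℕ} (hn : n ≤ C.R) (h : D.Near n a v) :
    C.z a • v = v := C.z_ball ha v (D.near_mono hn h)

theorem comm_wk {L i j : ℕ} {p : ℕ → Ω} (h : D.Wk L p) (hi : C.isY (p i)) (hj' : C.isY (p j))
    (hiL : i ≤ L) (hjL : j ≤ L) (h1 : i ≤ j + C.R) (h2 : j ≤ i + C.R) :
    C.z (p i) * C.z (p j) = C.z (p j) * C.z (p i) :=
  C.z_cent hj' _ (C.z_fix_wk h hi hjL hiL h1 h2)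

/-- `Mv` only depends on the two ends. -/
theorem mv_congr {p q : ℕ → Ω} (hp : C.Mv p) (h0 : p 0 = q 0) (hR : p C.R = q C.R) : C.Mv q := by
  obtain ⟨u, hu, hne⟩ := hp
  exact ⟨u, hR ▸ hu, h0 ▸ hne⟩

/-- Along a longer walk the involution of an end moves the vertex at distance beyond the radius. -/
theorem mv_next {L : ℕ} {p : ℕ → Ω} (hp : D.Wk L p) (hL : C.R + 1 ≤ L) (h0 : C.isY (p 0))
    (hm : C.Mv p) : C.z (p 0) • p (C.R + 1) ≠ p (C.R + 1) := by
  have hR := C.two_le_R h0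
  refine C.mv_moves (D.wk_mono hp (by omega)) h0 hm (hp.1 C.R (by omega)) ?_
  have := D.wk_ne hp (i := C.R - 1) (by omega)
  rwa [show C.R - 1 + 2 = C.R + 1 by omega] at this

theorem mv_of_moves {L : ℕ} {p : ℕ → Ω} (hp : D.Wk L p) (hL : C.R + 1 ≤ L)
    (h : C.z (p 0) • p (C.R + 1) ≠ p (C.R + 1)) : C.Mv p :=
  ⟨_, hp.1 C.R (by omega), h⟩

/-- Transitivity carries moving from one walk to any other. -/
theorem mv_of_tr (h : C.Tr C.R) {p q : ℕ → Ω} (hp : D.Wk C.R p) (hq : D.Wk C.R q)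
    (h0 : C.isY (p 0)) (h0' : C.isY (q 0)) (hm : C.Mv p) : C.Mv q := by
  obtain ⟨g, hg⟩ := h p q hp hq h0 h0'
  exact C.mv_conj hm h0 (hg 0 (Nat.zero_le _)) (hg C.R le_rfl)

/-- Climbing from three to a longer length. -/
theorem climb_all {n : ℕ} {y : Ω} (hy : C.isY y)
    (h : ∀ j, 3 ≤ j → j < n → ∃ (P : ℕ → Ω) (e : G), D.Wk (j + 1) P ∧ C.isY (P 0) ∧
      (∀ i ≤ j, e • P i = P i) ∧ e • P (j + 1) ≠ P (j + 1)) (hn : 3 ≤ n) : C.Tr n := by
  have key : ∀ j, 3 ≤ j → j ≤ n → C.Tr j := by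
    intro j hj
    induction j, hj using Nat.le_induction with
    | base => exact fun _ => C.tr_three hy
    | succ j hj ih =>
      intro hjn
      obtain ⟨P, e, hP, hP0, hfix, hmov⟩ := h j hj (by omega)
      exact C.climb (by omega) (ih (by omega)) hP hP0 hfix hmov
  exact key n hn le_rfl

/-- The group of the involutions within two steps. -/
def W (a : Ω) : Subgroup G :=
  Subgroup.closure {g | ∃ c v, D.Adj a c ∧ D.Adj c v ∧ C.isY v ∧ g = C.z v}

theorem z_mem_W {a c v : Ω} (h : D.Adj a c) (h' : D.Adj c v) (hv : C.isY v) : C.z v ∈ C.W a :=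
  Subgroup.subset_closure ⟨c, v, h, h', hv, rfl⟩

theorem W_le {a : Ω} {H : Subgroup G}
    (h : ∀ c v, D.Adj a c → D.Adj c v → C.isY v → C.z v ∈ H) : C.W a ≤ H :=
  (Subgroup.closure_le _).mpr fun _ ⟨c, v, h1, h2, h3, e⟩ => e ▸ h c v h1 h2 h3

theorem conj_W {a : Ω} (g : G) : ∀ n ∈ C.W a, g * n * g⁻¹ ∈ C.W (g • a) :=
  conj_closure fun _ ⟨c, v, h1, h2, h3, e⟩ => by
    rw [e, ← C.z_conj g h3]
    exact C.z_mem_W (D.equiv g h1) (D.equiv g h2) ((C.isY_smul g v).mpr h3)

theorem W_fix {a : Ω} {n : ℕ} (hn : n + 2 ≤ C.R) {u : Ω} (hu : D.Near n a u) :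
    C.W a ≤ stabilizer G u :=
  C.W_le fun _ _ h1 h2 h3 => C.z_fix_near h3 (by omega)
    (D.near_trans (D.near_symm (D.near_cons h1 (D.near_adj h2))) hu)

end Centred

theorem mem_normalizer' {N : Subgroup G} {g : G} (ha : ∀ n ∈ N, g * n * g⁻¹ ∈ N)
    (hb : ∀ n ∈ N, g⁻¹ * n * g ∈ N) : g ∈ Subgroup.normalizer ((N : Subgroup G) : Set G) :=
  Subgroup.mem_normalizer_iff.mpr fun m => ⟨ha m, fun hm => by
    have := hb _ hm
    simpa [mul_assoc] using this⟩

end CfsgLib.CubicRadius
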